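import Cfsg.Agent.H15.O8F

/-! The unipotent group of the large Ree group is presented by its commutator relations. -/

set_option autoImplicit false
set_option linter.unusedSimpArgs false
set_option linter.unnecessarySeqFocus false

namespace Cfsg.Agent.H75.O8

open Cfsg.Agent.H39 Cfsg.Agent.H15.O8

variable {K : Type*} [Field K] {T : Tits K} {G : Type*} [Group G]

theorem gen0 (t : K) : gen T 0 t = x1 T t := rfl
theorem gen1 (t : K) : gen T 1 t = y2 T t := rfl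
theorem gen2 (t : K) : gen T 2 t = x2 T t := rfl
theorem gen3 (t : K) : gen T 3 t = x3 T t := rfl
theorem gen4 (t : K) : gen T 4 t = y4 T t := rfl
theorem gen5 (t : K) : gen T 5 t = x4 T t := rfl
theorem gen6 (t : K) : gen T 6 t = x5 T t := rfl
theorem gen7 (t : K) : gen T 7 t = y6 T t := rfl
theorem gen8 (t : K) : gen T 8 t = x6 T t := rfl
theorem gen9 (t : K) : gen T 9 t = x7 T t := rfl
theorem gen10 (t : K) : gen T 10 t = y8 T t := rfl
theorem gen11 (t : K) : gen T 11 t = x8 T t := rfl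

theorem fin12 (k : Fin 12) : k = 0 ∨ k = 1 ∨ k = 2 ∨ k = 3 ∨ k = 4 ∨ k = 5 ∨ k = 6 ∨ k = 7 ∨
    k = 8 ∨ k = 9 ∨ k = 10 ∨ k = 11 := by revert k; decide

/-- The first `k` coordinates vanish. -/
def N (k : ℕ) (w : U T) : Prop :=
  (0 < k → w.a1 = 0) ∧ (1 < k → w.b2 = 0) ∧ (2 < k → w.a2 = 0) ∧ (3 < k → w.a3 = 0) ∧
  (4 < k → w.b4 = 0) ∧ (5 < k → w.a4 = 0) ∧ (6 < k → w.a5 = 0) ∧ (7 < k → w.b6 = 0) ∧
  (8 < k → w.a6 = 0) ∧ (9 < k → w.a7 = 0) ∧ (10 < k → w.b8 = 0) ∧ (11 < k → w.a8 = 0)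

theorem N.mono {k m : ℕ} {w : U T} (h : N m w) (hk : k ≤ m) : N k w := by
  obtain ⟨h0, h1, h2, h3, h4, h5, h6, h7, h8, h9, h10, h11⟩ := h
  exact ⟨fun e => h0 (by omega), fun e => h1 (by omega), fun e => h2 (by omega),
    fun e => h3 (by omega), fun e => h4 (by omega), fun e => h5 (by omega), fun e => h6 (by omega),
    fun e => h7 (by omega), fun e => h8 (by omega), fun e => h9 (by omega),
    fun e => h10 (by omega), fun e => h11 (by omega)⟩

theorem N.mul {k : ℕ} {w v : U T} (h : N k w) (h' : N k v) : N k (w * v) := by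
  obtain ⟨h0, h1, h2, h3, h4, h5, h6, h7, h8, h9, h10, h11⟩ := h
  obtain ⟨k0, k1, k2, k3, k4, k5, k6, k7, k8, k9, k10, k11⟩ := h'
  refine ⟨fun e => ?_, fun e => ?_, fun e => ?_, fun e => ?_, fun e => ?_, fun e => ?_, fun e => ?_,
    fun e => ?_, fun e => ?_, fun e => ?_, fun e => ?_, fun e => ?_⟩ <;> o8s <;>
    simp (disch := omega) only [h0, h1, h2, h3, h4, h5, h6, h7, h8, h9, h10, h11, k0, k1, k2, k3,
      k4, k5, k6, k7, k8, k9, k10, k11, map_zero, mul_zero, zero_mul, add_zero, ne_eq,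
      OfNat.ofNat_ne_zero, not_false_eq_true, zero_pow]

theorem N.eq_one {w : U T} (h : N 12 w) : w = 1 := by
  obtain ⟨h0, h1, h2, h3, h4, h5, h6, h7, h8, h9, h10, h11⟩ := h
  ext <;> o8s <;> simp (disch := omega) only [h0, h1, h2, h3, h4, h5, h6, h7, h8, h9, h10, h11]

theorem N_gen (k : Fin 12) (t : K) : N k (gen T k t) := by
  rcases fin12 k with rfl | rfl | rfl | rfl | rfl | rfl | rfl | rfl | rfl | rfl | rfl | rfl <;>
    refine ⟨fun e => ?_, fun e => ?_, fun e => ?_, fun e => ?_, fun e => ?_, fun e => ?_,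
      fun e => ?_, fun e => ?_, fun e => ?_, fun e => ?_, fun e => ?_, fun e => ?_⟩ <;>
    first | rfl | exact absurd e (by decide)

variable {g : Fin 12 → K → G} (h0 : ∀ i, g i 0 = 1)
include h0

theorem Φ_one : Φ g (1 : U T) = 1 := by
  simp only [Φ, U.one_a1, U.one_b2, U.one_a2, U.one_a3, U.one_b4, U.one_a4, U.one_a5, U.one_b6,
    U.one_a6, U.one_a7, U.one_b8, U.one_a8, h0, mul_one]

theorem Φ_gen (k : Fin 12) (t : K) : Φ g (gen T k t) = g k t := by
  rcases fin12 k with rfl | rfl | rfl | rfl | rfl | rfl | rfl | rfl | rfl | rfl | rfl | rfl <;>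
    simp only [gen0, gen1, gen2, gen3, gen4, gen5, gen6, gen7, gen8, gen9, gen10, gen11, Φ, x1, y2,
      x2, x3, y4, x4, x5, y6, x6, x7, y8, x8, h0, mul_one, one_mul]

omit h0 in
theorem split (k : Fin 12) {w : U T} (h : N k w) : ∃ t v, N (k + 1) v ∧ w = gen T k t * v := by
  obtain ⟨a0, a1, a2, a3, a4, a5, a6, a7, a8, a9, a10, a11⟩ := w
  rcases fin12 k with rfl | rfl | rfl | rfl | rfl | rfl | rfl | rfl | rfl | rfl | rfl | rfl
  · refine ⟨a0, ⟨0, a1, a2, a3, a4, a5, a6, a7, a8, a9, a10, a11⟩, by simp [N], ?_⟩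
    simp only [gen0]
    o8s
  · refine ⟨a1, ⟨0, 0, a2, a3, a4, a5, a6, a7, a8, a9, a10, a11⟩, by simp [N], ?_⟩
    simp [N] at h
    simp only [gen1, h]
    o8s
  · refine ⟨a2, ⟨0, 0, 0, a3, a4, a5, a6, a7, a8, a9, a10, a11⟩, by simp [N], ?_⟩
    simp [N] at h
    simp only [gen2, h]
    o8s
  · refine ⟨a3, ⟨0, 0, 0, 0, a4, a5, a6, a7, a8, a9, a10, a11⟩, by simp [N], ?_⟩
    simp [N] at h
    simp only [gen3, h]
    o8s
  · refine ⟨a4, ⟨0, 0, 0, 0, 0, a5, a6, a7, a8, a9, a10, a11⟩, by simp [N], ?_⟩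
    simp [N] at h
    simp only [gen4, h]
    o8s
  · refine ⟨a5, ⟨0, 0, 0, 0, 0, 0, a6, a7, a8, a9, a10, a11⟩, by simp [N], ?_⟩
    simp [N] at h
    simp only [gen5, h]
    o8s
  · refine ⟨a6, ⟨0, 0, 0, 0, 0, 0, 0, a7, a8, a9, a10, a11⟩, by simp [N], ?_⟩
    simp [N] at h
    simp only [gen6, h]
    o8s
  · refine ⟨a7, ⟨0, 0, 0, 0, 0, 0, 0, 0, a8, a9, a10, a11⟩, by simp [N], ?_⟩
    simp [N] at h
    simp only [gen7, h]
    o8s
  · refine ⟨a8, ⟨0, 0, 0, 0, 0, 0, 0, 0, 0, a9, a10, a11⟩, by simp [N], ?_⟩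
    simp [N] at h
    simp only [gen8, h]
    o8s
  · refine ⟨a9, ⟨0, 0, 0, 0, 0, 0, 0, 0, 0, 0, a10, a11⟩, by simp [N], ?_⟩
    simp [N] at h
    simp only [gen9, h]
    o8s
  · refine ⟨a10, ⟨0, 0, 0, 0, 0, 0, 0, 0, 0, 0, 0, a11⟩, by simp [N], ?_⟩
    simp [N] at h
    simp only [gen10, h]
    o8s
  · refine ⟨a11, ⟨0, 0, 0, 0, 0, 0, 0, 0, 0, 0, 0, 0⟩, by simp [N], ?_⟩
    simp [N] at h
    simp only [gen11, h]
    o8s

theorem Φ_gen_mul (k : Fin 12) (t : K) {v : U T} (h : N (k + 1) v) :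
    Φ g (gen T k t * v) = g k t * Φ g v := by
  obtain ⟨a0, a1, a2, a3, a4, a5, a6, a7, a8, a9, a10, a11⟩ := v
  rcases fin12 k with rfl | rfl | rfl | rfl | rfl | rfl | rfl | rfl | rfl | rfl | rfl | rfl <;>
    simp [N] at h <;>
    simp only [gen0, gen1, gen2, gen3, gen4, gen5, gen6, gen7, gen8, gen9, gen10, gen11, Φ, h] <;>
    o8s <;> simp only [h0, mul_assoc, one_mul, mul_one]

theorem mul_of (k : ℕ) (P : ∀ j : Fin 12, k ≤ j → ∀ u, ∀ v : U T, N k v →
    Φ g (gen T j u * v) = g j u * Φ g v) {w v : U T} (hw : N k w) (hv : N k v) :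
    Φ g (w * v) = Φ g w * Φ g v := by
  have : ∀ n m : ℕ, m + n = 12 → k ≤ m → ∀ w : U T, N m w → Φ g (w * v) = Φ g w * Φ g v := by
    intro n
    induction n with
    | zero => intro m e _ w hw; rw [N.eq_one (hw.mono (by omega)), one_mul, Φ_one h0, one_mul]
    | succ n ih =>
      intro m e hm w hw
      obtain ⟨t, w', h1, rfl⟩ := split ⟨m, by omega⟩ hw
      rw [mul_assoc, P _ hm _ _ ((h1.mono (by simp; omega)).mul hv), ih (m + 1) (by omega)
        (by omega) w' h1, Φ_gen_mul h0 _ _ h1, mul_assoc]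
  by_cases hk : k ≤ 12
  · exact this (12 - k) k (by omega) le_rfl w hw
  · rw [N.eq_one (hw.mono (by omega)), one_mul, Φ_one h0, one_mul]

omit h0 in
theorem lift : Lift T G := by
  intro g h0 hr w w'
  have : ∀ n k : ℕ, k + n = 12 → ∀ j : Fin 12, k ≤ j → ∀ u, ∀ v : U T, N k v →
      Φ g (gen T j u * v) = g j u * Φ g v := by
    intro n
    induction n with
    | zero => intro k e j hj; omega
    | succ n ih =>
      intro k e j hj u v hv
      obtain ⟨t, v', h1, rfl⟩ := split ⟨k, by omega⟩ hv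
      obtain ⟨s, z, z1, z2⟩ := split ⟨k, by omega⟩
        (((N_gen j u).mono hj).mul (N_gen (T := T) ⟨k, by omega⟩ t))
      rw [Φ_gen_mul h0 _ _ h1, ← mul_assoc, ← mul_assoc, hr _ _ hj, z2, mul_assoc,
        Φ_gen_mul h0 _ _ (z1.mul h1), Φ_gen_mul h0 _ _ z1,
        mul_of h0 (k + 1) (ih (k + 1) (by omega)) z1 h1, mul_assoc]
  exact mul_of h0 0 (this 12 0 rfl) (by simp [N]) (by simp [N])

/-- The homomorphism given by elements satisfying the commutator relations. -/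
def liftHom (hr : ∀ i j, i ≤ j → ∀ t u, g j u * g i t = Φ g (gen T j u * gen T i t)) : U T →* G :=
  MonoidHom.mk' (Φ g) (lift g h0 hr)

theorem liftHom_apply (hr : ∀ i j, i ≤ j → ∀ t u, g j u * g i t = Φ g (gen T j u * gen T i t))
    (w : U T) : liftHom h0 hr w = Φ g w := rfl

theorem liftHom_gen (hr : ∀ i j, i ≤ j → ∀ t u, g j u * g i t = Φ g (gen T j u * gen T i t))
    (i : Fin 12) (t : K) : liftHom h0 hr (gen T i t) = g i t := Φ_gen h0 i t

end Cfsg.Agent.H75.O8
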