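import Mathlib
import Cfsg.Agent.H75.O8Lift
import Cfsg.Agent.H34.TwF4

/-!
The root elements of the large Ree group as words in the Chevalley group of type `F₄`, and their
commutator relations.
-/

set_option autoImplicit false

namespace Cfsg.Agent.H75.O8

open Cfsg.Agent.H15.O8 Cfsg.Agent.H39 Cfsg.Agent.H34 Cfsg.Agent.H37 Cfsg.Agent.H40 Cfsg.Lie Cert

/-- The roots of the letters. -/
def rl : ℕ → List ℕ
  | 0 => [33, 24] | 1 => [34, 26, 36] | 2 => [36, 42] | 3 => [38, 43] | 4 => [29, 41, 44]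
  | 5 => [44, 47] | 6 => [39, 45] | 7 => [35, 31, 40] | 8 => [40, 46] | 9 => [37, 32]
  | 10 => [27, 25, 28] | 11 => [28, 30] | 12 => [14, 23] | 13 => [20, 22, 19] | _ => [19, 17]

/-- Exponents of a monomial. -/
abbrev Ex := ℕ × ℕ × ℕ × ℕ

/-- The code of a monomial. -/
def cd (e : Ex) : ℕ := mon e.1 e.2.1 e.2.2.1 e.2.2.2 0 0

/-- The code of the image of a monomial. -/
def cd' (e : Ex) : ℕ := mon (2 * e.2.1) e.1 (2 * e.2.2.2) e.2.2.1 0 0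

/-- Words with polynomial parameters. -/
def zw (l : List ℕ) (P : List (List ℕ)) : List (ℕ × ℤ × ℕ) :=
  (l.zip P).flatMap fun p => p.2.map fun m => (p.1, 1, m)

/-- The word of a letter. -/
def fw (x : ℕ × List Ex) : List (ℕ × ℤ × ℕ) :=
  zw (rl x.1) [x.2.map cd, x.2.map cd', (x.2.map cd).flatMap fun a => (x.2.map cd').map (a * ·)]

variable {K : Type*} [Field K] (T : Tits K)

/-- The root elements. -/
noncomputable def gw (k : ℕ) (t : K) : chevF4.group K :=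
  cF4.wg K ((rl k).zip [t, T.θ t, t * T.θ t])

/-- The value of a monomial. -/
def mv (t u : K) (e : Ex) : K := t ^ e.1 * T.θ t ^ e.2.1 * u ^ e.2.2.1 * T.θ u ^ e.2.2.2

/-- The value of a word in the letters. -/
noncomputable def evw (t u : K) (L : List (ℕ × List Ex)) : chevF4.group K :=
  (L.map fun x => gw T x.1 (x.2.map (mv T t u)).sum).prod

theorem wg_rep (μ : ℕ →* K) (r : ℕ) (l : List ℕ) :
    cF4.wg K (wordOf μ (l.map fun m => (r, 1, m))) = cF4.xg K r (l.map μ).sum := by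
  induction l with
  | nil => simp [wordOf, xg_zero]
  | cons a l ih => simpa [wordOf, xg_add] using ih

theorem wordOf_append (μ : ℕ →* K) (L R : List (ℕ × ℤ × ℕ)) :
    wordOf μ (L ++ R) = wordOf μ L ++ wordOf μ R := List.map_append

theorem wg_zw (μ : ℕ →* K) (l : List ℕ) (P : List (List ℕ)) :
    cF4.wg K (wordOf μ (zw l P)) = cF4.wg K (l.zip (P.map fun q => (q.map μ).sum)) := by
  induction l generalizing P with
  | nil => simp [zw, wordOf]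
  | cons a l ih =>
    cases P with
    | nil => simp [zw, wordOf]
    | cons q P =>
      have : zw (a :: l) (q :: P) = (q.map fun m => (a, 1, m)) ++ zw l P := rfl
      rw [this, wordOf_append, wg_append, wg_rep, ih]; rfl

theorem sum_flat (μ : ℕ →* K) (A B : List ℕ) :
    ((A.flatMap fun a => B.map (a * ·)).map μ).sum = (A.map μ).sum * (B.map μ).sum := by
  induction A with
  | nil => simp
  | cons a A ih =>
    rw [List.flatMap_cons, List.map_append, List.sum_append, ih, List.map_cons, List.sum_cons,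
      add_mul, List.map_map]
    simp [Function.comp_def, List.sum_map_mul_left]

theorem key [CharP K 2] (t u : K) (L R : List (ℕ × List Ex))
    (h : checkWP 2 4 48 (codeG 24 16777216 rowsF4) corF4 (L.flatMap fw) (R.flatMap fw) = true) :
    evw T t u L = evw T t u R := by
  obtain ⟨μ, hμ⟩ := exists_mu6 t (T.θ t) u (T.θ u) 0 0
  have h1 : ∀ e, μ (cd e) = mv T t u e := fun e => by simp [cd, hμ, mv]
  have h2 : ∀ e, μ (cd' e) = T.θ (mv T t u e) := fun e => by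
    simp only [cd', hμ, mv, map_mul, map_pow, T.θθ]; ring
  have h3 : ∀ x, cF4.wg K (wordOf μ (fw x)) = gw T x.1 (x.2.map (mv T t u)).sum := fun x => by
    have e1 : ((x.2.map cd).map μ).sum = (x.2.map (mv T t u)).sum := by
      simp [Function.comp_def, h1]
    have e2 : ((x.2.map cd').map μ).sum = T.θ (x.2.map (mv T t u)).sum := by
      simp [Function.comp_def, h2, map_list_sum]
    rw [fw, wg_zw, gw]
    simp only [List.map_cons, List.map_nil, sum_flat, e1, e2]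
  have h4 : ∀ L : List (ℕ × List Ex), cF4.wg K (wordOf μ (L.flatMap fw)) = evw T t u L := by
    intro L
    induction L with
    | nil => rfl
    | cons a L ih => rw [List.flatMap_cons, wordOf_append, wg_append, h3, ih]; rfl
  rw [← h4, ← h4]
  exact F4_wg_eq μ h

theorem wg_zero {w : List (ℕ × K)} (h : ∀ p ∈ w, p.2 = 0) : cF4.wg K w = 1 := by
  induction w with
  | nil => rfl
  | cons a w ih =>
    rw [wg_cons, h a List.mem_cons_self, xg_zero, one_mul]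
    exact ih fun p hp => h p (List.mem_cons_of_mem _ hp)

theorem gw_zero (k : ℕ) : gw T k 0 = 1 :=
  wg_zero fun p hp => by simpa using (List.of_mem_zip hp).2

/-- Identities between words in the letters. -/
macro "o8key" T:term:max t:term:max u:term:max L:term:max R:term:max : tactic =>
  `(tactic| simpa only [evw, mv, List.map_cons, List.map_nil, List.prod_cons, List.prod_nil,
      List.sum_cons, List.sum_nil, pow_zero, pow_one, mul_one, one_mul, add_zero, mul_assoc]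
      using key $T $t $u $L $R (by decide +kernel))

/-- The positive root elements. -/
noncomputable def gp (i : Fin 12) (t : K) : chevF4.group K := gw T i t

theorem gp0 (t : K) : gp T 0 t = gw T 0 t := rfl
theorem gp1 (t : K) : gp T 1 t = gw T 1 t := rfl
theorem gp2 (t : K) : gp T 2 t = gw T 2 t := rfl
theorem gp3 (t : K) : gp T 3 t = gw T 3 t := rfl
theorem gp4 (t : K) : gp T 4 t = gw T 4 t := rfl
theorem gp5 (t : K) : gp T 5 t = gw T 5 t := rfl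
theorem gp6 (t : K) : gp T 6 t = gw T 6 t := rfl
theorem gp7 (t : K) : gp T 7 t = gw T 7 t := rfl
theorem gp8 (t : K) : gp T 8 t = gw T 8 t := rfl
theorem gp9 (t : K) : gp T 9 t = gw T 9 t := rfl
theorem gp10 (t : K) : gp T 10 t = gw T 10 t := rfl
theorem gp11 (t : K) : gp T 11 t = gw T 11 t := rfl

theorem Φ_gp (w : U T) : Φ (gp T) w = gw T 0 w.a1 * gw T 1 w.b2 * gw T 2 w.a2 * gw T 3 w.a3 *
    gw T 4 w.b4 * gw T 5 w.a4 * gw T 6 w.a5 * gw T 7 w.b6 * gw T 8 w.a6 * gw T 9 w.a7 *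
    gw T 10 w.b8 * gw T 11 w.a8 := rfl

/-- The commutator relations. -/
macro "o8rel" T:term:max t:term:max u:term:max L:term:max R:term:max : tactic =>
  `(tactic| (rw [Φ_gp]; o8s; simp only [gw_zero, mul_one, one_mul, mul_assoc]
             o8key $T $t $u $L $R))

variable [CharP K 2]

theorem r0_0 (t u : K) : gw T 0 u * gw T 0 t = Φ (gp T) (x1 T u * x1 T t) := by
  o8rel T t u [(0, [(0, 0, 1, 0)]), (0, [(1, 0, 0, 0)])]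
    [(0, [(1, 0, 0, 0), (0, 0, 1, 0)])]

theorem r0_1 (t u : K) : gw T 1 u * gw T 0 t = Φ (gp T) (y2 T u * x1 T t) := by
  o8rel T t u [(1, [(0, 0, 1, 0)]), (0, [(1, 0, 0, 0)])]
    [(0, [(1, 0, 0, 0)]), (1, [(0, 0, 1, 0)])]

theorem r0_2 (t u : K) : gw T 2 u * gw T 0 t = Φ (gp T) (x2 T u * x1 T t) := by
  o8rel T t u [(2, [(0, 0, 1, 0)]), (0, [(1, 0, 0, 0)])]
    [(0, [(1, 0, 0, 0)]), (2, [(0, 0, 1, 0)])]

theorem r0_3 (t u : K) : gw T 3 u * gw T 0 t = Φ (gp T) (x3 T u * x1 T t) := by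
  o8rel T t u [(3, [(0, 0, 1, 0)]), (0, [(1, 0, 0, 0)])]
    [(0, [(1, 0, 0, 0)]), (3, [(0, 0, 1, 0)])]

theorem r0_4 (t u : K) : gw T 4 u * gw T 0 t = Φ (gp T) (y4 T u * x1 T t) := by
  o8rel T t u [(4, [(0, 0, 1, 0)]), (0, [(1, 0, 0, 0)])]
    [(0, [(1, 0, 0, 0)]), (2, [(1, 0, 1, 0)]), (4, [(0, 0, 1, 0)])]

theorem r0_5 (t u : K) : gw T 5 u * gw T 0 t = Φ (gp T) (x4 T u * x1 T t) := by
  o8rel T t u [(5, [(0, 0, 1, 0)]), (0, [(1, 0, 0, 0)])]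
    [(0, [(1, 0, 0, 0)]), (5, [(0, 0, 1, 0)])]

theorem r0_6 (t u : K) : gw T 6 u * gw T 0 t = Φ (gp T) (x5 T u * x1 T t) := by
  o8rel T t u [(6, [(0, 0, 1, 0)]), (0, [(1, 0, 0, 0)])]
    [(0, [(1, 0, 0, 0)]), (6, [(0, 0, 1, 0)])]

theorem r0_7 (t u : K) : gw T 7 u * gw T 0 t = Φ (gp T) (y6 T u * x1 T t) := by
  o8rel T t u [(7, [(0, 0, 1, 0)]), (0, [(1, 0, 0, 0)])]
    [(0, [(1, 0, 0, 0)]), (2, [(0, 1, 1, 0)]), (3, [(1, 0, 0, 1)]), (7, [(0, 0, 1, 0)])]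

theorem r0_8 (t u : K) : gw T 8 u * gw T 0 t = Φ (gp T) (x6 T u * x1 T t) := by
  o8rel T t u [(8, [(0, 0, 1, 0)]), (0, [(1, 0, 0, 0)])]
    [(0, [(1, 0, 0, 0)]), (5, [(1, 0, 1, 0)]), (8, [(0, 0, 1, 0)])]

theorem r0_9 (t u : K) : gw T 9 u * gw T 0 t = Φ (gp T) (x7 T u * x1 T t) := by
  o8rel T t u [(9, [(0, 0, 1, 0)]), (0, [(1, 0, 0, 0)])]
    [(0, [(1, 0, 0, 0)]), (3, [(0, 1, 1, 0)]), (6, [(1, 0, 0, 1)]), (9, [(0, 0, 1, 0)])]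

theorem r0_10 (t u : K) : gw T 10 u * gw T 0 t = Φ (gp T) (y8 T u * x1 T t) := by
  o8rel T t u [(10, [(0, 0, 1, 0)]), (0, [(1, 0, 0, 0)])]
    [(0, [(1, 0, 0, 0)]), (1, [(1, 0, 1, 0)]), (3, [(1, 1, 2, 1)]), (5, [(2, 1, 3, 2)]), (6, [(1, 1, 2, 2)]), (7, [(1, 0, 1, 1)]), (8, [(1, 1, 3, 2)]), (9, [(1, 0, 2, 1)]), (10, [(0, 0, 1, 0)])]

theorem r0_11 (t u : K) : gw T 11 u * gw T 0 t = Φ (gp T) (x8 T u * x1 T t) := by
  o8rel T t u [(11, [(0, 0, 1, 0)]), (0, [(1, 0, 0, 0)])]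
    [(0, [(1, 0, 0, 0)]), (2, [(1, 1, 1, 0)]), (3, [(1, 1, 0, 1)]), (4, [(0, 1, 1, 0)]), (5, [(2, 1, 1, 1)]), (6, [(1, 1, 2, 0)]), (7, [(1, 0, 1, 0)]), (9, [(1, 0, 0, 1)]), (11, [(0, 0, 1, 0)])]

theorem r1_1 (t u : K) : gw T 1 u * gw T 1 t = Φ (gp T) (y2 T u * y2 T t) := by
  o8rel T t u [(1, [(0, 0, 1, 0)]), (1, [(1, 0, 0, 0)])]
    [(1, [(1, 0, 0, 0), (0, 0, 1, 0)]), (2, [(0, 1, 1, 0)])]

theorem r1_2 (t u : K) : gw T 2 u * gw T 1 t = Φ (gp T) (x2 T u * y2 T t) := by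
  o8rel T t u [(2, [(0, 0, 1, 0)]), (1, [(1, 0, 0, 0)])]
    [(1, [(1, 0, 0, 0)]), (2, [(0, 0, 1, 0)])]

theorem r1_3 (t u : K) : gw T 3 u * gw T 1 t = Φ (gp T) (x3 T u * y2 T t) := by
  o8rel T t u [(3, [(0, 0, 1, 0)]), (1, [(1, 0, 0, 0)])]
    [(1, [(1, 0, 0, 0)]), (3, [(0, 0, 1, 0)])]

theorem r1_4 (t u : K) : gw T 4 u * gw T 1 t = Φ (gp T) (y4 T u * y2 T t) := by
  o8rel T t u [(4, [(0, 0, 1, 0)]), (1, [(1, 0, 0, 0)])]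
    [(1, [(1, 0, 0, 0)]), (3, [(1, 0, 1, 0)]), (4, [(0, 0, 1, 0)])]

theorem r1_5 (t u : K) : gw T 5 u * gw T 1 t = Φ (gp T) (x4 T u * y2 T t) := by
  o8rel T t u [(5, [(0, 0, 1, 0)]), (1, [(1, 0, 0, 0)])]
    [(1, [(1, 0, 0, 0)]), (5, [(0, 0, 1, 0)])]

theorem r1_6 (t u : K) : gw T 6 u * gw T 1 t = Φ (gp T) (x5 T u * y2 T t) := by
  o8rel T t u [(6, [(0, 0, 1, 0)]), (1, [(1, 0, 0, 0)])]
    [(1, [(1, 0, 0, 0)]), (5, [(1, 0, 1, 0)]), (6, [(0, 0, 1, 0)])]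

theorem r1_7 (t u : K) : gw T 7 u * gw T 1 t = Φ (gp T) (y6 T u * y2 T t) := by
  o8rel T t u [(7, [(0, 0, 1, 0)]), (1, [(1, 0, 0, 0)])]
    [(1, [(1, 0, 0, 0)]), (7, [(0, 0, 1, 0)])]

theorem r1_8 (t u : K) : gw T 8 u * gw T 1 t = Φ (gp T) (x6 T u * y2 T t) := by
  o8rel T t u [(8, [(0, 0, 1, 0)]), (1, [(1, 0, 0, 0)])]
    [(1, [(1, 0, 0, 0)]), (8, [(0, 0, 1, 0)])]

theorem r1_9 (t u : K) : gw T 9 u * gw T 1 t = Φ (gp T) (x7 T u * y2 T t) := by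
  o8rel T t u [(9, [(0, 0, 1, 0)]), (1, [(1, 0, 0, 0)])]
    [(1, [(1, 0, 0, 0)]), (5, [(1, 1, 1, 0)]), (6, [(0, 1, 1, 0)]), (8, [(1, 0, 0, 1)]), (9, [(0, 0, 1, 0)])]

theorem r1_10 (t u : K) : gw T 10 u * gw T 1 t = Φ (gp T) (y8 T u * y2 T t) := by
  o8rel T t u [(10, [(0, 0, 1, 0)]), (1, [(1, 0, 0, 0)])]
    [(1, [(1, 0, 0, 0)]), (3, [(1, 1, 1, 0)]), (4, [(0, 1, 1, 0)]), (5, [(2, 1, 1, 1)]), (7, [(1, 0, 0, 1)]), (10, [(0, 0, 1, 0)])]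

theorem r1_11 (t u : K) : gw T 11 u * gw T 1 t = Φ (gp T) (x8 T u * y2 T t) := by
  o8rel T t u [(11, [(0, 0, 1, 0)]), (1, [(1, 0, 0, 0)])]
    [(1, [(1, 0, 0, 0)]), (5, [(2, 1, 1, 0)]), (8, [(1, 1, 0, 1)]), (9, [(1, 0, 1, 0)]), (11, [(0, 0, 1, 0)])]

theorem r2_2 (t u : K) : gw T 2 u * gw T 2 t = Φ (gp T) (x2 T u * x2 T t) := by
  o8rel T t u [(2, [(0, 0, 1, 0)]), (2, [(1, 0, 0, 0)])]
    [(2, [(1, 0, 0, 0), (0, 0, 1, 0)])]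

theorem r2_3 (t u : K) : gw T 3 u * gw T 2 t = Φ (gp T) (x3 T u * x2 T t) := by
  o8rel T t u [(3, [(0, 0, 1, 0)]), (2, [(1, 0, 0, 0)])]
    [(2, [(1, 0, 0, 0)]), (3, [(0, 0, 1, 0)])]

theorem r2_4 (t u : K) : gw T 4 u * gw T 2 t = Φ (gp T) (y4 T u * x2 T t) := by
  o8rel T t u [(4, [(0, 0, 1, 0)]), (2, [(1, 0, 0, 0)])]
    [(2, [(1, 0, 0, 0)]), (4, [(0, 0, 1, 0)])]

theorem r2_5 (t u : K) : gw T 5 u * gw T 2 t = Φ (gp T) (x4 T u * x2 T t) := by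
  o8rel T t u [(5, [(0, 0, 1, 0)]), (2, [(1, 0, 0, 0)])]
    [(2, [(1, 0, 0, 0)]), (5, [(0, 0, 1, 0)])]

theorem r2_6 (t u : K) : gw T 6 u * gw T 2 t = Φ (gp T) (x5 T u * x2 T t) := by
  o8rel T t u [(6, [(0, 0, 1, 0)]), (2, [(1, 0, 0, 0)])]
    [(2, [(1, 0, 0, 0)]), (6, [(0, 0, 1, 0)])]

theorem r2_7 (t u : K) : gw T 7 u * gw T 2 t = Φ (gp T) (y6 T u * x2 T t) := by
  o8rel T t u [(7, [(0, 0, 1, 0)]), (2, [(1, 0, 0, 0)])]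
    [(2, [(1, 0, 0, 0)]), (7, [(0, 0, 1, 0)])]

theorem r2_8 (t u : K) : gw T 8 u * gw T 2 t = Φ (gp T) (x6 T u * x2 T t) := by
  o8rel T t u [(8, [(0, 0, 1, 0)]), (2, [(1, 0, 0, 0)])]
    [(2, [(1, 0, 0, 0)]), (8, [(0, 0, 1, 0)])]

theorem r2_9 (t u : K) : gw T 9 u * gw T 2 t = Φ (gp T) (x7 T u * x2 T t) := by
  o8rel T t u [(9, [(0, 0, 1, 0)]), (2, [(1, 0, 0, 0)])]
    [(2, [(1, 0, 0, 0)]), (5, [(1, 0, 1, 0)]), (9, [(0, 0, 1, 0)])]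

theorem r2_10 (t u : K) : gw T 10 u * gw T 2 t = Φ (gp T) (y8 T u * x2 T t) := by
  o8rel T t u [(10, [(0, 0, 1, 0)]), (2, [(1, 0, 0, 0)])]
    [(2, [(1, 0, 0, 0)]), (3, [(1, 0, 1, 0)]), (6, [(1, 0, 1, 1)]), (8, [(1, 0, 2, 1)]), (10, [(0, 0, 1, 0)])]

theorem r2_11 (t u : K) : gw T 11 u * gw T 2 t = Φ (gp T) (x8 T u * x2 T t) := by
  o8rel T t u [(11, [(0, 0, 1, 0)]), (2, [(1, 0, 0, 0)])]
    [(2, [(1, 0, 0, 0)]), (5, [(0, 1, 1, 0)]), (6, [(1, 0, 1, 0)]), (8, [(1, 0, 0, 1)]), (11, [(0, 0, 1, 0)])]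

theorem r3_3 (t u : K) : gw T 3 u * gw T 3 t = Φ (gp T) (x3 T u * x3 T t) := by
  o8rel T t u [(3, [(0, 0, 1, 0)]), (3, [(1, 0, 0, 0)])]
    [(3, [(1, 0, 0, 0), (0, 0, 1, 0)])]

theorem r3_4 (t u : K) : gw T 4 u * gw T 3 t = Φ (gp T) (y4 T u * x3 T t) := by
  o8rel T t u [(4, [(0, 0, 1, 0)]), (3, [(1, 0, 0, 0)])]
    [(3, [(1, 0, 0, 0)]), (4, [(0, 0, 1, 0)])]

theorem r3_5 (t u : K) : gw T 5 u * gw T 3 t = Φ (gp T) (x4 T u * x3 T t) := by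
  o8rel T t u [(5, [(0, 0, 1, 0)]), (3, [(1, 0, 0, 0)])]
    [(3, [(1, 0, 0, 0)]), (5, [(0, 0, 1, 0)])]

theorem r3_6 (t u : K) : gw T 6 u * gw T 3 t = Φ (gp T) (x5 T u * x3 T t) := by
  o8rel T t u [(6, [(0, 0, 1, 0)]), (3, [(1, 0, 0, 0)])]
    [(3, [(1, 0, 0, 0)]), (6, [(0, 0, 1, 0)])]

theorem r3_7 (t u : K) : gw T 7 u * gw T 3 t = Φ (gp T) (y6 T u * x3 T t) := by
  o8rel T t u [(7, [(0, 0, 1, 0)]), (3, [(1, 0, 0, 0)])]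
    [(3, [(1, 0, 0, 0)]), (5, [(1, 0, 1, 0)]), (7, [(0, 0, 1, 0)])]

theorem r3_8 (t u : K) : gw T 8 u * gw T 3 t = Φ (gp T) (x6 T u * x3 T t) := by
  o8rel T t u [(8, [(0, 0, 1, 0)]), (3, [(1, 0, 0, 0)])]
    [(3, [(1, 0, 0, 0)]), (8, [(0, 0, 1, 0)])]

theorem r3_9 (t u : K) : gw T 9 u * gw T 3 t = Φ (gp T) (x7 T u * x3 T t) := by
  o8rel T t u [(9, [(0, 0, 1, 0)]), (3, [(1, 0, 0, 0)])]
    [(3, [(1, 0, 0, 0)]), (9, [(0, 0, 1, 0)])]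

theorem r3_10 (t u : K) : gw T 10 u * gw T 3 t = Φ (gp T) (y8 T u * x3 T t) := by
  o8rel T t u [(10, [(0, 0, 1, 0)]), (3, [(1, 0, 0, 0)])]
    [(3, [(1, 0, 0, 0)]), (5, [(0, 1, 1, 0)]), (6, [(1, 0, 0, 1)]), (10, [(0, 0, 1, 0)])]

theorem r3_11 (t u : K) : gw T 11 u * gw T 3 t = Φ (gp T) (x8 T u * x3 T t) := by
  o8rel T t u [(11, [(0, 0, 1, 0)]), (3, [(1, 0, 0, 0)])]
    [(3, [(1, 0, 0, 0)]), (8, [(1, 0, 1, 0)]), (11, [(0, 0, 1, 0)])]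

theorem r4_4 (t u : K) : gw T 4 u * gw T 4 t = Φ (gp T) (y4 T u * y4 T t) := by
  o8rel T t u [(4, [(0, 0, 1, 0)]), (4, [(1, 0, 0, 0)])]
    [(4, [(1, 0, 0, 0), (0, 0, 1, 0)]), (5, [(0, 1, 1, 0)])]

theorem r4_5 (t u : K) : gw T 5 u * gw T 4 t = Φ (gp T) (x4 T u * y4 T t) := by
  o8rel T t u [(5, [(0, 0, 1, 0)]), (4, [(1, 0, 0, 0)])]
    [(4, [(1, 0, 0, 0)]), (5, [(0, 0, 1, 0)])]

theorem r4_6 (t u : K) : gw T 6 u * gw T 4 t = Φ (gp T) (x5 T u * y4 T t) := by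
  o8rel T t u [(6, [(0, 0, 1, 0)]), (4, [(1, 0, 0, 0)])]
    [(4, [(1, 0, 0, 0)]), (6, [(0, 0, 1, 0)])]

theorem r4_7 (t u : K) : gw T 7 u * gw T 4 t = Φ (gp T) (y6 T u * y4 T t) := by
  o8rel T t u [(7, [(0, 0, 1, 0)]), (4, [(1, 0, 0, 0)])]
    [(4, [(1, 0, 0, 0)]), (6, [(1, 0, 1, 0)]), (7, [(0, 0, 1, 0)])]

theorem r4_8 (t u : K) : gw T 8 u * gw T 4 t = Φ (gp T) (x6 T u * y4 T t) := by
  o8rel T t u [(8, [(0, 0, 1, 0)]), (4, [(1, 0, 0, 0)])]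
    [(4, [(1, 0, 0, 0)]), (8, [(0, 0, 1, 0)])]

theorem r4_9 (t u : K) : gw T 9 u * gw T 4 t = Φ (gp T) (x7 T u * y4 T t) := by
  o8rel T t u [(9, [(0, 0, 1, 0)]), (4, [(1, 0, 0, 0)])]
    [(4, [(1, 0, 0, 0)]), (8, [(1, 0, 1, 0)]), (9, [(0, 0, 1, 0)])]

theorem r4_10 (t u : K) : gw T 10 u * gw T 4 t = Φ (gp T) (y8 T u * y4 T t) := by
  o8rel T t u [(10, [(0, 0, 1, 0)]), (4, [(1, 0, 0, 0)])]
    [(4, [(1, 0, 0, 0)]), (10, [(0, 0, 1, 0)])]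

theorem r4_11 (t u : K) : gw T 11 u * gw T 4 t = Φ (gp T) (x8 T u * y4 T t) := by
  o8rel T t u [(11, [(0, 0, 1, 0)]), (4, [(1, 0, 0, 0)])]
    [(4, [(1, 0, 0, 0)]), (11, [(0, 0, 1, 0)])]

theorem r5_5 (t u : K) : gw T 5 u * gw T 5 t = Φ (gp T) (x4 T u * x4 T t) := by
  o8rel T t u [(5, [(0, 0, 1, 0)]), (5, [(1, 0, 0, 0)])]
    [(5, [(1, 0, 0, 0), (0, 0, 1, 0)])]

theorem r5_6 (t u : K) : gw T 6 u * gw T 5 t = Φ (gp T) (x5 T u * x4 T t) := by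
  o8rel T t u [(6, [(0, 0, 1, 0)]), (5, [(1, 0, 0, 0)])]
    [(5, [(1, 0, 0, 0)]), (6, [(0, 0, 1, 0)])]

theorem r5_7 (t u : K) : gw T 7 u * gw T 5 t = Φ (gp T) (y6 T u * x4 T t) := by
  o8rel T t u [(7, [(0, 0, 1, 0)]), (5, [(1, 0, 0, 0)])]
    [(5, [(1, 0, 0, 0)]), (7, [(0, 0, 1, 0)])]

theorem r5_8 (t u : K) : gw T 8 u * gw T 5 t = Φ (gp T) (x6 T u * x4 T t) := by
  o8rel T t u [(8, [(0, 0, 1, 0)]), (5, [(1, 0, 0, 0)])]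
    [(5, [(1, 0, 0, 0)]), (8, [(0, 0, 1, 0)])]

theorem r5_9 (t u : K) : gw T 9 u * gw T 5 t = Φ (gp T) (x7 T u * x4 T t) := by
  o8rel T t u [(9, [(0, 0, 1, 0)]), (5, [(1, 0, 0, 0)])]
    [(5, [(1, 0, 0, 0)]), (9, [(0, 0, 1, 0)])]

theorem r5_10 (t u : K) : gw T 10 u * gw T 5 t = Φ (gp T) (y8 T u * x4 T t) := by
  o8rel T t u [(10, [(0, 0, 1, 0)]), (5, [(1, 0, 0, 0)])]
    [(5, [(1, 0, 0, 0)]), (10, [(0, 0, 1, 0)])]

theorem r5_11 (t u : K) : gw T 11 u * gw T 5 t = Φ (gp T) (x8 T u * x4 T t) := by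
  o8rel T t u [(11, [(0, 0, 1, 0)]), (5, [(1, 0, 0, 0)])]
    [(5, [(1, 0, 0, 0)]), (11, [(0, 0, 1, 0)])]

theorem r6_6 (t u : K) : gw T 6 u * gw T 6 t = Φ (gp T) (x5 T u * x5 T t) := by
  o8rel T t u [(6, [(0, 0, 1, 0)]), (6, [(1, 0, 0, 0)])]
    [(6, [(1, 0, 0, 0), (0, 0, 1, 0)])]

theorem r6_7 (t u : K) : gw T 7 u * gw T 6 t = Φ (gp T) (y6 T u * x5 T t) := by
  o8rel T t u [(7, [(0, 0, 1, 0)]), (6, [(1, 0, 0, 0)])]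
    [(6, [(1, 0, 0, 0)]), (7, [(0, 0, 1, 0)])]

theorem r6_8 (t u : K) : gw T 8 u * gw T 6 t = Φ (gp T) (x6 T u * x5 T t) := by
  o8rel T t u [(8, [(0, 0, 1, 0)]), (6, [(1, 0, 0, 0)])]
    [(6, [(1, 0, 0, 0)]), (8, [(0, 0, 1, 0)])]

theorem r6_9 (t u : K) : gw T 9 u * gw T 6 t = Φ (gp T) (x7 T u * x5 T t) := by
  o8rel T t u [(9, [(0, 0, 1, 0)]), (6, [(1, 0, 0, 0)])]
    [(6, [(1, 0, 0, 0)]), (9, [(0, 0, 1, 0)])]

theorem r6_10 (t u : K) : gw T 10 u * gw T 6 t = Φ (gp T) (y8 T u * x5 T t) := by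
  o8rel T t u [(10, [(0, 0, 1, 0)]), (6, [(1, 0, 0, 0)])]
    [(6, [(1, 0, 0, 0)]), (8, [(1, 0, 1, 0)]), (10, [(0, 0, 1, 0)])]

theorem r6_11 (t u : K) : gw T 11 u * gw T 6 t = Φ (gp T) (x8 T u * x5 T t) := by
  o8rel T t u [(11, [(0, 0, 1, 0)]), (6, [(1, 0, 0, 0)])]
    [(6, [(1, 0, 0, 0)]), (11, [(0, 0, 1, 0)])]

theorem r7_7 (t u : K) : gw T 7 u * gw T 7 t = Φ (gp T) (y6 T u * y6 T t) := by
  o8rel T t u [(7, [(0, 0, 1, 0)]), (7, [(1, 0, 0, 0)])]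
    [(7, [(1, 0, 0, 0), (0, 0, 1, 0)]), (8, [(0, 1, 1, 0)])]

theorem r7_8 (t u : K) : gw T 8 u * gw T 7 t = Φ (gp T) (x6 T u * y6 T t) := by
  o8rel T t u [(8, [(0, 0, 1, 0)]), (7, [(1, 0, 0, 0)])]
    [(7, [(1, 0, 0, 0)]), (8, [(0, 0, 1, 0)])]

theorem r7_9 (t u : K) : gw T 9 u * gw T 7 t = Φ (gp T) (x7 T u * y6 T t) := by
  o8rel T t u [(9, [(0, 0, 1, 0)]), (7, [(1, 0, 0, 0)])]
    [(7, [(1, 0, 0, 0)]), (9, [(0, 0, 1, 0)])]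

theorem r7_10 (t u : K) : gw T 10 u * gw T 7 t = Φ (gp T) (y8 T u * y6 T t) := by
  o8rel T t u [(10, [(0, 0, 1, 0)]), (7, [(1, 0, 0, 0)])]
    [(7, [(1, 0, 0, 0)]), (9, [(1, 0, 1, 0)]), (10, [(0, 0, 1, 0)])]

theorem r7_11 (t u : K) : gw T 11 u * gw T 7 t = Φ (gp T) (x8 T u * y6 T t) := by
  o8rel T t u [(11, [(0, 0, 1, 0)]), (7, [(1, 0, 0, 0)])]
    [(7, [(1, 0, 0, 0)]), (11, [(0, 0, 1, 0)])]

theorem r8_8 (t u : K) : gw T 8 u * gw T 8 t = Φ (gp T) (x6 T u * x6 T t) := by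
  o8rel T t u [(8, [(0, 0, 1, 0)]), (8, [(1, 0, 0, 0)])]
    [(8, [(1, 0, 0, 0), (0, 0, 1, 0)])]

theorem r8_9 (t u : K) : gw T 9 u * gw T 8 t = Φ (gp T) (x7 T u * x6 T t) := by
  o8rel T t u [(9, [(0, 0, 1, 0)]), (8, [(1, 0, 0, 0)])]
    [(8, [(1, 0, 0, 0)]), (9, [(0, 0, 1, 0)])]

theorem r8_10 (t u : K) : gw T 10 u * gw T 8 t = Φ (gp T) (y8 T u * x6 T t) := by
  o8rel T t u [(10, [(0, 0, 1, 0)]), (8, [(1, 0, 0, 0)])]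
    [(8, [(1, 0, 0, 0)]), (10, [(0, 0, 1, 0)])]

theorem r8_11 (t u : K) : gw T 11 u * gw T 8 t = Φ (gp T) (x8 T u * x6 T t) := by
  o8rel T t u [(11, [(0, 0, 1, 0)]), (8, [(1, 0, 0, 0)])]
    [(8, [(1, 0, 0, 0)]), (11, [(0, 0, 1, 0)])]

theorem r9_9 (t u : K) : gw T 9 u * gw T 9 t = Φ (gp T) (x7 T u * x7 T t) := by
  o8rel T t u [(9, [(0, 0, 1, 0)]), (9, [(1, 0, 0, 0)])]
    [(9, [(1, 0, 0, 0), (0, 0, 1, 0)])]

theorem r9_10 (t u : K) : gw T 10 u * gw T 9 t = Φ (gp T) (y8 T u * x7 T t) := by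
  o8rel T t u [(10, [(0, 0, 1, 0)]), (9, [(1, 0, 0, 0)])]
    [(9, [(1, 0, 0, 0)]), (10, [(0, 0, 1, 0)])]

theorem r9_11 (t u : K) : gw T 11 u * gw T 9 t = Φ (gp T) (x8 T u * x7 T t) := by
  o8rel T t u [(11, [(0, 0, 1, 0)]), (9, [(1, 0, 0, 0)])]
    [(9, [(1, 0, 0, 0)]), (11, [(0, 0, 1, 0)])]

theorem r10_10 (t u : K) : gw T 10 u * gw T 10 t = Φ (gp T) (y8 T u * y8 T t) := by
  o8rel T t u [(10, [(0, 0, 1, 0)]), (10, [(1, 0, 0, 0)])]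
    [(10, [(1, 0, 0, 0), (0, 0, 1, 0)]), (11, [(0, 1, 1, 0)])]

theorem r10_11 (t u : K) : gw T 11 u * gw T 10 t = Φ (gp T) (x8 T u * y8 T t) := by
  o8rel T t u [(11, [(0, 0, 1, 0)]), (10, [(1, 0, 0, 0)])]
    [(10, [(1, 0, 0, 0)]), (11, [(0, 0, 1, 0)])]

theorem r11_11 (t u : K) : gw T 11 u * gw T 11 t = Φ (gp T) (x8 T u * x8 T t) := by
  o8rel T t u [(11, [(0, 0, 1, 0)]), (11, [(1, 0, 0, 0)])]
    [(11, [(1, 0, 0, 0), (0, 0, 1, 0)])]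

theorem gp_rel (i j : Fin 12) (h : i ≤ j) (t u : K) :
    gp T j u * gp T i t = Φ (gp T) (gen T j u * gen T i t) := by
  rcases fin12 i with rfl | rfl | rfl | rfl | rfl | rfl | rfl | rfl | rfl | rfl | rfl | rfl <;>
    rcases fin12 j with rfl | rfl | rfl | rfl | rfl | rfl | rfl | rfl | rfl | rfl | rfl | rfl <;>
    simp only [gen0, gen1, gen2, gen3, gen4, gen5, gen6, gen7, gen8, gen9, gen10, gen11, gp0, gp1,
      gp2, gp3, gp4, gp5, gp6, gp7, gp8, gp9, gp10, gp11]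
  exacts [
    r0_0 T t u, r0_1 T t u, r0_2 T t u, r0_3 T t u, r0_4 T t u, r0_5 T t u, r0_6 T t u, 
    r0_7 T t u, r0_8 T t u, r0_9 T t u, r0_10 T t u, r0_11 T t u, absurd h (by decide), 
    r1_1 T t u, r1_2 T t u, r1_3 T t u, r1_4 T t u, r1_5 T t u, r1_6 T t u, r1_7 T t u, 
    r1_8 T t u, r1_9 T t u, r1_10 T t u, r1_11 T t u, absurd h (by decide), 
    absurd h (by decide), r2_2 T t u, r2_3 T t u, r2_4 T t u, r2_5 T t u, r2_6 T t u, 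
    r2_7 T t u, r2_8 T t u, r2_9 T t u, r2_10 T t u, r2_11 T t u, absurd h (by decide), 
    absurd h (by decide), absurd h (by decide), r3_3 T t u, r3_4 T t u, r3_5 T t u, r3_6 T t u, 
    r3_7 T t u, r3_8 T t u, r3_9 T t u, r3_10 T t u, r3_11 T t u, absurd h (by decide), 
    absurd h (by decide), absurd h (by decide), absurd h (by decide), r4_4 T t u, r4_5 T t u, 
    r4_6 T t u, r4_7 T t u, r4_8 T t u, r4_9 T t u, r4_10 T t u, r4_11 T t u, 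
    absurd h (by decide), absurd h (by decide), absurd h (by decide), absurd h (by decide), 
    absurd h (by decide), r5_5 T t u, r5_6 T t u, r5_7 T t u, r5_8 T t u, r5_9 T t u, 
    r5_10 T t u, r5_11 T t u, absurd h (by decide), absurd h (by decide), absurd h (by decide), 
    absurd h (by decide), absurd h (by decide), absurd h (by decide), r6_6 T t u, r6_7 T t u, 
    r6_8 T t u, r6_9 T t u, r6_10 T t u, r6_11 T t u, absurd h (by decide), 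
    absurd h (by decide), absurd h (by decide), absurd h (by decide), absurd h (by decide), 
    absurd h (by decide), absurd h (by decide), r7_7 T t u, r7_8 T t u, r7_9 T t u, r7_10 T t u, 
    r7_11 T t u, absurd h (by decide), absurd h (by decide), absurd h (by decide), 
    absurd h (by decide), absurd h (by decide), absurd h (by decide), absurd h (by decide), 
    absurd h (by decide), r8_8 T t u, r8_9 T t u, r8_10 T t u, r8_11 T t u, 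
    absurd h (by decide), absurd h (by decide), absurd h (by decide), absurd h (by decide), 
    absurd h (by decide), absurd h (by decide), absurd h (by decide), absurd h (by decide), 
    absurd h (by decide), r9_9 T t u, r9_10 T t u, r9_11 T t u, absurd h (by decide), 
    absurd h (by decide), absurd h (by decide), absurd h (by decide), absurd h (by decide), 
    absurd h (by decide), absurd h (by decide), absurd h (by decide), absurd h (by decide), 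
    absurd h (by decide), r10_10 T t u, r10_11 T t u, absurd h (by decide), 
    absurd h (by decide), absurd h (by decide), absurd h (by decide), absurd h (by decide), 
    absurd h (by decide), absurd h (by decide), absurd h (by decide), absurd h (by decide), 
    absurd h (by decide), absurd h (by decide), r11_11 T t u]

omit [CharP K 2] in
/-- The reflection `i ↦ 10 - i`. -/
noncomputable def n1 : chevF4.group K := gw T 0 1 * gw T 12 1 * gw T 0 1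

omit [CharP K 2] in
/-- The reflection `i ↦ 8 - i`. -/
noncomputable def n8 : chevF4.group K := gw T 11 1 * gw T 13 1 * gw T 14 1 * gw T 10 1

theorem n1_sq : n1 T * n1 T = 1 := by
  simp only [n1, mul_assoc]
  o8key T 0 0
    [(0, [(0, 0, 0, 0)]), (12, [(0, 0, 0, 0)]), (0, [(0, 0, 0, 0)]), (0, [(0, 0, 0, 0)]), (12,
    [(0, 0, 0, 0)]), (0, [(0, 0, 0, 0)])]
    []

theorem n1_0 (t : K) : n1 T * gw T 0 t * n1 T = gw T 12 t := by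
  simp only [n1, mul_assoc]
  o8key T t t
    [(0, [(0, 0, 0, 0)]), (12, [(0, 0, 0, 0)]), (0, [(0, 0, 0, 0)]), (0, [(1, 0, 0, 0)]), (0,
    [(0, 0, 0, 0)]), (12, [(0, 0, 0, 0)]), (0, [(0, 0, 0, 0)])]
    [(12, [(1, 0, 0, 0)])]

theorem n1_1 (t : K) : n1 T * gw T 1 t * n1 T = gw T 10 t := by
  simp only [n1, mul_assoc]
  o8key T t t
    [(0, [(0, 0, 0, 0)]), (12, [(0, 0, 0, 0)]), (0, [(0, 0, 0, 0)]), (1, [(1, 0, 0, 0)]), (0,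
    [(0, 0, 0, 0)]), (12, [(0, 0, 0, 0)]), (0, [(0, 0, 0, 0)])]
    [(10, [(1, 0, 0, 0)])]

theorem n1_2 (t : K) : n1 T * gw T 2 t * n1 T = gw T 11 t := by
  simp only [n1, mul_assoc]
  o8key T t t
    [(0, [(0, 0, 0, 0)]), (12, [(0, 0, 0, 0)]), (0, [(0, 0, 0, 0)]), (2, [(1, 0, 0, 0)]), (0,
    [(0, 0, 0, 0)]), (12, [(0, 0, 0, 0)]), (0, [(0, 0, 0, 0)])]
    [(11, [(1, 0, 0, 0)])]

theorem n1_3 (t : K) : n1 T * gw T 3 t * n1 T = gw T 9 t := by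
  simp only [n1, mul_assoc]
  o8key T t t
    [(0, [(0, 0, 0, 0)]), (12, [(0, 0, 0, 0)]), (0, [(0, 0, 0, 0)]), (3, [(1, 0, 0, 0)]), (0,
    [(0, 0, 0, 0)]), (12, [(0, 0, 0, 0)]), (0, [(0, 0, 0, 0)])]
    [(9, [(1, 0, 0, 0)])]

theorem n1_4 (t : K) : n1 T * gw T 4 t * n1 T = gw T 7 t := by
  simp only [n1, mul_assoc]
  o8key T t t
    [(0, [(0, 0, 0, 0)]), (12, [(0, 0, 0, 0)]), (0, [(0, 0, 0, 0)]), (4, [(1, 0, 0, 0)]), (0,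
    [(0, 0, 0, 0)]), (12, [(0, 0, 0, 0)]), (0, [(0, 0, 0, 0)])]
    [(7, [(1, 0, 0, 0)])]

theorem n1_5 (t : K) : n1 T * gw T 5 t * n1 T = gw T 8 t := by
  simp only [n1, mul_assoc]
  o8key T t t
    [(0, [(0, 0, 0, 0)]), (12, [(0, 0, 0, 0)]), (0, [(0, 0, 0, 0)]), (5, [(1, 0, 0, 0)]), (0,
    [(0, 0, 0, 0)]), (12, [(0, 0, 0, 0)]), (0, [(0, 0, 0, 0)])]
    [(8, [(1, 0, 0, 0)])]

theorem n1_6 (t : K) : n1 T * gw T 6 t * n1 T = gw T 6 t := by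
  simp only [n1, mul_assoc]
  o8key T t t
    [(0, [(0, 0, 0, 0)]), (12, [(0, 0, 0, 0)]), (0, [(0, 0, 0, 0)]), (6, [(1, 0, 0, 0)]), (0,
    [(0, 0, 0, 0)]), (12, [(0, 0, 0, 0)]), (0, [(0, 0, 0, 0)])]
    [(6, [(1, 0, 0, 0)])]

theorem n1_7 (t : K) : n1 T * gw T 7 t * n1 T = gw T 4 t := by
  simp only [n1, mul_assoc]
  o8key T t t
    [(0, [(0, 0, 0, 0)]), (12, [(0, 0, 0, 0)]), (0, [(0, 0, 0, 0)]), (7, [(1, 0, 0, 0)]), (0,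
    [(0, 0, 0, 0)]), (12, [(0, 0, 0, 0)]), (0, [(0, 0, 0, 0)])]
    [(4, [(1, 0, 0, 0)])]

theorem n1_8 (t : K) : n1 T * gw T 8 t * n1 T = gw T 5 t := by
  simp only [n1, mul_assoc]
  o8key T t t
    [(0, [(0, 0, 0, 0)]), (12, [(0, 0, 0, 0)]), (0, [(0, 0, 0, 0)]), (8, [(1, 0, 0, 0)]), (0,
    [(0, 0, 0, 0)]), (12, [(0, 0, 0, 0)]), (0, [(0, 0, 0, 0)])]
    [(5, [(1, 0, 0, 0)])]

theorem n1_9 (t : K) : n1 T * gw T 9 t * n1 T = gw T 3 t := by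
  simp only [n1, mul_assoc]
  o8key T t t
    [(0, [(0, 0, 0, 0)]), (12, [(0, 0, 0, 0)]), (0, [(0, 0, 0, 0)]), (9, [(1, 0, 0, 0)]), (0,
    [(0, 0, 0, 0)]), (12, [(0, 0, 0, 0)]), (0, [(0, 0, 0, 0)])]
    [(3, [(1, 0, 0, 0)])]

theorem n1_10 (t : K) : n1 T * gw T 10 t * n1 T = gw T 1 t := by
  simp only [n1, mul_assoc]
  o8key T t t
    [(0, [(0, 0, 0, 0)]), (12, [(0, 0, 0, 0)]), (0, [(0, 0, 0, 0)]), (10, [(1, 0, 0, 0)]), (0,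
    [(0, 0, 0, 0)]), (12, [(0, 0, 0, 0)]), (0, [(0, 0, 0, 0)])]
    [(1, [(1, 0, 0, 0)])]

theorem n1_11 (t : K) : n1 T * gw T 11 t * n1 T = gw T 2 t := by
  simp only [n1, mul_assoc]
  o8key T t t
    [(0, [(0, 0, 0, 0)]), (12, [(0, 0, 0, 0)]), (0, [(0, 0, 0, 0)]), (11, [(1, 0, 0, 0)]), (0,
    [(0, 0, 0, 0)]), (12, [(0, 0, 0, 0)]), (0, [(0, 0, 0, 0)])]
    [(2, [(1, 0, 0, 0)])]

theorem n1_12 (t : K) : n1 T * gw T 12 t * n1 T = gw T 0 t := by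
  simp only [n1, mul_assoc]
  o8key T t t
    [(0, [(0, 0, 0, 0)]), (12, [(0, 0, 0, 0)]), (0, [(0, 0, 0, 0)]), (12, [(1, 0, 0, 0)]), (0,
    [(0, 0, 0, 0)]), (12, [(0, 0, 0, 0)]), (0, [(0, 0, 0, 0)])]
    [(0, [(1, 0, 0, 0)])]

theorem n8_sq : n8 T * n8 T = 1 := by
  simp only [n8, mul_assoc]
  o8key T 0 0
    [(11, [(0, 0, 0, 0)]), (13, [(0, 0, 0, 0)]), (14, [(0, 0, 0, 0)]), (10, [(0, 0, 0, 0)]),
    (11, [(0, 0, 0, 0)]), (13, [(0, 0, 0, 0)]), (14, [(0, 0, 0, 0)]), (10, [(0, 0, 0, 0)])]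
    []

theorem n8_0 (t : K) : n8 T * gw T 0 t * n8 T = gw T 9 t := by
  simp only [n8, mul_assoc]
  o8key T t t
    [(11, [(0, 0, 0, 0)]), (13, [(0, 0, 0, 0)]), (14, [(0, 0, 0, 0)]), (10, [(0, 0, 0, 0)]), (0,
    [(1, 0, 0, 0)]), (11, [(0, 0, 0, 0)]), (13, [(0, 0, 0, 0)]), (14, [(0, 0, 0, 0)]), (10, [(0,
    0, 0, 0)])]
    [(9, [(1, 0, 0, 0)])]

theorem n8_1 (t : K) : n8 T * gw T 1 t * n8 T = gw T 7 t := by
  simp only [n8, mul_assoc]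
  o8key T t t
    [(11, [(0, 0, 0, 0)]), (13, [(0, 0, 0, 0)]), (14, [(0, 0, 0, 0)]), (10, [(0, 0, 0, 0)]), (1,
    [(1, 0, 0, 0)]), (11, [(0, 0, 0, 0)]), (13, [(0, 0, 0, 0)]), (14, [(0, 0, 0, 0)]), (10, [(0,
    0, 0, 0)])]
    [(7, [(1, 0, 0, 0)])]

theorem n8_2 (t : K) : n8 T * gw T 2 t * n8 T = gw T 8 t := by
  simp only [n8, mul_assoc]
  o8key T t t
    [(11, [(0, 0, 0, 0)]), (13, [(0, 0, 0, 0)]), (14, [(0, 0, 0, 0)]), (10, [(0, 0, 0, 0)]), (2,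
    [(1, 0, 0, 0)]), (11, [(0, 0, 0, 0)]), (13, [(0, 0, 0, 0)]), (14, [(0, 0, 0, 0)]), (10, [(0,
    0, 0, 0)])]
    [(8, [(1, 0, 0, 0)])]

theorem n8_3 (t : K) : n8 T * gw T 3 t * n8 T = gw T 6 t := by
  simp only [n8, mul_assoc]
  o8key T t t
    [(11, [(0, 0, 0, 0)]), (13, [(0, 0, 0, 0)]), (14, [(0, 0, 0, 0)]), (10, [(0, 0, 0, 0)]), (3,
    [(1, 0, 0, 0)]), (11, [(0, 0, 0, 0)]), (13, [(0, 0, 0, 0)]), (14, [(0, 0, 0, 0)]), (10, [(0,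
    0, 0, 0)])]
    [(6, [(1, 0, 0, 0)])]

theorem n8_4 (t : K) : n8 T * gw T 4 t * n8 T = gw T 4 t := by
  simp only [n8, mul_assoc]
  o8key T t t
    [(11, [(0, 0, 0, 0)]), (13, [(0, 0, 0, 0)]), (14, [(0, 0, 0, 0)]), (10, [(0, 0, 0, 0)]), (4,
    [(1, 0, 0, 0)]), (11, [(0, 0, 0, 0)]), (13, [(0, 0, 0, 0)]), (14, [(0, 0, 0, 0)]), (10, [(0,
    0, 0, 0)])]
    [(4, [(1, 0, 0, 0)])]

theorem n8_5 (t : K) : n8 T * gw T 5 t * n8 T = gw T 5 t := by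
  simp only [n8, mul_assoc]
  o8key T t t
    [(11, [(0, 0, 0, 0)]), (13, [(0, 0, 0, 0)]), (14, [(0, 0, 0, 0)]), (10, [(0, 0, 0, 0)]), (5,
    [(1, 0, 0, 0)]), (11, [(0, 0, 0, 0)]), (13, [(0, 0, 0, 0)]), (14, [(0, 0, 0, 0)]), (10, [(0,
    0, 0, 0)])]
    [(5, [(1, 0, 0, 0)])]

theorem n8_6 (t : K) : n8 T * gw T 6 t * n8 T = gw T 3 t := by
  simp only [n8, mul_assoc]
  o8key T t t
    [(11, [(0, 0, 0, 0)]), (13, [(0, 0, 0, 0)]), (14, [(0, 0, 0, 0)]), (10, [(0, 0, 0, 0)]), (6,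
    [(1, 0, 0, 0)]), (11, [(0, 0, 0, 0)]), (13, [(0, 0, 0, 0)]), (14, [(0, 0, 0, 0)]), (10, [(0,
    0, 0, 0)])]
    [(3, [(1, 0, 0, 0)])]

theorem n8_7 (t : K) : n8 T * gw T 7 t * n8 T = gw T 1 t := by
  simp only [n8, mul_assoc]
  o8key T t t
    [(11, [(0, 0, 0, 0)]), (13, [(0, 0, 0, 0)]), (14, [(0, 0, 0, 0)]), (10, [(0, 0, 0, 0)]), (7,
    [(1, 0, 0, 0)]), (11, [(0, 0, 0, 0)]), (13, [(0, 0, 0, 0)]), (14, [(0, 0, 0, 0)]), (10, [(0,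
    0, 0, 0)])]
    [(1, [(1, 0, 0, 0)])]

theorem n8_8 (t : K) : n8 T * gw T 8 t * n8 T = gw T 2 t := by
  simp only [n8, mul_assoc]
  o8key T t t
    [(11, [(0, 0, 0, 0)]), (13, [(0, 0, 0, 0)]), (14, [(0, 0, 0, 0)]), (10, [(0, 0, 0, 0)]), (8,
    [(1, 0, 0, 0)]), (11, [(0, 0, 0, 0)]), (13, [(0, 0, 0, 0)]), (14, [(0, 0, 0, 0)]), (10, [(0,
    0, 0, 0)])]
    [(2, [(1, 0, 0, 0)])]

theorem n8_9 (t : K) : n8 T * gw T 9 t * n8 T = gw T 0 t := by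
  simp only [n8, mul_assoc]
  o8key T t t
    [(11, [(0, 0, 0, 0)]), (13, [(0, 0, 0, 0)]), (14, [(0, 0, 0, 0)]), (10, [(0, 0, 0, 0)]), (9,
    [(1, 0, 0, 0)]), (11, [(0, 0, 0, 0)]), (13, [(0, 0, 0, 0)]), (14, [(0, 0, 0, 0)]), (10, [(0,
    0, 0, 0)])]
    [(0, [(1, 0, 0, 0)])]

theorem n8_10 (t : K) : n8 T * gw T 10 t * n8 T = gw T 13 t := by
  simp only [n8, mul_assoc]
  o8key T t t
    [(11, [(0, 0, 0, 0)]), (13, [(0, 0, 0, 0)]), (14, [(0, 0, 0, 0)]), (10, [(0, 0, 0, 0)]),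
    (10, [(1, 0, 0, 0)]), (11, [(0, 0, 0, 0)]), (13, [(0, 0, 0, 0)]), (14, [(0, 0, 0, 0)]), (10,
    [(0, 0, 0, 0)])]
    [(13, [(1, 0, 0, 0)])]

theorem n8_11 (t : K) : n8 T * gw T 11 t * n8 T = gw T 14 t := by
  simp only [n8, mul_assoc]
  o8key T t t
    [(11, [(0, 0, 0, 0)]), (13, [(0, 0, 0, 0)]), (14, [(0, 0, 0, 0)]), (10, [(0, 0, 0, 0)]),
    (11, [(1, 0, 0, 0)]), (11, [(0, 0, 0, 0)]), (13, [(0, 0, 0, 0)]), (14, [(0, 0, 0, 0)]), (10,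
    [(0, 0, 0, 0)])]
    [(14, [(1, 0, 0, 0)])]

theorem n8_13 (t : K) : n8 T * gw T 13 t * n8 T = gw T 10 t := by
  simp only [n8, mul_assoc]
  o8key T t t
    [(11, [(0, 0, 0, 0)]), (13, [(0, 0, 0, 0)]), (14, [(0, 0, 0, 0)]), (10, [(0, 0, 0, 0)]),
    (13, [(1, 0, 0, 0)]), (11, [(0, 0, 0, 0)]), (13, [(0, 0, 0, 0)]), (14, [(0, 0, 0, 0)]), (10,
    [(0, 0, 0, 0)])]
    [(10, [(1, 0, 0, 0)])]

theorem n8_14 (t : K) : n8 T * gw T 14 t * n8 T = gw T 11 t := by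
  simp only [n8, mul_assoc]
  o8key T t t
    [(11, [(0, 0, 0, 0)]), (13, [(0, 0, 0, 0)]), (14, [(0, 0, 0, 0)]), (10, [(0, 0, 0, 0)]),
    (14, [(1, 0, 0, 0)]), (11, [(0, 0, 0, 0)]), (13, [(0, 0, 0, 0)]), (14, [(0, 0, 0, 0)]), (10,
    [(0, 0, 0, 0)])]
    [(11, [(1, 0, 0, 0)])]

theorem braid4 : (n1 T * n8 T) ^ 4 = (n8 T * n1 T) ^ 4 := by
  simp only [n1, n8, pow_succ, pow_zero, one_mul, mul_assoc]
  o8key T 0 0
    [(0, [(0, 0, 0, 0)]), (12, [(0, 0, 0, 0)]), (0, [(0, 0, 0, 0)]), (11, [(0, 0, 0, 0)]), (13,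
    [(0, 0, 0, 0)]), (14, [(0, 0, 0, 0)]), (10, [(0, 0, 0, 0)]), (0, [(0, 0, 0, 0)]), (12, [(0,
    0, 0, 0)]), (0, [(0, 0, 0, 0)]), (11, [(0, 0, 0, 0)]), (13, [(0, 0, 0, 0)]), (14, [(0, 0, 0,
    0)]), (10, [(0, 0, 0, 0)]), (0, [(0, 0, 0, 0)]), (12, [(0, 0, 0, 0)]), (0, [(0, 0, 0, 0)]),
    (11, [(0, 0, 0, 0)]), (13, [(0, 0, 0, 0)]), (14, [(0, 0, 0, 0)]), (10, [(0, 0, 0, 0)]), (0,
    [(0, 0, 0, 0)]), (12, [(0, 0, 0, 0)]), (0, [(0, 0, 0, 0)]), (11, [(0, 0, 0, 0)]), (13, [(0,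
    0, 0, 0)]), (14, [(0, 0, 0, 0)]), (10, [(0, 0, 0, 0)])]
    [(11, [(0, 0, 0, 0)]), (13, [(0, 0, 0, 0)]), (14, [(0, 0, 0, 0)]), (10, [(0, 0, 0, 0)]), (0,
    [(0, 0, 0, 0)]), (12, [(0, 0, 0, 0)]), (0, [(0, 0, 0, 0)]), (11, [(0, 0, 0, 0)]), (13, [(0,
    0, 0, 0)]), (14, [(0, 0, 0, 0)]), (10, [(0, 0, 0, 0)]), (0, [(0, 0, 0, 0)]), (12, [(0, 0, 0,
    0)]), (0, [(0, 0, 0, 0)]), (11, [(0, 0, 0, 0)]), (13, [(0, 0, 0, 0)]), (14, [(0, 0, 0, 0)]),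
    (10, [(0, 0, 0, 0)]), (0, [(0, 0, 0, 0)]), (12, [(0, 0, 0, 0)]), (0, [(0, 0, 0, 0)]), (11,
    [(0, 0, 0, 0)]), (13, [(0, 0, 0, 0)]), (14, [(0, 0, 0, 0)]), (10, [(0, 0, 0, 0)]), (0, [(0,
    0, 0, 0)]), (12, [(0, 0, 0, 0)]), (0, [(0, 0, 0, 0)])]

theorem braid : (n1 T * n8 T) ^ 8 = 1 := by
  have : (n8 T * n1 T) = (n1 T * n8 T)⁻¹ := by
    rw [mul_inv_rev, inv_eq_of_mul_eq_one_right (n1_sq T), inv_eq_of_mul_eq_one_right (n8_sq T)]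
  rw [show 8 = 4 + 4 from rfl, pow_add]
  nth_rewrite 1 [braid4]
  rw [this, inv_pow, inv_mul_cancel]

end Cfsg.Agent.H75.O8
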