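import Cfsg.Agent.Lead.T3Defs
import Cfsg.Agent.H75.ModCl

/-!
# The `BN`-pair of a model of a group of Lie type: root subgroups, Coxeter matrix, panel sizes
-/

set_option autoImplicit false

namespace Cfsg.Agent.H75.T3G

open Equiv H34 H34.Split H35 Lead.T3

universe u v

variable {p : ℕ} {Γ : Type u} [Group Γ] (M : Model.{u, v} p Γ)

/-- The reflection attached to a node. -/
noncomputable abbrev ref (i : M.ι) : Perm M.Φ := M.S.wJ (M.τ.T.orb i)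

theorem inf_eq : M.bn.B ⊓ M.bn.N = M.H := bnPair_B_inf_N _ _ _ _ _

/-- The action of the Weyl group of the `BN`-pair on the roots. -/
noncomputable def ψ : BN.W M.bn →* Perm M.Φ :=
  QuotientGroup.lift _
    { toFun := fun n : M.bn.N => M.P.ν (M.j n)
      map_one' := by simpa using ν_one
      map_mul' := fun a b => by simpa using M.P.ν_mul _ a.2 _ b.2 }
    fun n hn => ν_H (mem_H_of_B hn.2 hn.1)

theorem ψ_mkW {n : Γ} (hn : n ∈ M.bn.N) : ψ M (BN.mkW M.bn n hn) = M.P.ν (M.j n) := rfl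

theorem ψ_injective : Function.Injective (ψ M) := by
  rw [injective_iff_map_eq_one]
  intro w hw
  obtain ⟨n, hn, rfl⟩ := BN.exists_mkW w
  exact (BN.mkW_eq_one_iff hn).2 (H_le_B (mem_H_of hn hw))

/-- `s` is the generator attached to the node `i`. -/
def Nd (s : M.bn.S) (i : M.ι) : Prop := M.j s = M.τ.lift (ref M i)

theorem exists_nd (s : M.bn.S) : ∃ i, Nd M s i := s.2

theorem exists_nd' (i : M.ι) : ∃ s, Nd M s i := by
  obtain ⟨s, e⟩ := M.exists_of_G1 (M.τ.lift_spec (M.τ.wJ_mem i)).2.1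
  exact ⟨⟨s, i, e⟩, e⟩

variable {M}

theorem Nd.mem {s : M.bn.S} : (s : Γ) ∈ M.N := M.bn.subset s.2

theorem Nd.ν {s : M.bn.S} {i : M.ι} (h : Nd M s i) : M.P.ν (M.j s) = ref M i := by
  rw [h]; exact (M.τ.lift_spec (M.τ.wJ_mem i)).2.2

theorem Nd.ψ {s : M.bn.S} {i : M.ι} (h : Nd M s i) : ψ M ((BN.gens M.bn).s s) = ref M i := h.ν

theorem Nd.eq {s t : M.bn.S} {i k : M.ι} (h : Nd M s i) (h' : Nd M t k) (e : i ∈ M.τ.T.orb k) :
    s = t := Subtype.ext (M.inj (by rw [h, h', ref, ref, M.τ.T.orb_eq_of_mem e]))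

/-- The Coxeter matrix. -/
theorem Nd.orderOf {s t : M.bn.S} {i k : M.ι} (h : Nd M s i) (h' : Nd M t k) :
    orderOf ((BN.gens M.bn).s s * (BN.gens M.bn).s t) = orderOf (ref M i * ref M k) := by
  rw [← orderOf_injective _ (ψ_injective M), map_mul, h.ψ, h'.ψ]

/-- The normal form in a minimal cell. -/
theorem Nd.cell {s : M.bn.S} {i : M.ι} (h : Nd M s i) {g : Γ}
    (hg : g ∈ BN.cell M.bn ((BN.gens M.bn).s s)) : ∃ b ∈ M.B, ∃ u ∈ M.UJ i, g = b * s * u := by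
  obtain ⟨a, ha, n, hn, u, hu, rfl⟩ := M.bruhat g
  have e : BN.mkW M.bn n hn = (BN.gens M.bn).s s := BN.eq_of_mem_cell
    ((BN.mem_cell_mkW hn).2 ⟨a, M.U_le_B ha, u, Up_le_B (Uinv_le_Up hu), rfl⟩) hg
  have e' : M.P.ν (M.j n) = ref M i := by rw [← ψ_mkW M hn, e, h.ψ]
  refine ⟨a * (n * (s : Γ)⁻¹), mul_mem (M.U_le_B ha) (M.H_le_B ?_), u,
    M.τ.mem_UJ.2 ⟨by rwa [e'] at hu, M.j_mem_fix u⟩, by group⟩
  simpa [Model.H] using mul_inv_mem_H hn Nd.mem (e'.trans h.ν.symm)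

theorem pos_of {w : Perm M.Φ} (hw : w ∈ M.τ.T.fixJ Set.univ) {i : M.ι} (h : M.S.pos (w (M.S.α i)))
    {r : M.Φ} (hr : r ∈ M.S.Phi (M.τ.T.orb i)) (hp : M.S.pos r) : M.S.pos (w r) :=
  M.S.minrep_pos (M.τ.T.fixJ_le_W _ hw)
    (fun _ hj => (M.τ.T.pos_iff_of_mem_orb (M.τ.T.mem_fixJ.1 hw).2 hj).2 h) hr hp

theorem conj_UJ {n : Γ} (hn : n ∈ M.N) {i : M.ι} {A : Set M.Φ}
    (h : ∀ r ∈ M.S.Phi (M.τ.T.orb i), M.S.pos r → (M.P.ν (M.j n))⁻¹ r ∈ A) {y : Γ}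
    (hy : y ∈ M.UJ i) : M.j (n⁻¹ * y * n) ∈ M.P.U A := by
  rw [map_mul, map_mul, map_inv]
  exact conj_U' hn (fun r hr => h r hr.1 hr.2) hy.1

theorem Nd.lt_of_pos {s : M.bn.S} {i : M.ι} (h : Nd M s i) {n : Γ} (hn : n ∈ M.bn.N)
    (hp : M.S.pos ((M.P.ν (M.j n))⁻¹ (M.S.α i))) : (BN.gens M.bn).len (BN.mkW M.bn n hn) <
      (BN.gens M.bn).len ((BN.gens M.bn).s s * BN.mkW M.bn n hn) := by
  by_contra! hle
  obtain ⟨b, hb, e⟩ := BN.exists_s_mul_mem_of_ge hle (BN.self_mem_cell hn)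
  obtain ⟨b', hb', u, hu, e'⟩ := h.cell (BN.mul_mem_cell_right hb (BN.s_mem_cell s))
  refine BN.s_mul_ne s _ (BN.eq_of_mem_cell ?_ e)
  rw [BN.gens_s, ← BN.mkW_mul, BN.mem_cell_mkW]
  exact ⟨b', hb', n⁻¹ * u * n, Up_le_B (conj_UJ hn
    (fun r hr => pos_of (inv_mem (M.ν_mem hn)) hp hr) hu), by rw [e']; group⟩

/-- Ascents in terms of roots. -/
theorem Nd.lt_iff {s : M.bn.S} {i : M.ι} (h : Nd M s i) {n : Γ} (hn : n ∈ M.bn.N) :
    (BN.gens M.bn).len (BN.mkW M.bn n hn) <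
      (BN.gens M.bn).len ((BN.gens M.bn).s s * BN.mkW M.bn n hn) ↔
    M.S.pos ((M.P.ν (M.j n))⁻¹ (M.S.α i)) := by
  refine ⟨fun hlt => ?_, h.lt_of_pos hn⟩
  by_contra hp
  have hw := inv_mem (M.ν_mem hn)
  have := h.lt_of_pos (mul_mem Nd.mem hn) (by
    rw [map_mul, M.P.ν_mul _ Nd.mem _ hn, h.ν, mul_inv_rev, M.S.wJ_inv]
    exact M.S.pos_mul_wJ_of_neg (M.τ.T.fixJ_le_W _ hw) (fun k hk e => hp
      ((M.τ.T.pos_iff_of_mem_orb (M.τ.T.mem_fixJ.1 hw).2 hk).1 e)) (M.τ.T.mem_orb_self i))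
  rw [BN.mkW_mul Nd.mem hn, ← BN.gens_s, InvGen.s_mul_s_cancel_left] at this
  omega

theorem Nd.parabolic_le {s : M.bn.S} {i : M.ι} (h : Nd M s i) :
    M.bn.parabolic {(s : Γ)} ≤ M.par (M.τ.T.orb i) :=
  BN.parabolic_le_iff.2 ⟨M.B_le_par _, by
    rintro _ rfl
    simpa using M.mem_par (one_mem _) Nd.mem (h.ν ▸ M.S.wJ_mem _) (one_mem _)⟩

/-- The panel sizes. -/
theorem Nd.ind {s : M.bn.S} {i : M.ι} (h : Nd M s i) :
    BN.ind M.bn ((BN.gens M.bn).s s) = Nat.card (M.UJ i) := by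
  symm
  refine Nat.card_eq_of_bijective (fun y => ⟨((y : Γ) * s : Γ), by
    rw [BN.wdist_mk, inv_one, one_mul, BN.bruhat_eq_iff]
    exact BN.mul_mem_cell_left (M.U_le_B (M.UJ_le_U i y.2)) (BN.s_mem_cell s)⟩) ⟨?_, ?_⟩
  · intro y y' e
    have e1 : ((y : Γ) * s)⁻¹ * (y' * s) ∈ M.B := QuotientGroup.eq.1 (congrArg Subtype.val e)
    have e2 := conj_UJ (A := {r | ¬ M.S.pos r}) (Nd.mem (s := s)) (fun r hr hp => by
      rw [h.ν, M.S.wJ_inv]; exact fun k => (M.S.pos_wJ_iff hr).1 k hp) (mul_mem (inv_mem y.2) y'.2)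
    rw [show ((y : Γ) * s)⁻¹ * (y' * s) = (s : Γ)⁻¹ * ((y : Γ)⁻¹ * y') * s by group] at e1
    have e3 := eq_one_of_B_V e1 e2
    rw [map_eq_one_iff _ M.inj, conj_inv_eq_one_iff, inv_mul_eq_one] at e3
    exact Subtype.ext e3
  · rintro ⟨x, hx⟩
    obtain ⟨g, rfl⟩ := QuotientGroup.mk_surjective x
    rw [BN.wdist_mk, inv_one, one_mul, BN.bruhat_eq_iff] at hx
    obtain ⟨b, hb, u, hu, e⟩ := h.cell (BN.inv_mem_cell_s hx)
    refine ⟨⟨u⁻¹, inv_mem hu⟩, Subtype.ext (QuotientGroup.eq.2 ?_)⟩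
    rw [show (u⁻¹ * s)⁻¹ * g = (b * (s * s))⁻¹ by rw [inv_eq_iff_eq_inv.1 e]; group]
    exact inv_mem (mul_mem hb (M.bn.sq_mem s s.2))

variable (M)

theorem card_UJ (i : M.ι) : Nat.card (M.UJ i) = Nat.card (M.τ.UJ i) :=
  Nat.card_eq_of_bijective (fun y => ⟨M.j y, y.2⟩)
    ⟨fun _ _ e => Subtype.ext (M.inj (congrArg Subtype.val e)), fun y => by
      obtain ⟨x, e⟩ := M.exists_of_G1 (M.τ.UJ_le_G1 i y.2)
      exact ⟨⟨x, show M.j x ∈ _ from e ▸ y.2⟩, Subtype.ext e⟩⟩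

/-- The `BN`-pair of a model is good. -/
theorem good {Γ : Type} [Group Γ] [hp : Fact p.Prime] (M : Model.{0, v} p Γ) : Good M.bn where
  root s := by
    obtain ⟨i, h⟩ := exists_nd M s
    refine ⟨M.UJ i, (M.UJ_le_U i).trans M.U_le_B, fun g hg => ?_, fun n hn hlt => ?_⟩
    · obtain ⟨b, hb, u, hu, e⟩ := h.cell (BN.inv_mem_cell_s hg)
      refine ⟨u⁻¹, inv_mem hu, ?_⟩
      rw [show g⁻¹ * (u⁻¹ * s) = b * (s * s) by rw [e]; group]
      exact mul_mem hb (M.bn.sq_mem s s.2)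
    · have h1 := (h.lt_iff hn).1 hlt
      have hw := inv_mem (M.ν_mem hn)
      refine ⟨fun y hy => Up_le_B (conj_UJ hn (fun r hr => pos_of hw h1 hr) hy),
        fun t hlt' y hy g hg => ?_⟩
      obtain ⟨k, ht⟩ := exists_nd M t
      rw [BN.gens_s t, ← BN.mkW_mul, h.lt_iff] at hlt'
      have h2 : n⁻¹ * y * n ∈ M.rad (M.τ.T.orb k) := conj_UJ
        (A := {r | M.S.pos r ∧ r ∉ M.S.Phi (M.τ.T.orb k)}) hn (fun r hr hp =>
        ⟨pos_of hw h1 hr hp, fun e => by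
          have := pos_of (inv_mem (M.ν_mem (mul_mem hn Nd.mem))) hlt' hr hp
          rw [map_mul, M.P.ν_mul _ hn _ Nd.mem, ht.ν, mul_inv_rev, M.S.wJ_inv] at this
          exact (M.S.pos_wJ_iff e).1 this (pos_of hw h1 hr hp)⟩) hy
      exact M.U_le_B (M.rad_le_U _ ((Subgroup.mem_normalizer_iff''.1
        (M.par_le_normalizer _ (ht.parabolic_le hg)) _).1 h2))
  syl := by
    refine ⟨p, M.U, hp.out, M.hU, ?_, fun b hb u hu => M.conj_U_B hb hu, fun n hn hl => ?_⟩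
    · rw [inf_eq]
      refine le_antisymm (sup_le M.U_le_B M.H_le_B) fun b hb => ?_
      obtain ⟨u, hu, h, hh, rfl⟩ := M.mem_B hb
      exact Subgroup.mul_mem_sup hu hh
    · have e : (M.P.ν (M.j n))⁻¹ = M.S.wJ Set.univ :=
        M.S.eq_wJ (M.τ.T.fixJ_le _ (inv_mem (M.ν_mem hn))) fun i _ hi => by
          obtain ⟨s, h⟩ := exists_nd' M i
          exact absurd (hl.left s trivial) (not_le.2 (h.lt_of_pos hn hi))
      have : M.bn.B ⊓ M.bn.B.map (MulAut.conj n).toMonoidHom = M.H := by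
        refine le_antisymm ?_ fun x hx => ⟨M.H_le_B hx, n⁻¹ * x * n, ?_, by simp [mul_assoc]⟩
        · rintro _ ⟨h1, b, hb, rfl⟩
          refine mem_H_of_conj_w0 (n := (M.j n)⁻¹) (inv_mem hn) (by rw [ν_inv hn, e]) h1 ?_
          simpa [mul_assoc] using (show M.j b ∈ M.P.B from hb)
        · simpa [Model.bn, Twist.bnPair_B] using H_le_B (conj_mem_H' hn hx)
      rw [this]
      exact M.hH

/-- The Coxeter matrix and the panel sizes of a model, the orbits of nodes being numbered by `e`. -/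
structure MD {n : ℕ} (A : Fin n → Fin n → ℕ) (q : Fin n → ℕ) (e : Fin n → M.ι) : Prop where
  sur : ∀ i, ∃ a, i ∈ M.τ.T.orb (e a)
  ord : ∀ a b, orderOf (ref M (e a) * ref M (e b)) = A a b
  card : ∀ a, Nat.card (M.τ.UJ (e a)) = q a

variable {M} {n : ℕ} {A : Fin n → Fin n → ℕ} {q : Fin n → ℕ} {e : Fin n → M.ι}

theorem MD.ofEquiv (h : MD M A q e) {Γ' : Type*} [Group Γ'] (f : Γ' ≃* Γ) :
    MD (M.ofEquiv f) A q e := ⟨h.sur, h.ord, h.card⟩

theorem MD.quot [Finite Γ] (h : MD M A q e) (Z : Subgroup Γ) [Z.Normal] [(Z.map M.j).Normal]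
    (hZ : Z ≤ M.H) : MD (M.quot Z hZ) A q e := by
  refine ⟨h.sur, h.ord, fun a => ?_⟩
  rw [← h.card]
  have hk : (QuotientGroup.mk' (Z.map M.j)).ker ≤ M.P.H := by
    rw [QuotientGroup.ker_mk']
    rintro _ ⟨z, hz, rfl⟩
    exact hZ hz
  have hU := quotSplit_U M.P _ (QuotientGroup.mk'_surjective (Z.map M.j)) hk
  have up : ∀ {y}, y ∈ M.P.U {r | r ∈ M.S.Phi (M.τ.T.orb (e a)) ∧ M.S.pos r} → y ∈ M.P.Up :=
    fun hy => U_sub hy fun _ h => h.2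
  have inj : ∀ {y y'}, y ∈ M.P.Up → y' ∈ M.P.Up →
      QuotientGroup.mk' (Z.map M.j) y = QuotientGroup.mk' (Z.map M.j) y' → y = y' :=
    fun {y y'} hy hy' e => inv_mul_eq_one.1 (eq_one_of_U_H (mul_mem (inv_mem hy) hy') (hk (by
      rw [MonoidHom.mem_ker, map_mul, map_inv, e, inv_mul_cancel])))
  symm
  refine Nat.card_eq_of_bijective (fun y => ⟨QuotientGroup.mk' (Z.map M.j) y,
    (hU _).ge ⟨y, y.2.1, rfl⟩, congrArg (QuotientGroup.mk' (Z.map M.j)) y.2.2⟩)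
    ⟨fun y y' e => Subtype.ext (inj (up y.2.1) (up y'.2.1) (congrArg Subtype.val e)), ?_⟩
  rintro ⟨x, h1, h2⟩
  obtain ⟨y, hy, rfl⟩ := (hU _).le h1
  exact ⟨⟨y, hy, inj (M.τ.map_Up (up hy)) (up hy) h2⟩, rfl⟩

theorem MD.quotZ [Finite Γ] [Fact p.Prime] (h : MD M A q e)
    (hz : ∀ z ∈ Subgroup.center Γ, M.j z ∈ Subgroup.center M.G) : MD (M.quotZ hz) A q e :=
  haveI := normal_map_center hz
  h.quot _ M.center_le_H

/-- The untwisted case. -/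
theorem MD.of_one (hT : M.τ = Twist.one M.P) (he : Function.Surjective e)
    (ord : ∀ a b, orderOf (M.S.s (e a) * M.S.s (e b)) = A a b)
    (card : ∀ a, Nat.card (M.P.X (M.S.α (e a))) = q a) : MD M A q e := by
  have ho : ∀ i, M.τ.T.orb i = {i} := fun i => by rw [hT]; exact SignedSys.Sym.one_orb i
  refine ⟨fun i => ?_, fun a b => by rw [ref, ref, ho, ho, M.S.wJ_singleton, M.S.wJ_singleton, ord],
    fun a => ?_⟩
  · obtain ⟨a, rfl⟩ := he i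
    exact ⟨a, M.τ.T.mem_orb_self _⟩
  · rw [← card]
    congr 2
    ext g
    rw [M.τ.mem_UJ, ho, M.S.wJ_singleton, M.S.inv_s, U_singleton, hT]
    exact and_iff_left rfl

theorem tm_eq_one {n : ℕ} {par : ℕ → ℕ} {sp : ℕ} {a b : Fin n} (h : tm n par sp a b = 1) : a = b := by
  unfold tm at h
  split_ifs at h <;> first | assumption | omega

/-- The main theorem: models in the sense of `T3`. -/
theorem MD.isMod {Γ : Type} [Group Γ] [Finite Γ] [IsSimpleGroup Γ] [Fact p.Prime]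
    {M : Model.{0, v} p Γ} {e : Fin n → M.ι} (h : MD M A q e) (hA : ∀ a b, A a b = 1 → a = b)
    (hc : Concl Γ) : IsMod Γ A q := by
  choose f hf using exists_nd' M
  have hb : Function.Bijective fun a => f (e a) := by
    refine ⟨fun a b k => hA a b ?_, fun s => ?_⟩
    · rw [← h.ord, ← (hf _).orderOf (hf _), show f (e a) = f (e b) from k, InvGen.s_mul_s,
        orderOf_one]
    · obtain ⟨i, hi⟩ := exists_nd M s
      obtain ⟨a, ha⟩ := h.sur i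
      exact ⟨a, (hi.eq (hf _) ha).symm⟩
  exact ⟨inferInstance, inferInstance, hc, M.bn, Equiv.ofBijective _ hb, good M,
    fun a b => ((hf _).orderOf (hf _)).trans (h.ord a b),
    fun a => (hf _).ind.trans ((card_UJ M _).trans (h.card a))⟩

end Cfsg.Agent.H75.T3G
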