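import Cfsg.Agent.H74.CksDefs
import Cfsg.Agent.H79.T3Qb1

/-! Project CKS, pieces QGEN, TK3, QT: basic facts on windows. -/

set_option autoImplicit false

namespace Cfsg.Agent.H75.CksQ

open Subgroup Equiv Cfsg.Agent.H74.Cks Cfsg.Agent.H35 Cfsg.Agent.Lead.T3

theorem par {α : Type} [Fintype α] [DecidableEq α] {σ : Perm α} (h : Perm.sign σ = 1)
    (h2 : σ ^ 2 = 1) : Nat.card α % 4 = Nat.card (Function.fixedPoints σ) % 4 := by
  have h1 : Fintype.card α ≡ Fintype.card (Function.fixedPoints σ) [MOD 2] :=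
    Perm.card_fixedPoints_modEq (f := (σ : α → α)) (n := 1) (funext (Perm.ext_iff.1 h2))
  have h3 : Fintype.card (Function.fixedPoints σ) ≤ Fintype.card α := Fintype.card_subtype_le _
  rw [Perm.sign_of_pow_two_eq_one h2, neg_one_pow_eq_one_iff_even (by decide), Nat.even_iff] at h
  rw [Nat.card_eq_fintype_card, Nat.card_eq_fintype_card]
  unfold Nat.ModEq at h1
  omega

theorem small {Z : Type} [Group Z] [Finite Z] (h : Nat.card Z ≤ 3) {a b : Z} (ha : a ≠ 1)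
    (hb : b ≠ 1) : a = b ∨ a * b = 1 := by
  by_contra! e
  have := Set.ncard_le_card ({1, a, b, a * b} : Set Z)
  rw [Set.ncard_insert_of_notMem (by simp [ha.symm, hb.symm, e.2.symm]),
    Set.ncard_insert_of_notMem (by simp [e.1, hb]), Set.ncard_pair (by simp [ha])] at this
  omega

/-- the fixed points -/
abbrev fx {X : Type} [Group X] (α : MulAut X) : Subgroup X := α.toMonoidHom.eqLocus (.id X)

theorem sq1 {X : Type} [Group X] [Finite X] [IsMulCommutative X] (α : MulAut X) {m : ℕ}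
    (hm : α ^ m = 1) (cop : m.Coprime (Nat.card X)) (h : Nat.card X ≤ 3 * Nat.card (fx α)) :
    α ^ 2 = 1 := by
  ext x
  change α (α x) = x
  by_cases hx : α x = x
  · rw [hx, hx]
  have h3 : Nat.card (X ⧸ fx α) ≤ 3 := Nat.le_of_mul_le_mul_right
    (card_eq_card_quotient_mul_card_subgroup (fx α) ▸ h) Nat.card_pos
  rcases small h3 (a := x) (b := α x) (mt (QuotientGroup.eq_one_iff _).1 hx)
    (mt (QuotientGroup.eq_one_iff _).1 fun e => hx (α.injective e)) with e | e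
  · have e : α (x⁻¹ * α x) = x⁻¹ * α x := QuotientGroup.eq.1 e
    have k : ∀ n : ℕ, (α ^ n) x = x * (x⁻¹ * α x) ^ n := fun n => by
      induction n with
      | zero => simp
      | succ n ih =>
        rw [pow_succ', MulAut.mul_apply, ih, map_mul, map_pow, e, pow_succ', ← mul_assoc,
          mul_inv_cancel_left]
    have := k m
    rw [hm, MulAut.one_apply, left_eq_mul] at this
    exact absurd (eq_of_inv_mul_eq_one (orderOf_eq_one_iff.1 (Nat.eq_one_of_dvd_coprimes cop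
      (orderOf_dvd_of_pow_eq_one this) (orderOf_dvd_natCard _)))).symm hx
  · have e : α (x * α x) = x * α x := (QuotientGroup.eq_one_iff (x * α x)).1 e
    rwa [map_mul, mul_comm' x, mul_right_inj] at e

section sharp

variable {X : Type} [Group X] {Γ : Subgroup (Perm (Option X))} {l : X → Perm (Option X)}
  (l0 : ∀ x, l x none = none) (l1 : ∀ x y, l x (some y) = some (x * y)) (hl : ∀ x, l x ∈ Γ)
  {μ : Perm (Option X)} (hμ : μ ∈ Γ) (μ0 : μ none = some 1)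
  (st : ∀ g ∈ Γ, g none = none → ∃ x, g = l x)

include l0 l1 st in
theorem two {g : Perm (Option X)} (hg : g ∈ Γ) (h0 : g none = none) (h1 : g (some 1) = some 1) :
    g = 1 := by
  obtain ⟨x, rfl⟩ := st g hg h0
  obtain rfl : x = 1 := by simpa [l1] using h1
  ext1 (_ | y) <;> simp [l0, l1]

include l0 l1 hl hμ μ0 in
theorem tr {ω : Option X} (h : ω ≠ some 1) : ∃ η ∈ Γ, η none = some 1 ∧ η (some 1) = ω := by
  obtain ⟨x, hx⟩ := Option.ne_none_iff_exists'.1 fun e : μ⁻¹ ω = none =>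
    h ((Perm.inv_eq_iff_eq.1 e).trans μ0)
  exact ⟨μ * l x, mul_mem hμ (hl x), by simp [l0, μ0], by simp [l1, ← hx]⟩

include l0 l1 hl hμ μ0 st in
theorem shA {y y' : X} (h1 : y ≠ 1) (h1' : y' ≠ 1) (h2 : y * y = 1) (h2' : y' * y' = 1) :
    y = y' := by
  obtain ⟨η, e, e0, e1⟩ := tr l0 l1 hl hμ μ0 (ω := some y) (by simpa)
  obtain ⟨η', f, f0, f1⟩ := tr l0 l1 hl hμ μ0 (ω := some y') (by simpa)
  have i0 := Perm.inv_eq_iff_eq.2 e0.symm
  have i1 := Perm.inv_eq_iff_eq.2 e1.symm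
  have j0 := Perm.inv_eq_iff_eq.2 f0.symm
  have j1 := Perm.inv_eq_iff_eq.2 f1.symm
  have k := two l0 l1 st (mul_mem (mul_mem (mul_mem (inv_mem e) (hl y)) e)
    (mul_mem (mul_mem (inv_mem f) (hl y')) f)) (by simp only [Perm.mul_apply, *, mul_one])
    (by simp only [Perm.mul_apply, *, mul_one])
  have k0 : l y (η (η'⁻¹ none)) = η (η'⁻¹ none) := by
    have := DFunLike.congr_fun (show l y * η * η'⁻¹ * l y' = η * 1 * η'⁻¹ by
      rw [← k]; group) none
    simpa only [Perm.mul_apply, l0, mul_one] using this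
  have k1 : η (η'⁻¹ none) = none := by
    rcases h : η (η'⁻¹ none) with _ | x
    · rfl
    · rw [h, l1] at k0
      simp [h1] at k0
  simpa only [Perm.mul_apply, j1, e1, Perm.one_apply, Option.some.injEq] using DFunLike.congr_fun
    (two l0 l1 st (mul_mem e (inv_mem f)) k1 (by rw [Perm.mul_apply, j0, e0])) (some y')

include l0 l1 hl hμ μ0 st in
theorem shB [Fintype X] [DecidableEq X] (sg : ∀ g ∈ Γ, Perm.sign g = 1) (h : Nat.card X = 9) :
    False := by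
  obtain ⟨η, e, e0, e1⟩ := tr l0 l1 hl hμ μ0 (ω := none) (by simp)
  have h2 : η * η = 1 := two l0 l1 st (mul_mem e e) (by simp [*]) (by simp [*])
  have : IsEmpty (Function.fixedPoints η) := ⟨fun ⟨ω, hω⟩ => by
    rcases ω with _ | y
    · exact absurd (e0.symm.trans hω) (by simp)
    · obtain ⟨x, hx⟩ := st _ (mul_mem (mul_mem (inv_mem (mul_mem (hl y) e)) e) (mul_mem (hl y) e))
        (by simp only [Perm.mul_apply, Perm.inv_eq_iff_eq, e0, l1, mul_one]; exact hω)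
      have h3 : l x * l x = 1 := by
        rw [← hx]
        calc _ = (l y * η)⁻¹ * (η * η) * (l y * η) := by group
          _ = 1 := by rw [h2]; group
      have h4 : x ^ 2 = 1 := by simpa [l1, sq] using DFunLike.congr_fun h3 (some 1)
      obtain rfl := orderOf_eq_one_iff.1 (Nat.eq_one_of_dvd_coprimes (by norm_num)
        (orderOf_dvd_of_pow_eq_one h4) (h ▸ orderOf_dvd_natCard x))
      rw [two l0 l1 st (hl 1) (l0 1) (by simp [l1]), mul_assoc, inv_mul_eq_one,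
        right_eq_mul] at hx
      simp [hx] at e0⟩
  have := par (sg η e) ((sq η).trans h2)
  rw [Finite.card_option, h, Nat.card_of_isEmpty] at this
  omega

end sharp

variable {G : Type} [Group G] [Finite G] [IsSimpleGroup G] {p n : ℕ} [Fact p.Prime]

omit [Finite G] [IsSimpleGroup G] [Fact p.Prime] in
theorem sg (S : Sys G p n) (k : Fin n) (h : Odd (S.q k)) {A : Subgroup G} {α : Type} [Fintype α]
    [DecidableEq α] (φ : A →* Perm α) (hA : S.L k ≤ A) (g : A) (hg : (g : G) ∈ S.L k) :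
    Perm.sign (φ g) = 1 := by
  have key : ∀ x ∈ S.L k, x ^ S.q k = 1 → x ∈ (Perm.sign.comp φ).ker.map A.subtype :=
    fun x hx e => ⟨⟨x, hA hx⟩, (Int.units_eq_one_or _).resolve_right fun e' => by
      have := map_pow (Perm.sign.comp φ) ⟨x, hA hx⟩ (S.q k)
      rw [e', h.neg_one_pow, show (⟨x, hA hx⟩ : A) ^ S.q k = 1 from Subtype.ext e, map_one] at this
      exact absurd this (by decide), rfl⟩
  have e : ∀ x ∈ S.X k, x ^ S.q k = 1 := fun x hx =>
    congrArg Subtype.val (pow_card_eq_one' (x := (⟨x, hx⟩ : S.X k)))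
  obtain ⟨g', h1, h2⟩ := (sup_le (fun x hx => key x (mem_sup_left hx) (e x hx)) (fun x hx =>
    key x (mem_sup_right hx) (by
      obtain ⟨x, hx, rfl⟩ := hx
      rw [← map_pow, e x hx, map_one])) : S.L k ≤ _) hg
  exact (Subtype.ext h2 : g' = g) ▸ h1

/-- representatives of the chambers of a panel -/
def rp (S : Sys G p n) (k : Fin n) : Option (S.X k) → G
  | none => 1
  | some y => y * S.s k

omit [Finite G] [IsSimpleGroup G] [Fact p.Prime] in
theorem sT (S : Sys G p n) (k : Fin n) {t : G} (ht : t ∈ S.T) : (S.s k)⁻¹ * t * S.s k ∈ S.B :=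
  BN.conj_mem_B (S.bn.subset (S.e k).2) ht

/-- conjugation on a root group -/
abbrev cX (S : Sys G p n) (k : Fin n) {t : G} (ht : t ∈ S.T) : MulAut (S.X k) :=
  (S.X k).normalizerMonoidHom ⟨t, S.X_T k ht⟩

theorem panel (hB : Bas1Stmt) (S : Sys G p n) (k : Fin n) :
    ∃ ρ : S.P {k} →* Perm (Option (S.X k)), (∀ g, ρ g none = none ↔ (g : G) ∈ S.B) ∧
      (∀ (g : S.P {k}) (x : S.X k), (g : G) = x → ∀ y, ρ g (some y) = some (x * y)) ∧
      (∀ (g : S.P {k}) (h : (g : G) ∈ S.T), ρ g = (cX S k h).toEquiv.optionCongr) ∧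
      ∀ g : S.P {k}, ∀ t ∈ S.T, (g : G) = S.s k * t → ρ g none = some 1 := by
  obtain ⟨-, -, -, -, -, -, -, -, -, -, b1, -, b2, b3, -⟩ := hB S
  have hr : ∀ ω, rp S k ω ∈ S.P {k} := by
    rintro (_ | y)
    exacts [one_mem _, (b2 k _).2 (.inr ⟨y, y.2, 1, one_mem _, (mul_one _).symm⟩)]
  have XB : S.X k ≤ S.B := (le_sup_left.trans (S.X_sup k).le).trans (S.sp.U_le _)
  have sB : S.s k ∉ S.B := fun h => (b1 k).2.2.1 (eq_bot_iff.2 fun y hy =>
    b3 k y hy (mul_mem (mul_mem (inv_mem h) (XB hy)) h))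
  let e := Equiv.ofBijective
    (fun ω => ((⟨_, hr ω⟩ : S.P {k}) : S.P {k} ⧸ S.B.subgroupOf (S.P {k}))) ⟨by
      intro ω ω' h
      replace h : (rp S k ω)⁻¹ * rp S k ω' ∈ S.B :=
        (QuotientGroup.eq (s := S.B.subgroupOf (S.P {k}))).1 h
      rcases ω with _ | x <;> rcases ω' with _ | y
      · rfl
      · exact absurd ((mul_mem_cancel_left (XB y.2)).1 (by simpa [rp] using h)) sB
      · exact absurd ((mul_mem_cancel_left (XB x.2)).1 (by simpa [rp] using inv_mem h)) sB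
      · have := b3 k _ (x⁻¹ * y).2 (by simpa [rp, mul_assoc] using h)
        exact congrArg some (eq_of_inv_mul_eq_one (Subtype.ext this)), by
      rintro ⟨g, hg⟩
      rcases (b2 k g).1 hg with h | ⟨y, hy, b, hb, rfl⟩
      · exact ⟨none, QuotientGroup.eq.2 (show (1 : G)⁻¹ * g ∈ S.B by simpa)⟩
      · exact ⟨some ⟨y, hy⟩, QuotientGroup.eq.2
          (show (y * S.s k)⁻¹ * (y * S.s k * b) ∈ S.B by rwa [inv_mul_cancel_left])⟩⟩
  let ρ := e.symm.permCongrHom.toMonoidHom.comp (MulAction.toPermHom (S.P {k}) _)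
  have hρ : ∀ g ω ω', ρ g ω = ω' ↔ ((g : G) * rp S k ω)⁻¹ * rp S k ω' ∈ S.B := fun g ω ω' =>
    e.symm_apply_eq.trans QuotientGroup.eq
  refine ⟨ρ, fun g => by simp [hρ, rp], fun g x h y => by simp [hρ, rp, h, mul_assoc],
    fun g h => Equiv.ext ?_, fun g t ht h => by simpa [hρ, rp, h] using ht.1⟩
  rintro (_ | y) <;> rw [hρ]
  · simpa [rp] using h.1
  · change ((g : G) * (y * S.s k))⁻¹ * (g * y * (g : G)⁻¹ * S.s k) ∈ _
    simpa [mul_assoc] using sT S k (inv_mem h)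

theorem cop (hB : Bas1Stmt) (S : Sys G p n) (k : Fin n) {t : G} (ht : t ∈ S.T) :
    cX S k ht ^ Nat.card S.T = 1 ∧ (Nat.card S.T).Coprime (S.q k) := by
  obtain ⟨-, -, -, -, -, -, -, -, -, -, b1, -⟩ := hB S
  obtain ⟨c, -, hc⟩ := (b1 k).2.2.2
  refine ⟨?_, hc ▸ ((Nat.Prime.coprime_iff_not_dvd Fact.out).2 S.sp.coprime).symm.pow_right c⟩
  rw [← map_pow, show (⟨t, S.X_T k ht⟩ : normalizer (S.X k : Set G)) ^ Nat.card S.T = 1 from
    Subtype.ext (congrArg S.T.subtype (pow_card_eq_one' (x := (⟨t, ht⟩ : S.T)))), map_one]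

theorem cnt (hB : Bas1Stmt) (S : Sys G p n) (k : Fin n) (h : Odd (S.q k)) {t : G} (ht : t ∈ S.T)
    (hL : t ∈ S.L k) [IsMulCommutative (S.X k)] (h3 : S.q k ≤ 3 * Nat.card (fx (cX S k ht))) :
    S.q k % 4 = Nat.card (fx (cX S k ht)) % 4 := by
  classical
  obtain ⟨ρ, -, -, r, -⟩ := panel hB S k
  have := Fintype.ofFinite (S.X k)
  obtain ⟨-, -, -, -, -, -, -, -, -, -, -, -, -, -, -, -, b, -⟩ := hB S
  have hP := b {k} k (Finset.mem_singleton_self k)
  have h1 := sg S k h ρ hP ⟨t, hP hL⟩ hL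
  rw [r _ ht, Equiv.optionCongr_sign] at h1
  exact par h1 (Equiv.ext fun x => DFunLike.congr_fun
    (sq1 _ (cop hB S k ht).1 (cop hB S k ht).2 h3) x)

theorem z1 {F : Type} [Field F] {x : F → G} (h : ∀ s t, x (s + t) = x s * x t) : x 0 = 1 := by
  simpa using h 0 0

theorem qgen (hB : Bas1Stmt) : QgenStmt := by
  intro G _ _ _ p n _ S i j k _ _ _ F _ _ D
  obtain ⟨-, -, -, -, -, -, -, -, -, b0, b1, -⟩ := hB S
  have R := D.rel
  have c1 : S.q j = Nat.card F := (Nat.card_eq_of_bijective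
    (fun t => (⟨D.x1 t, (R.mem1 _).2 ⟨t, rfl⟩⟩ : S.X j)) ⟨fun _ _ e => R.inj1 (congrArg Subtype.val e),
      fun y => ((R.mem1 _).1 y.2).imp fun _ => Subtype.ext⟩).symm
  have k1 : S.Kind j k ↔ ∀ t, D.d.z t = 1 := ⟨fun h t => R.inj2 (by
      have := R.r13 1 t
      rw [h _ ((R.mem1 _).2 ⟨1, rfl⟩) _ ((R.mem3 _).2 ⟨t, rfl⟩)] at this
      simpa using this), fun h a ha b hb => by
    obtain ⟨s, rfl⟩ := (R.mem1 _).1 ha
    obtain ⟨t, rfl⟩ := (R.mem3 _).1 hb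
    rw [← mul_inv_eq_iff_eq_mul, R.r13, h, map_one, one_mul]⟩
  have : Nontrivial (S.X k) := (nontrivial_iff_ne_bot _).2 (b1 k).2.2.1
  refine ⟨c1, k1, ⟨fun h y y' => R.inj3 ?_, fun h a ha b hb => ?_⟩, ?_, fun h => le_antisymm
    (sup_le (sup_le (le_sup_left.trans (b1 j).1.le) (le_sup_left.trans (b1 k).1.le)) (b0 _))
    fun u hu => ?_⟩
  · have := R.r24 y y'
    rw [h _ y.2 _ (R.mem2 ▸ ⟨y', rfl⟩)] at this
    simpa [z1 R.add3] using this
  · obtain ⟨y, rfl⟩ : b ∈ D.a.range := R.mem2 ▸ hb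
    rw [← mul_inv_eq_iff_eq_mul, R.r24 ⟨a, ha⟩, h, z1 R.add3, mul_one]
  · rw [c1, k1]
    exact (H79.T3Q.qb1Stmt D.d).1
  set M := S.X j ⊔ S.X k
  have m1 : ∀ s, D.x1 s ∈ M := fun s => mem_sup_left ((R.mem1 _).2 ⟨s, rfl⟩)
  have m4 : ∀ y : S.X k, (y : G) ∈ M := fun y => mem_sup_right y.2
  have m : ∀ s y, D.a (D.d.sm s y) * D.x3 (s * D.d.Q y) ∈ M := fun s y =>
    (mul_mem_cancel_right (m4 y)).1 (R.r14 s y ▸ mul_mem (mul_mem (m1 s) (m4 y)) (inv_mem (m1 s)))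
  have m' : ∀ y, D.a y * D.x3 (D.d.Q y) ∈ M := fun y => by simpa [D.d.sm_one] using m 1 y
  have m3 : ∀ t, D.x3 t ∈ M := by
    by_contra! ⟨t, ht⟩
    have z : ∀ c, D.x3 c ∈ M → c = 0 := fun c hc => by_contra fun c0 => by
      have t0 : t / c ≠ 0 := div_ne_zero (fun e => ht (by rw [e, z1 R.add3]; exact one_mem _)) c0
      have : _ ∈ S.T := (D.hT _ t0).1.1
      rw [mem_normalizer_iff.1 (normalizer_inf_normalizer_le_normalizer_sup _ _
        ⟨S.X_T j this, S.X_T k this⟩), D.h3 _ t0,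
        div_mul_cancel₀ _ c0] at hc
      exact ht hc
    have hb : ∀ y y', D.d.Bf y y' = 0 := fun y y' => z _ (by
      have := mul_mem (inv_mem (m' y')) (mul_mem (mul_mem (m4 y) (m' y')) (inv_mem (m4 y)))
      rwa [← mul_assoc (y : G), mul_assoc _ _ (y : G)⁻¹, (Commute.inv_right (R.c34 _ y)).eq,
        ← mul_assoc _ (y : G)⁻¹, R.r24, mul_assoc, ← R.add3, add_comm, R.add3, ← mul_assoc (D.a y'),
        inv_mul_cancel_left] at this)
    obtain ⟨y, hy⟩ := exists_ne (1 : S.X k)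
    have h2 : Nat.card F = 2 := Nat.card_eq_two_iff' (0 : F) |>.2 ⟨1, one_ne_zero, fun s hs => by
      have := mul_mem (inv_mem (m s y)) (m' (D.d.sm s y))
      rw [D.d.Q_sm, ← add_sub_cancel (s * D.d.Q y) (s * _ * _), R.add3, ← mul_assoc,
        ← mul_assoc, mul_assoc _ (D.a _), inv_mul_cancel, one_mul] at this
      have h3 := z _ this
      rw [← sub_mul, mul_eq_zero, ← mul_sub_one, mul_eq_zero, sub_eq_zero, map_eq_one_iff _
        D.d.σ.injective] at h3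
      exact (h3.resolve_right (mt (D.d.Q_ne y) hy)).resolve_left hs⟩
    refine h ⟨c1.trans h2, le_antisymm (h2 ▸ Nat.card_le_card_of_injective D.d.Q fun a b e => ?_)
      Finite.one_lt_card⟩
    have := D.d.Q_mul a (a⁻¹ * b)
    rw [mul_inv_cancel_left, hb, e, add_zero, left_eq_add] at this
    exact eq_of_inv_mul_eq_one (D.d.Q_ne _ this)
  obtain ⟨s, y, t, y', r, hr, rfl⟩ := D.nf u hu
  exact mul_mem (mem_sup_left (mul_mem (mul_mem (mul_mem (m1 s)
    ((mul_mem_cancel_right (m3 _)).1 (m' y))) (m3 t)) (m4 y'))) (mem_sup_right hr)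

theorem tk3 (hB : Bas1Stmt) (hF : FaithStmt) : Tk3Stmt := by
  classical
  intro G _ _ _ p n _ S i j k _ _ _ F _ _ D hz hF3 hq hl
  refine eq_bot_iff.2 fun t ⟨ht, hL⟩ => ?_
  have R := D.rel
  have : IsCyclic (S.X k) := isCyclic_of_prime_card (p := 3) hq
  have ck : ∀ y ∈ S.X k, t * y = y * t := fun y hy => by
    have h1 := cnt hB S k (by rw [hq]; decide) ht hL
      (by rw [hq]; exact Nat.le_mul_of_pos_right _ Nat.card_pos)
    have h2 := (card_le_card_group (fx (cX S k ht))).trans_eq hq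
    have h3 : fx (cX S k ht) = ⊤ := eq_top_of_card_eq _
      (by rw [hq] at h1; exact (by omega : _ = 3).trans hq.symm)
    exact mul_inv_eq_iff_eq_mul.1 (congrArg Subtype.val (h3.ge (mem_top (⟨y, hy⟩ : S.X k))))
  refine hF S k.pos t ht fun l y hy => ?_
  by_cases h1 : l = k
  · exact ck y (h1 ▸ hy)
  by_cases h2 : l = j
  swap
  · exact (S.cm2 l k (hl l h2 h1) y (mem_sup_left hy) t hL).symm
  subst h2
  have lin : ∀ x : F → G, (∀ s u, x (s + u) = x s * x u) →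
      (∀ c, c ≠ 0 → ∀ s, D.h c * x s * (D.h c)⁻¹ = x (c * s)) → ∀ c ε, c ≠ 0 →
      t * x c * t⁻¹ = x (c * ε) → ∀ s, t * x s * t⁻¹ = x (s * ε) := fun x h1 h2 c ε c0 e s => by
    by_cases s0 : s = 0
    · simp [s0, z1 h1]
    have h3 := div_ne_zero s0 c0
    rw [← div_mul_cancel₀ s c0, mul_assoc (s / c), ← h2 _ h3, ← h2 _ h3, ← e, ← mul_assoc, ← mul_assoc,
      S.comm t ht _ (D.hT _ h3).1.1, mul_assoc _ _ t⁻¹, ← mul_inv_rev, S.comm t ht _ (D.hT _ h3).1.1]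
    group
  obtain ⟨ε, e⟩ := (R.mem1 _).1 ((mem_normalizer_iff.1 (S.X_T l ht) _).1 ((R.mem1 _).2 ⟨1, rfl⟩))
  have e1 := lin D.x1 R.add1 D.h1 1 ε one_ne_zero (by rw [one_mul, e])
  have := Fintype.ofFinite F
  rw [Nat.card_eq_fintype_card] at hF3
  have ε0 : ε ≠ 0 := fun h => one_ne_zero (R.inj1 (by
    rw [h, z1 R.add1, eq_comm, conj_eq_one_iff] at e; rw [e, z1 R.add1]))
  obtain rfl | rfl : ε = 1 ∨ ε = -1 := by
    simpa [hF3] using FiniteField.pow_card_sub_one_eq_one ε ε0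
  · obtain ⟨s, rfl⟩ := (R.mem1 _).1 hy
    rw [← mul_inv_eq_iff_eq_mul, e1, mul_one]
  exfalso
  have c13 : ∀ s u, D.x1 s * D.x3 u = D.x3 u * D.x1 s := fun s u => by
    rw [← mul_inv_eq_iff_eq_mul, R.r13, hz, map_one, one_mul]
  have sm : ∀ y, D.d.sm (-1) y = y⁻¹ := fun y => by
    have := D.d.sm_add 1 (-1) y
    rw [add_neg_cancel, D.d.sm_zero, hz, mul_one, D.d.sm_one] at this
    exact eq_inv_of_mul_eq_one_left this.symm
  have e2 : ∀ y, t * (D.a y * D.x3 (D.d.Q y)) * t⁻¹ = D.a y⁻¹ * D.x3 (D.d.Q y * -1) := fun y => by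
    have h3 := congrArg (fun g => t * g * t⁻¹) (R.r14 1 y)
    simp only [D.d.sm_one, one_mul] at h3
    rw [← conj_mul, ← conj_mul, ← conj_mul (c := (y : G)), ← conj_inv, e1, ck y y.2, mul_inv_cancel_right,
      R.r14, mul_left_inj, one_mul, sm, mul_comm] at h3
    exact h3.symm
  have h3 : (3 : F) = 0 := by simpa [hF3] using FiniteField.cast_card_eq_zero F
  have h2 : ∀ c : F, c + c = 0 → c = 0 := fun c h => by linear_combination c * h3 - h
  have e3 : ∀ u, t * D.x3 u * t⁻¹ = D.x3 (u * -1) := by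
    have : Nontrivial (S.X k) := Finite.one_lt_card_iff_nontrivial.1 (hq.ge.trans_lt' (by decide))
    obtain ⟨y, hy⟩ := exists_ne (1 : S.X k)
    have h4 : D.d.Q y⁻¹ = D.d.Q y := by rw [← sm, D.d.Q_sm]; simp
    have h5 : ∀ y c, D.a y * D.x3 c * (D.a y⁻¹ * D.x3 c) = D.x3 (c + c) := fun y c => by
      rw [R.c23, mul_assoc, ← mul_assoc (D.a y), ← map_mul, mul_inv_cancel, map_one, one_mul, R.add3]
    refine lin D.x3 R.add3 D.h3 _ _ (mt (h2 _) (mt (D.d.Q_ne y) hy)) ?_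
    rw [add_mul, ← h5 y, ← h5 y⁻¹, ← conj_mul, e2]
    conv_lhs => rw [← h4, e2, h4]
  have e4 : ∀ y, t * D.a y * t⁻¹ = D.a y⁻¹ := fun y => by
    simpa only [← conj_mul, e3, mul_left_inj] using e2 y
  let φ : Multiplicative F × S.X k × Multiplicative F →* G := MonoidHom.mk'
    (fun v => D.x1 v.1.toAdd * D.a v.2.1 * D.x3 v.2.2.toAdd) fun v w => by
      simp only [Prod.fst_mul, Prod.snd_mul, toAdd_mul, R.add1, R.add3, map_mul]
      rw [Commute.mul_mul_mul_comm (R.c12 _ _),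
        (Commute.mul_left (c13 _ _) (R.c23 _ _)).mul_mul_mul_comm]
  have hφ : ∀ s y u, φ (.ofAdd s, y, .ofAdd u) = D.x1 s * D.a y * D.x3 u := fun _ _ _ => rfl
  have inj : Function.Injective φ := (injective_iff_map_eq_one φ).2 fun ⟨s, y, u⟩ h => by
    obtain ⟨h1, h2, h3, -⟩ := D.uniq s.toAdd y u.toAdd 1 (by
      rw [← hφ, coe_one, mul_one]; exact h ▸ one_mem _)
    exact Prod.ext h1 (Prod.ext h2 h3)
  have c : Nat.card φ.range = 27 := by
    rw [← Nat.card_congr (MonoidHom.ofInjective inj).toEquiv, Nat.card_prod, Nat.card_prod,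
      show Nat.card (S.X k) = 3 from hq]
    simp [hF3]
  have m1 : ∀ g ∈ S.X l, g ∈ φ.range := fun g hg => ((R.mem1 g).1 hg).elim fun s e =>
    ⟨(.ofAdd s, 1, .ofAdd 0), by rw [hφ, z1 R.add3, e, map_one, mul_one, mul_one]⟩
  have m2 : ∀ g ∈ S.Y k l, g ∈ φ.range := fun g hg => (R.mem2.ge hg).elim fun y e =>
    ⟨(.ofAdd 0, y, .ofAdd 0), by rw [hφ, z1 R.add3, z1 R.add1, e, one_mul, mul_one]⟩
  have m3 : ∀ g ∈ S.Y l k, g ∈ φ.range := fun g hg => ((R.mem3 g).1 hg).elim fun s e =>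
    ⟨(.ofAdd 0, 1, .ofAdd s), by rw [hφ, z1 R.add1, e, map_one, mul_one, one_mul]⟩
  have n1 := fun s => (R.mem1 _).2 ⟨s, rfl⟩
  have n2 : ∀ y, D.a y ∈ S.Y k l := fun y => R.mem2.le ⟨y, rfl⟩
  have n3 := fun s => (R.mem3 _).2 ⟨s, rfl⟩
  have nE : ∀ g, (∀ s, g * D.x1 s * g⁻¹ ∈ φ.range) → (∀ y, g * D.a y * g⁻¹ ∈ φ.range) →
      (∀ s, g * D.x3 s * g⁻¹ ∈ φ.range) → g ∈ normalizer (φ.range : Set G) := fun g h1 h2 h3 =>
    mem_normalizer_fintype (by
      rintro _ ⟨⟨s, y, u⟩, rfl⟩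
      change g * (D.x1 _ * D.a y * D.x3 _) * g⁻¹ ∈ φ.range
      rw [← conj_mul, ← conj_mul]
      exact mul_mem (mul_mem (h1 _) (h2 y)) (h3 _))
  have XE : S.X k ≤ normalizer (φ.range : Set G) := fun y hy => nE y (fun s => by
      have := mul_mem (inv_mem (mul_mem (m2 _ (n2 (D.d.sm s ⟨y, hy⟩)))
        (m3 _ (n3 (s * D.d.Q ⟨y, hy⟩))))) (m1 _ (n1 s))
      rw [← mul_inv_eq_iff_eq_mul.2 (R.r14 s ⟨y, hy⟩)] at this
      simpa [mul_assoc] using this)
    (fun y' => R.r24 ⟨y, hy⟩ y' ▸ mul_mem (m2 _ (n2 _)) (m3 _ (n3 _))) fun s => by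
      rw [← R.c34 s ⟨y, hy⟩, mul_inv_cancel_right]
      exact m3 _ (n3 s)
  have sN := S.bn.subset (S.e k).2
  have sE : S.s k ∈ normalizer (φ.range : Set G) := nE _ (fun s => m3 _ ⟨_, n1 s, rfl⟩)
    (fun y => m2 _ (D.wk.le ⟨_, n2 y, rfl⟩)) fun s => by
      obtain ⟨g, hg, e⟩ := n3 s
      have := (mem_normalizer_iff.1 (S.X_T l ⟨S.bn.sq_mem _ (S.e k).2, mul_mem sN sN⟩) g).1 hg
      rw [← e]
      simpa [mul_assoc] using m1 _ this
  have LE : S.L k ≤ normalizer (φ.range : Set G) := sup_le XE (by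
    rintro _ ⟨y, hy, rfl⟩
    exact mul_mem (mul_mem sE (XE hy)) (inv_mem sE))
  have iv : ∀ v : φ.range, φ.range.normalizerMonoidHom ⟨t, LE hL⟩ v = v⁻¹ := by
    rintro ⟨_, ⟨s, y, u⟩, rfl⟩
    refine Subtype.ext (Eq.trans ?_ (map_inv φ _))
    change t * (D.x1 _ * D.a y * D.x3 _) * t⁻¹ = D.x1 (-s.toAdd) * D.a y⁻¹ * D.x3 (-u.toAdd)
    rw [← conj_mul, ← conj_mul, e1, e3, e4, mul_neg_one, mul_neg_one]
  have := Fintype.ofFinite φ.range
  have h5 := par (sg S k (by rw [hq]; decide)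
    ((MulAction.toPermHom (MulAut φ.range) φ.range).comp φ.range.normalizerMonoidHom) LE ⟨t, LE hL⟩ hL)
    (Equiv.ext fun v => (iv _).trans (inv_eq_iff_eq_inv.2 (iv v)))
  rw [c, Nat.card_eq_one_iff_exists.2 ⟨⟨1, (iv 1).trans inv_one⟩, fun ⟨v, hv⟩ => Subtype.ext
    (orderOf_eq_one_iff.1 (Nat.eq_one_of_dvd_coprimes (by norm_num : Nat.Coprime 2 27)
      (orderOf_dvd_of_pow_eq_one ((sq v).trans (mul_eq_one_iff_inv_eq.2 ((iv v).symm.trans hv))))
      (c ▸ orderOf_dvd_natCard v)))⟩] at h5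
  omega

theorem qt (hB : Bas1Stmt) : QtStmt := by
  classical
  intro G _ _ _ p n _ S i j k _ _ _ F _ _ D h
  by_contra! hc
  obtain ⟨ρ, r0, r1, r2, r3⟩ := panel hB S k
  obtain ⟨-, -, -, -, -, -, -, -, -, -, b1, -, -, -, b2, b3, b4, -⟩ := hB S
  have hP := b4 {k} k (Finset.mem_singleton_self k)
  have : IsMulCommutative (S.X k) := h.elim
    (fun h => IsPGroup.isMulCommutative_of_card_eq_prime_sq (p := 2) h.2)
    fun h => IsPGroup.isMulCommutative_of_card_eq_prime_sq (p := 3) h.2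
  have cen : ∀ t (ht : t ∈ S.T), t ∈ S.L k → cX S k ht = 1 := fun t ht hL => by
    have h1 : Nat.card (fx (cX S k ht)) ≠ 1 := fun e => by
      obtain ⟨y, hy, h1, h2⟩ := hc t ⟨ht, hL⟩
      exact h2 (congrArg Subtype.val (mem_bot.1 ((card_eq_one.1 e).le
        (Subtype.ext (mul_inv_eq_iff_eq_mul.2 h1) : (⟨y, hy⟩ : S.X k) ∈ _))))
    have h2 : 0 < Nat.card (fx (cX S k ht)) := Nat.card_pos
    obtain ⟨h3, h4⟩ := cop hB S k ht
    rcases h with ⟨-, h⟩ | ⟨-, h⟩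
    · exact orderOf_eq_one_iff.1 (Nat.eq_one_of_dvd_coprimes (h ▸ h4) (orderOf_dvd_of_pow_eq_one h3)
        ((orderOf_dvd_of_pow_eq_one (sq1 _ h3 h4 (h.trans_le (by omega)))).trans (by decide)))
    · have h5 : _ ∣ 3 ^ 2 := (card_subgroup_dvd_card (fx (cX S k ht))).trans h.dvd
      obtain ⟨c, h6, h7⟩ := (Nat.dvd_prime_pow Nat.prime_three).1 h5
      have h8 := cnt hB S k (by rw [h]; decide) ht hL (by
        rw [h, h7]; rw [h7] at h1; interval_cases c <;> omega)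
      have h9 : fx (cX S k ht) = ⊤ := eq_top_of_card_eq _ (Eq.trans (by
        rw [h, h7] at h8; rw [h7] at h1 ⊢; interval_cases c <;> omega) h.symm)
      exact MulEquiv.ext fun y => h9.ge (mem_top y)
  obtain ⟨t, ht, hs⟩ := b3 k
  have XL : ∀ x : S.X k, (x : G) ∈ S.L k := fun x => mem_sup_left x.2
  have l0 := fun x => (r0 ⟨_, hP (XL x)⟩).2 (S.sp.U_le _ ((le_sup_left.trans (b1 k).1.le) x.2))
  have l1 := fun x => r1 ⟨_, hP (XL x)⟩ x rfl
  have hl : ∀ x, ρ ⟨_, hP (XL x)⟩ ∈ ((S.L k).subgroupOf (S.P {k})).map ρ := fun x => ⟨_, XL x, rfl⟩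
  have hμ : ρ ⟨_, hP hs⟩ ∈ ((S.L k).subgroupOf (S.P {k})).map ρ := ⟨_, hs, rfl⟩
  have μ0 := r3 ⟨_, hP hs⟩ t ht rfl
  have st : ∀ g ∈ ((S.L k).subgroupOf (S.P {k})).map ρ, g none = none →
      ∃ x, g = ρ ⟨_, hP (XL x)⟩ := by
    rintro _ ⟨g, hg, rfl⟩ h0
    obtain ⟨x, hx, τ, hτ, e⟩ := (coe_mul_of_right_le_normalizer_left _ _
      (inf_le_left.trans (S.X_T k))).le ((b2 k).le ⟨hg, (r0 g).1 h0⟩)
    refine ⟨⟨x, hx⟩, ?_⟩
    rw [show g = ⟨_, hP (XL ⟨x, hx⟩)⟩ * ⟨τ, hP hτ.2⟩ from Subtype.ext e.symm, map_mul,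
      r2 ⟨τ, hP hτ.2⟩ hτ.1, cen τ hτ.1 hτ.2]
    exact (congrArg _ Equiv.optionCongr_refl).trans (mul_one _)
  rcases h with ⟨h1, h⟩ | ⟨-, h⟩
  · have : Nontrivial (S.X k) := (nontrivial_iff_ne_bot _).2 (b1 k).2.2.1
    have hz : ∀ t, D.d.z t = 1 := by
      rcases (H79.T3Q.qb1Stmt D.d).1 with h2 | ⟨-, h2 | ⟨r, h2, -⟩⟩
      · exact h2.1
      · exact absurd (h.symm.trans (h2.1.trans h1)) (by decide)
      · rw [h1] at h2
        have : r < 2 := by nlinarith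
        interval_cases r <;> omega
    have := Fintype.ofFinite F
    have h2 : (1 + 1 : F) = 0 := by
      rw [one_add_one_eq_two]
      simpa [← Nat.card_eq_fintype_card, h1] using FiniteField.cast_card_eq_zero F
    have yy : ∀ y : S.X k, y * y = 1 := fun y => by
      simpa [h2, hz, D.d.sm_one, D.d.sm_zero] using (D.d.sm_add 1 1 y).symm
    obtain ⟨y, hy⟩ := exists_ne (1 : S.X k)
    have := Nat.card_eq_two_iff' (1 : S.X k) |>.2 ⟨y, hy, fun y' hy' =>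
      shA l0 l1 hl hμ μ0 st hy' hy (yy _) (yy _)⟩
    exact absurd (h.symm.trans this) (by decide)
  · have := Fintype.ofFinite (S.X k)
    refine shB l0 l1 hl hμ μ0 st ?_ h
    rintro _ ⟨g, hg, rfl⟩
    exact sg S k (by rw [h]; decide) ρ hP g hg

end Cfsg.Agent.H75.CksQ
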