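import Cfsg.Agent.H75.T3Ord
import Cfsg.Agent.S0270
import Cfsg.Agent.S0295
import Cfsg.Agent.S0296
import Cfsg.Agent.S0297

/-!
# The symplectic and orthogonal models
-/

set_option autoImplicit false

namespace Cfsg.Agent.H75.T3G

open Equiv H34 H78 H78.Frame H26 H26.PForm Module QuadraticMap Lead.T3

universe u v

theorem card_comap {Γ G : Type*} [Group Γ] [Group G] {j : Γ →* G} (hj : Function.Injective j)
    {K : Subgroup G} (h : K ≤ j.range) : Nat.card (K.comap j) = Nat.card K :=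
  Nat.card_eq_of_bijective (fun y => ⟨j y, y.2⟩)
    ⟨fun _ _ e => Subtype.ext (hj (congrArg Subtype.val e)), fun y => by
      obtain ⟨x, e⟩ := h y.2
      exact ⟨⟨x, show j x ∈ _ from e ▸ y.2⟩, Subtype.ext e⟩⟩

section

variable {F : Type*} {V : Type v} [Field F] [AddCommGroup V] [Module F V] {P : PForm F V} {n : ℕ}
  {Fr : Frame P n} {d : Prop}

theorem card_XS {a b : BI n} (h : a.1 ≠ b.1) : Nat.card (Fr.X a b) = Nat.card F := by
  refine (Nat.card_eq_of_bijective (fun t => ⟨Fr.xs a b t, (mem_XS h).2 ⟨t, rfl⟩⟩)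
    ⟨fun s t e => ?_, fun g => ((mem_XS h).1 g.2).imp fun t e => Subtype.ext e.symm⟩).symm
  have e1 := xs_apply_ng (Fr := Fr) h s
  rw [show Fr.xs a b s = Fr.xs a b t from congrArg Subtype.val e, xs_apply_ng h, add_right_inj] at e1
  exact (mul_left_cancel₀ (Fr.pair' a) (smul_left_injective F (Fr.e_ne_zero b) e1)).symm

theorem card_XL (a : BI n) : Nat.card (Fr.X a a) = Nat.card Fr.V0 * Nat.card P.Λ := by
  have ev : ∀ x : Fr.V0 × P.Λ, P.EV (Fr.e a) x.1 (P.h x.1 + x.2) :=
    fun x => ⟨Fr.sing a, f_V0 x.1.2 a, by simp⟩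
  rw [← Nat.card_prod]
  refine (Nat.card_eq_of_bijective (fun x => ⟨_, eT_mem_XL x.1.2 (ev x)⟩)
    ⟨fun x y e => ?_, fun g => ?_⟩).symm
  · have e1 := eT_apply (ev x) (Fr.e (ng a))
    rw [show eT P _ _ _ = _ from congrArg Subtype.val e, eT_apply (ev y), f_V0' x.1.2, f_V0' y.1.2,
      add_sub_assoc, add_sub_assoc, add_right_inj] at e1
    have e2 := congrArg (fun v => P.f v (Fr.e (ng a))) e1
    simp only [P.f_sub_left, P.f_smul_left, f_V0 x.1.2, f_V0 y.1.2, mul_zero, zero_sub, neg_inj,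
      zero_add, mul_eq_mul_right_iff, mul_eq_mul_left_iff, Fr.pair a, Fr.pair' a, P.ε_ne_zero,
      or_false] at e2
    rw [e2, sub_left_inj] at e1
    have e3 : x.1 = y.1 := Subtype.ext (smul_right_injective V (Fr.pair' a) e1).symm
    rw [e3, add_right_inj] at e2
    exact Prod.ext e3 (Subtype.ext e2.symm)
  · obtain ⟨w, ν, hw, h, e⟩ := mem_XL.1 g.2
    exact ⟨(⟨w, hw⟩, ⟨_, h.nu⟩), Subtype.ext (by simp [e])⟩

variable (hA : Fr.Aniso) (hd : ¬ d → ∀ a, Fr.X a a = ⊥) (hd' : d → ∀ a, Fr.X a a ≠ ⊥)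
  {Γ : Type u} [Group Γ] (j : Γ →* V ≃ₗ[F] V) (hj : Function.Injective j) (hr : j.range = P.E)
  [FiniteDimensional F V]

include hA hd hd' hj hr in
theorem frameMD [Finite Γ] (h3 : 3 ≤ n) {k : ℝ} (hL : BCL Fr.X k) (p : ℕ) [Fact p.Prime] [CharP F p]
    (hV : ∀ g ∈ P.E, (∀ a, g (Fr.e a) = Fr.e a) → g ^ p = 1 → g = 1) :
    ∃ (M : Model.{u, u} p (Γ ⧸ Subgroup.center Γ)) (e : Fin n → M.ι),
      (d → MD M (tm n parA (n - 1)) (qC n (Nat.card F) (Nat.card Fr.V0 * Nat.card P.Λ)) e) ∧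
      (¬ d → MD M (tm n (parD n) 0) (fun _ => Nat.card F) e) := by
  have : Nonempty (Fin n) := ⟨⟨0, by omega⟩⟩
  have hn : d ∨ 2 ≤ n := Or.inr (by omega)
  let M := (frameRDL hA hn hd hd' j hj hr (by omega) hL).model1
    (coordBC_conn hn (by omega) (Or.inr h3) k hL.pos) (fun r _ => frameRD'_isPGroup hA hn hd hd' j hj hr p r)
    (frameRD'_noTors hA hn hd hd' j hj hr p hV)
  have hc : ∀ i : Fin n, Nat.card (M.P.X (M.S.α i)) = Nat.card (Fr.X (i, false) (sB hn i)) :=
    fun i => card_comap hj (hr ▸ X_le_E _ _)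
  refine ⟨M.quotZ fun _ h => h, Fin.rev, fun h => MD.quotZ (M := M) (MD.of_one rfl Fin.rev_surjective
    (order_C hn h) fun a => ?_) _, fun h => MD.quotZ (M := M) (MD.of_one rfl Fin.rev_surjective
    (order_D hn h h3) fun a => ?_) _⟩
  · have := a.2
    rw [hc, qC]
    rcases sB_cases hn a.rev with k | k | k
    · rw [if_neg (by have := k.1; rw [Fin.val_rev] at this; omega)]
      exact card_XS fun e => by have := k.2.2; rw [← e] at this; simp at this
    · rw [if_pos (by have := k.1; rw [Fin.val_rev] at this; omega), k.2.2, card_XL]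
    · exact absurd h k.2.1
  · rw [hc]
    rcases sB_cases hn a.rev with k | k | k
    · exact card_XS fun e => by have := k.2.2; rw [← e] at this; simp at this
    · exact absurd k.2.1 h
    · exact card_XS fun e => by have := k.2.2.2; rw [← e] at this; simp only at this; omega

end

theorem qC_self (n q : ℕ) : qC n q q = fun _ => q := funext fun _ => ite_self _

theorem msStmt : MsStmt := by
  intro F _ _ m hm
  haveI : Fact (ringChar F).Prime := ⟨CharP.char_is_prime F _⟩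
  haveI := S0270.result (F := F) m (by omega) (by omega)
  have hV : finrank F (Fin m ⊕ Fin m → F) = 2 * m := by simp [two_mul]
  obtain ⟨Fr, -⟩ := Frame.exists_norm (sympP (H27.isSymplecticForm_sympForm (F := F) m)) m
    (by rw [hV]; exact Nat.add_le_add_left (show 1 ≤ 2 by decide) _)
  have h0 := Fr.V0_eq_bot hV
  obtain ⟨M, e, h, -⟩ := frameMD (d := True) (Fr.aniso_of_finrank (by omega))
    (fun h => absurd trivial h)
    (fun _ a => XL_ne_bot (zero_mem _) (EV.of_mem (Fr.sing a) trivial) fun _ => one_ne_zero)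
    (gl.toMonoidHom.comp (H27.spToGL m F)) (gl.injective.comp H27.spToGL_injective) (by
      ext g
      obtain ⟨g, rfl⟩ := gl.surjective g
      rw [← mem_spGL_iff, ← H27.range_spToGL]
      exact ⟨fun ⟨x, h⟩ => ⟨x, gl.injective h⟩, fun ⟨x, h⟩ => ⟨x, congrArg gl h⟩⟩) hm
    (k := 1) ⟨by norm_num, le_rfl, fun a => commute_XL_of_bot h0 (ne_ng a),
      Or.inr fun a c h => commute_XL_of_bot h0 (fst_ne_iff.1 h).2, Or.inl rfl⟩ (ringChar F)
    fun g _ h _ => Fr.ext_frame h fun w hw => by rw [show w = 0 by simpa [h0] using hw]; simp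
  have h1 := h trivial
  rw [h0, show (sympP _).Λ = ⊤ from rfl, AddSubgroup.card_top, Nat.card_unique (α := (⊥ : Submodule F _)), one_mul, qC_self,
    Nat.card_eq_fintype_card] at h1
  exact h1.isMod (fun _ _ => tm_eq_one)
    (Or.inr (Or.inl ⟨F, inferInstance, inferInstance, m, by omega, by omega, ⟨MulEquiv.refl _⟩⟩))

section O

open H30

theorem eichMD {F : Type} {ι : Type} [Fintype ι] [DecidableEq ι] [Field F] [Fintype F]
    {Q : QuadraticForm F (ι → F)} {hQ : (polarBilin Q).Nondegenerate} {n k : ℕ}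
    (Fr : Frame (ofQuad Q hQ) n) (hA : Fr.Aniso) (h2 : Fintype.card ι = 2 * n + k) (hk : k ≤ 2)
    (h3 : 3 ≤ n) (hc : Concl (POmega F ⇑Q)) :
    (k ≠ 0 → IsMod (POmega F ⇑Q) (tm n parA (n - 1))
      (qC n (Fintype.card F) (Fintype.card F ^ k))) ∧
    (k = 0 → IsMod (POmega F ⇑Q) (tm n (parD n) 0) fun _ => Fintype.card F) := by
  haveI : Fact (ringChar F).Prime := ⟨CharP.char_is_prime F _⟩
  haveI := isSimpleGroup_POmega hQ (by omega)
  have : Finite ((ι → F) ≃ₗ[F] (ι → F)) := Finite.of_injective _ DFunLike.coe_injective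
  have hV : finrank F (ι → F) = 2 * n + k := by rw [finrank_pi', h2]
  have h0 : finrank F Fr.V0 = k := by have := Fr.finrank_V0; omega
  obtain ⟨M, e, h, h'⟩ := frameMD hA (quad_hd Fr) (quad_hd' Fr) (eichIncl Q) eichIncl_injective
    (range_eichIncl hQ) h3 (quad_bcl Fr) (ringChar F) (quad_hV Fr (by omega) _)
  let f := pomegaEquivEich hQ (not_isExc_of_finrank (by omega)) (by omega)
  haveI := Finite.of_equiv _ f.symm.toEquiv
  rw [show (ofQuad Q hQ).Λ = ⊥ from rfl, AddSubgroup.card_bot, mul_one,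
    Module.natCard_eq_pow_finrank (K := F) (V := Fr.V0), h0, Nat.card_eq_fintype_card] at h
  rw [Nat.card_eq_fintype_card] at h'
  exact ⟨fun k0 => ((h fun e => k0 (by rw [← h0, e, finrank_bot])).ofEquiv f).isMod
      (fun _ _ => tm_eq_one) hc,
    fun k0 => ((h' (not_not.2 (Submodule.finrank_eq_zero.1 (h0.trans k0)))).ofEquiv f).isMod
      (fun _ _ => tm_eq_one) hc⟩

theorem moStmt : MoStmt := by
  intro F _ _ m hm
  refine ⟨fun hodd => ?_, ?_⟩
  · have h2 := two_ne_zero_iff_odd_card.2 hodd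
    have hV : finrank F (Unit ⊕ (Fin m ⊕ Fin m) → F) = 2 * m + 1 := by simp; omega
    obtain ⟨Fr, -⟩ := Frame.exists_norm (ofQuad _ (qOdd_nondegenerate h2 m)) m (by rw [hV]; rfl)
    have := (eichMD (k := 1) Fr (Fr.aniso_of_finrank hV.le) (by simp; omega) (by omega) hm
      (.inr (.inr (.inr (.inl ⟨F, inferInstance, inferInstance, m, hm, hodd, ⟨MulEquiv.refl _⟩⟩))))).1 one_ne_zero
    rwa [pow_one, qC_self] at this
  · obtain ⟨b, hab⟩ := H79.exists_aniso F
    exact ⟨_, _, (eichMD (k := 2) (frameMinus m (qMinus_nondegenerate m hab))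
      (frameMinus_aniso m _ hab) (by simp; omega) le_rfl hm
      (.inr (.inr (.inr (.inr (.inr (.inl ⟨F, inferInstance, inferInstance, m + 1, 1, b, by omega, hab,
        ⟨MulEquiv.refl _⟩⟩))))))).1 two_ne_zero⟩

end O

end Cfsg.Agent.H75.T3G
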