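import Cfsg.Agent.H17.KnDef2
import Cfsg.Agent.H60.OddInv
import Cfsg.Agent.H8.GoldTool
import Cfsg.Agent.H81.Four
import Cfsg.Agent.H1.Card

/-! Project KN, piece BW: a factorisation for a coprime elementary abelian action. -/

set_option autoImplicit false

namespace Cfsg.Agent.H75.KnB

open Subgroup Cfsg.Agent.H63 Cfsg.Agent.H8.GD Cfsg.Agent.H17.Kn
open scoped commutatorElement Pointwise

universe u

variable {G : Type u} [Group G] [Finite G]

theorem step {W W0 : Subgroup G} (hW : Odd (Nat.card W)) (h0 : W0 ≤ W) {x d : G} (xx : x * x = 1)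
    (dd : d * d = 1) (xd : x * d = d * x) (x1 : ∀ h ∈ W, x * h * x ∈ W)
    (d1 : ∀ h ∈ W, d * h * d ∈ W) (x0 : ∀ h ∈ W0, x * h * x ∈ W0) (d0 : ∀ h ∈ W0, d * h * d ∈ W0)
    (cx : W ⊓ C1[x] ≤ W0) (cy : W ⊓ C1[x * d] ≤ W0) :
    ∀ a ∈ W, ∃ b ∈ W0, ∃ c ∈ W ⊓ C1[d], a = b * c := by
  have e1 := H60.brauer_wielandt hW xx dd xd x1 d1
  have e2 := H60.brauer_wielandt (hW.of_dvd_nat (card_dvd_of_le h0)) xx dd xd x0 d0
  have k : ∀ {K : Subgroup G}, W ⊓ K ≤ W0 → W0 ⊓ K = W ⊓ K := fun h =>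
    le_antisymm (inf_le_inf_right _ h0) (le_inf h inf_le_right)
  rw [k cx, k cy, k ((inf_le_inf_left W (centralizer_le (by simp))).trans cx)] at e2
  have p1 := Nat.card_pos (α := ↥(W ⊓ centralizer {x, d}))
  have e3 := H1.coe_eq_mul_of_card h0 (inf_le_left : W ⊓ C1[d] ≤ W) (by
    rw [← inf_assoc, inf_eq_left.2 h0]
    refine le_of_eq (Nat.eq_of_mul_eq_mul_right (pow_pos p1 2) ?_)
    rw [mul_right_comm, e1, mul_right_comm (Nat.card W0), e2]; ring)
  intro a ha
  obtain ⟨b, hb, c, hc, e⟩ := Set.mem_mul.1 (e3.le ha)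
  exact ⟨b, hb, c, hc, e.symm⟩

theorem bw : BwStmt.{u} := by
  intro G _ _ B D W W0 h2 hW h0 nW n0 hD i2 hH a ha
  classical
  by_cases hb : D = ⊥
  · exact ⟨1, one_mem _, a, ⟨ha, by simp [hb, mem_centralizer_iff]⟩, (one_mul a).symm⟩
  have iv : ∀ b ∈ B, b⁻¹ = b := fun b h => inv_eq_of_mul_eq_one_right (h2 b h)
  have cm : ∀ b ∈ B, ∀ c ∈ B, b * c = c * b := fun b h c h' => by
    rw [← iv _ (mul_mem h h'), mul_inv_rev, iv b h, iv c h']
  have el : IsElementaryAbelian 2 B :=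
    ⟨⟨⟨fun b c => Subtype.ext (cm _ b.2 _ c.2)⟩⟩, fun b h => by rw [pow_two, h2 b h]⟩
  have od : ∀ K : Subgroup G, IsOdd (W ⊓ K) := fun K p hp h =>
    hW p hp (h.trans (card_dvd_of_le inf_le_left))
  have out : ∀ y ∈ B, y ∉ D → W ⊓ C1[y] ≤ W0 := fun y hy hn => by
    refine le_of_hyperplanes el (od _) (Tool.norm_inf_cent1 el nW hy) ?_ fun H hH1 hH2 => ?_
    · obtain ⟨d, hd, d1⟩ := (bot_or_exists_ne_one D).resolve_left hb
      obtain ⟨V, v1, v2, v3⟩ := H81.exists_index_two_avoiding el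
        (fun e => hb (le_bot_iff.1 (e ▸ hD))) d1
      refine le_trans (inf_le_inf inf_le_left (centralizer_le v1)) (hH V v1 ?_ ?_)
      · have := (V.subgroupOf B).index_mul_card
        rw [Nat.card_congr (subgroupOfEquivOfLe v1).toEquiv, ← v3] at this
        exact Nat.eq_of_mul_eq_mul_right Nat.card_pos this
      · rintro rfl; exact v2 hd
    by_cases e : H = D
    · subst e
      refine commutator_le.2 fun c hc b hb => ?_
      have k : ∀ h ∈ H, h * c = c * h := mem_centralizer_iff.1 hc.2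
      have : b * c = c * b := by
        by_cases h : b ∈ H
        · exact k b h
        · have h3 : b * y ∈ H := ((H.subgroupOf B).mul_mem_iff_of_index_two i2
            (a := ⟨b, hb⟩) (b := ⟨y, hy⟩)).2 (iff_of_false h hn)
          have h4 : c * y = y * c := mem_centralizer_singleton_iff.1 hc.1.2
          have := k _ h3
          rwa [mul_assoc, ← h4, ← mul_assoc, ← mul_assoc, mul_left_inj] at this
      rw [commutatorElement_eq_one_iff_mul_comm.2 this.symm]
      exact one_mem _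
    · exact (commutator_mono ((inf_le_inf_right _ inf_le_left).trans (hH H hH1 hH2 e)) le_rfl).trans
        (Tool.comm_le n0)
  obtain ⟨x, hx, xD⟩ : ∃ x ∈ B, x ∉ D := by
    by_contra hn
    push Not at hn
    rw [relIndex_eq_one.2 hn] at i2
    exact absurd i2 (by decide)
  have nm : ∀ {K : Subgroup G} {b : G} {s : Set G}, B ≤ N[K] → b ∈ B → s ⊆ B →
      ∀ h ∈ K ⊓ centralizer s, b * h * b ∈ K ⊓ centralizer s := fun {K b s} hK hb hs h hh =>
    ⟨by simpa [iv b hb] using (mem_normalizer_iff.1 (hK hb) h).1 hh.1, mul_mem (mul_mem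
      (fun c hc => cm c (hs hc) b hb) hh.2) fun c hc => cm c (hs hc) b hb⟩
  have key : ∀ s : Set G, s.Finite → s ⊆ D → ∃ b ∈ W0, ∃ c ∈ W ⊓ centralizer s, a = b * c := by
    intro s hs
    induction s, hs using Set.Finite.induction_on with
    | empty => exact fun _ => ⟨1, one_mem _, a, ⟨ha, by simp [mem_centralizer_iff]⟩, (one_mul a).symm⟩
    | @insert d s _ _ ih =>
      intro h
      obtain ⟨hd, hs⟩ := Set.insert_subset_iff.1 h
      obtain ⟨b, hb, c, hc, rfl⟩ := ih hs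
      have hs' : s ⊆ B := hs.trans hD
      obtain ⟨b', hb', c', hc', rfl⟩ := step (W := W ⊓ centralizer s) (W0 := W0 ⊓ centralizer s)
        (Nat.odd_iff.2 (Nat.two_dvd_ne_zero.1 fun e => od _ 2 Nat.prime_two e rfl))
        (inf_le_inf_right _ h0) (h2 x hx) (h2 d (hD hd)) (cm x hx d (hD hd)) (nm nW hx hs')
        (nm nW (hD hd) hs') (nm n0 hx hs') (nm n0 (hD hd) hs')
        (fun g hg => ⟨out x hx xD ⟨hg.1.1, hg.2⟩, hg.1.2⟩)
        (fun g hg => ⟨out _ (mul_mem hx (hD hd)) (fun e => xD ((mul_mem_cancel_right hd).1 e))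
          ⟨hg.1.1, hg.2⟩, hg.1.2⟩) c hc
      refine ⟨b * b', mul_mem hb hb'.1, c', ⟨hc'.1.1, ?_⟩, (mul_assoc _ _ _).symm⟩
      rintro g (rfl | hg)
      exacts [hc'.2 g rfl, hc'.1.2 g hg]
  exact key D (Set.toFinite _) subset_rfl

end Cfsg.Agent.H75.KnB
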