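/-
An involution over the transvection `X 1 5` in an extension `2 ^ 10 · L₅(2)`.
-/
import Cfsg.Agent.H17.LPDefs

set_option autoImplicit false

namespace Cfsg.Agent.H75.LpB1

open Matrix Cfsg.Agent.H17.LP

universe u

/-- Transvections with centre `e₁`. -/
def Tm (a b c d : F) : M5 := !![1, a, b, c, d; 0, 1, 0, 0, 0; 0, 0, 1, 0, 0; 0, 0, 0, 1, 0; 0, 0, 0, 0, 1]

/-- `e₁ ∧ v`. -/
def wv (p q r t : F) : M5 := !![0, p, q, r, t; p, 0, 0, 0, 0; q, 0, 0, 0, 0; r, 0, 0, 0, 0; t, 0, 0, 0, 0]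

theorem eqns_Tm : True := by have := @Tm.eq_1; trivial
theorem eqns_wv : True := by have := @wv.eq_1; trivial

theorem alt_wv (p q r t : F) : Alt (wv p q r t) := by revert p q r t; decide +kernel

theorem wv_add (p q r t p' q' r' t' : F) :
    wv p q r t + wv p' q' r' t' = wv (p + p') (q + q') (r + r') (t + t') := by
  ext i j; fin_cases i <;> fin_cases j <;> simp [wv]

theorem wv_inj {p q r t p' q' r' t' : F} (h : wv p q r t = wv p' q' r' t') :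
    p = p' ∧ q = q' ∧ r = r' ∧ t = t' :=
  ⟨congrFun (congrFun h 0) 1, congrFun (congrFun h 0) 2, congrFun (congrFun h 0) 3,
    congrFun (congrFun h 0) 4⟩

theorem Tm_mul (a b c d a' b' c' d' : F) :
    Tm a b c d * Tm a' b' c' d' = Tm (a + a') (b + b') (c + c') (d + d') := by
  ext i j; fin_cases i <;> fin_cases j <;> simp [Tm, mul_apply, Fin.sum_univ_five, add_comm]

theorem Tm_fix (a b c d p q r t : F) : Tm a b c d * wv p q r t * (Tm a b c d)ᵀ = wv p q r t := by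
  have h := (alt_wv p q r t).act (Tm a b c d)
  ext i j
  by_cases e : i = j
  · subst e; rw [h.2, (alt_wv p q r t).2]
  fin_cases i <;> fin_cases j <;> first | exact absurd rfl e | simp [Tm, wv, mul_apply, Fin.sum_univ_five]

theorem comm_eq {a : M5} (ha : Alt a) :
    a + Tm 0 0 0 1 * a * (Tm 0 0 0 1)ᵀ = wv (a 4 1) (a 4 2) (a 4 3) 0 := by
  have h := ha.add (ha.act (Tm 0 0 0 1))
  have s := ha.symm
  have e1 : ∀ x y : F, x + (x + y) = y := by decide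
  ext i j
  by_cases e : i = j
  · subst e; rw [h.2, (alt_wv _ _ _ _).2]
  simp only [Matrix.add_apply, mul_apply, transpose_apply, Fin.sum_univ_five]
  fin_cases i <;> fin_cases j <;> first | exact absurd rfl e |
    simp [Tm, wv, ha.2, two_F, e1, s 1 4, s 2 4, s 3 4]

section
variable {N : Type u} [Group N] {ι : M5 → N} {π : N →* SL5}

theorem io_zero (h : Ex ι π) : ι 0 = 1 := by
  have := h.add 0 0 Alt.zero Alt.zero
  rw [add_zero] at this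
  exact left_eq_mul.mp this

theorem io_sq (h : Ex ι π) {a : M5} (ha : Alt a) : ι a * ι a = 1 := by
  rw [← h.add a a ha ha, add_self_M, io_zero h]

theorem io_inv (h : Ex ι π) {a : M5} (ha : Alt a) : (ι a)⁻¹ = ι a :=
  inv_eq_of_mul_eq_one_right (io_sq h ha)

theorem io_inj (h : Ex ι π) {a b : M5} (ha : Alt a) (hb : Alt b) (e : ι a = ι b) : a = b := by
  have := h.inj (a + b) (ha.add hb) (by rw [h.add a b ha hb, e, io_sq h hb])
  rw [← add_zero a, ← add_self_M b, ← add_assoc, this, zero_add]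

theorem lift_sq (h : Ex ι π) {b n : N} {s : M5} (hs : Alt s) (hb : b * b = ι s) (e : π n = π b) :
    ∃ a, Alt a ∧ n * n = ι (a + (π b).1 * a * (π b).1ᵀ + s) := by
  obtain ⟨a, ha, e1⟩ := (h.ker (n * b⁻¹)).1 (by rw [map_mul, map_inv, e, mul_inv_cancel])
  refine ⟨a, ha, ?_⟩
  have : n = ι a * b := by rw [← e1]; group
  rw [h.add _ _ (ha.add (ha.act _)) hs, h.add _ _ ha (ha.act _), ← h.act b a ha, ← hb, this]
  group

/-- Squares of lifts of a transvection. -/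
def Good (ι : M5 → N) (π : N →* SL5) (κ a b c d : F) : Prop := ∀ n, (π n).1 = Tm a b c d →
  ∃ p q r t, n * n = ι (wv p q r t) ∧ a * p + b * q + c * r + d * t = κ

theorem eqns_Good : True := by have := @Good.eq_1.{0}; trivial

theorem base (h : Ex ι π) : ∃ κ, Good ι π κ 0 0 0 1 := by
  obtain ⟨b, hb⟩ := h.surj (X 1 5)
  have hX : (π b).1 = Tm 0 0 0 1 := by rw [hb]; decide +kernel
  obtain ⟨s, hs, e⟩ := (h.ker (b * b)).1 (Subtype.ext (by
    rw [map_mul, coe_mul', hX]; decide +kernel))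
  have f1 : Tm 0 0 0 1 * s * (Tm 0 0 0 1)ᵀ = s := by
    refine io_inj h (hs.act _) hs ?_
    rw [← hX, ← h.act b s hs, ← e]; group
  have f2 := comm_eq hs
  rw [f1, add_self_M] at f2
  have s41 : s 4 1 = 0 := (congrFun (congrFun f2 0) 1).symm
  have s42 : s 4 2 = 0 := (congrFun (congrFun f2 0) 2).symm
  have s43 : s 4 3 = 0 := (congrFun (congrFun f2 0) 3).symm
  have key : ∀ g : SL5, g * X 1 5 = X 1 5 * g → ∃ p q r, g.1 * s * g.1ᵀ = wv p q r 0 + s := by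
    intro g hg
    obtain ⟨m, rfl⟩ := h.surj g
    obtain ⟨a, ha, e1⟩ := lift_sq h (n := m * b * m⁻¹) hs e (by
      rw [map_mul, map_mul, map_inv, hb, hg, mul_inv_cancel_right])
    rw [hX, comm_eq ha] at e1
    refine ⟨a 4 1, a 4 2, a 4 3, io_inj h (hs.act _) ((alt_wv _ _ _ _).add hs) ?_⟩
    rw [← e1, ← h.act m s hs, ← e]; group
  have s23 : s 2 3 = 0 := by
    obtain ⟨p, q, r, k⟩ := key (X 2 3) (Subtype.ext (by decide +kernel))
    have : (X 2 3).1 = !![1, 0, 0, 0, 0; 0, 1, 1, 0, 0; 0, 0, 1, 0, 0; 0, 0, 0, 1, 0; 0, 0, 0, 0, 1] := by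
      decide +kernel
    rw [this] at k
    have k' := congrFun (congrFun k 1) 3
    simp only [Matrix.add_apply, mul_apply, transpose_apply, Fin.sum_univ_five] at k'
    simpa [wv] using k'
  have s13 : s 1 3 = 0 := by
    obtain ⟨p, q, r, k⟩ := key (X 3 2) (Subtype.ext (by decide +kernel))
    have : (X 3 2).1 = !![1, 0, 0, 0, 0; 0, 1, 0, 0, 0; 0, 1, 1, 0, 0; 0, 0, 0, 1, 0; 0, 0, 0, 0, 1] := by
      decide +kernel
    rw [this] at k
    have k' := congrFun (congrFun k 2) 3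
    simp only [Matrix.add_apply, mul_apply, transpose_apply, Fin.sum_univ_five] at k'
    simpa [wv] using k'
  have s12 : s 1 2 = 0 := by
    obtain ⟨p, q, r, k⟩ := key (X 4 2) (Subtype.ext (by decide +kernel))
    have : (X 4 2).1 = !![1, 0, 0, 0, 0; 0, 1, 0, 0, 0; 0, 0, 1, 0, 0; 0, 1, 0, 1, 0; 0, 0, 0, 0, 1] := by
      decide +kernel
    rw [this] at k
    have k' := congrFun (congrFun k 3) 2
    simp only [Matrix.add_apply, mul_apply, transpose_apply, Fin.sum_univ_five] at k'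
    simpa [wv] using k'
  have hw : s = wv (s 0 1) (s 0 2) (s 0 3) (s 0 4) := by
    have y := hs.symm
    ext i j
    fin_cases i <;> fin_cases j <;>
      simp [wv, hs.2, s41, s42, s43, s23, s13, s12, y 1 4, y 2 4, y 3 4, y 3 2, y 3 1, y 2 1, y 1 0,
        y 2 0, y 3 0, y 4 0]
  refine ⟨s 0 4, fun n hn => ?_⟩
  obtain ⟨a, ha, e1⟩ := lift_sq h (n := n) hs e (Subtype.ext (by rw [hn, hX]))
  rw [hX, comm_eq ha, hw, wv_add] at e1
  exact ⟨_, _, _, _, e1, by simp⟩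

/-- The finite check for a conjugation step. -/
def Ck (g : M5) (a b c d a' b' c' d' : F) : Prop := g * Tm a b c d = Tm a' b' c' d' * g ∧
  ∀ p q r t, g * wv p q r t * gᵀ = wv ((g * wv p q r t) 1 0) ((g * wv p q r t) 2 0)
      ((g * wv p q r t) 3 0) ((g * wv p q r t) 4 0) ∧
    a' * (g * wv p q r t) 1 0 + b' * (g * wv p q r t) 2 0 + c' * (g * wv p q r t) 3 0 +
      d' * (g * wv p q r t) 4 0 = a * p + b * q + c * r + d * t

theorem eqns_Ck : True := by have := @Ck.eq_1; trivial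

instance (g : M5) (a b c d a' b' c' d' : F) : Decidable (Ck g a b c d a' b' c' d') := by
  unfold Ck; infer_instance

theorem conj (h : Ex ι π) {κ a b c d : F} (hG : Good ι π κ a b c d) (g : SL5) (a' b' c' d' : F)
    (hc : Ck g.1 a b c d a' b' c' d') : Good ι π κ a' b' c' d' := by
  intro n hn
  obtain ⟨m, rfl⟩ := h.surj g
  obtain ⟨p, q, r, t, e, k⟩ := hG (m⁻¹ * n * m) (by
    rw [map_mul, map_mul, coe_mul', coe_mul', hn, Matrix.mul_assoc, ← hc.1, ← Matrix.mul_assoc,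
      ← coe_mul', ← map_mul, inv_mul_cancel, map_one]
    exact Matrix.one_mul _)
  refine ⟨_, _, _, _, ?_, (hc.2 p q r t).2.trans k⟩
  rw [← (hc.2 p q r t).1, ← h.act m _ (alt_wv _ _ _ _), ← e]; group

theorem third (h : Ex ι π) {x y z : N} {a b c d : F} (hy : (π y).1 = Tm a b c d)
    {p₁ q₁ r₁ t₁ p₂ q₂ r₂ t₂ p₃ q₃ r₃ t₃ p₄ q₄ r₄ t₄ p₅ q₅ r₅ t₅ p₆ q₆ r₆ t₆ p q r t : F}
    (e₁ : x * x = ι (wv p₁ q₁ r₁ t₁)) (e₂ : y * y = ι (wv p₂ q₂ r₂ t₂)) (e₃ : z * z = ι (wv p₃ q₃ r₃ t₃))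
    (e₄ : x * y * (x * y) = ι (wv p₄ q₄ r₄ t₄)) (e₅ : x * z * (x * z) = ι (wv p₅ q₅ r₅ t₅))
    (e₆ : y * z * (y * z) = ι (wv p₆ q₆ r₆ t₆)) (e : x * y * z * (x * y * z) = ι (wv p q r t)) :
    p = p₄ + (p₁ + p₅ + p₃) + (p₂ + p₆) ∧ q = q₄ + (q₁ + q₅ + q₃) + (q₂ + q₆) ∧
      r = r₄ + (r₁ + r₅ + r₃) + (r₂ + r₆) ∧ t = t₄ + (t₁ + t₅ + t₃) + (t₂ + t₆) := by
  apply wv_inj
  refine io_inj h (alt_wv _ _ _ _) (alt_wv _ _ _ _) ?_
  have A := alt_wv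
  have c1 : y * ι (wv (p₁ + p₅ + p₃) (q₁ + q₅ + q₃) (r₁ + r₅ + r₃) (t₁ + t₅ + t₃)) * y⁻¹ =
      ι (wv (p₁ + p₅ + p₃) (q₁ + q₅ + q₃) (r₁ + r₅ + r₃) (t₁ + t₅ + t₃)) := by
    rw [h.act y _ (A _ _ _ _), hy, Tm_fix]
  have c2 : ι (wv (p₁ + p₅ + p₃) (q₁ + q₅ + q₃) (r₁ + r₅ + r₃) (t₁ + t₅ + t₃)) =
      (x * x)⁻¹ * (x * z * (x * z)) * (z * z)⁻¹ := by
    rw [e₁, e₃, e₅, io_inv h (A _ _ _ _), io_inv h (A _ _ _ _), ← h.add _ _ (A _ _ _ _) (A _ _ _ _),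
      wv_add, ← h.add _ _ (A _ _ _ _) (A _ _ _ _), wv_add]
  have c3 : ι (wv (p₂ + p₆) (q₂ + q₆) (r₂ + r₆) (t₂ + t₆)) = (y * y)⁻¹ * (y * z * (y * z)) := by
    rw [e₂, e₆, io_inv h (A _ _ _ _), ← h.add _ _ (A _ _ _ _) (A _ _ _ _), wv_add]
  have c4 : ι (wv (p₁ + p₅ + p₃) (q₁ + q₅ + q₃) (r₁ + r₅ + r₃) (t₁ + t₅ + t₃)) =
      y⁻¹ * ((x * x)⁻¹ * (x * z * (x * z)) * (z * z)⁻¹) * y := by
    rw [← c2]
    conv_rhs => rw [← c1]
    group
  rw [← wv_add, ← wv_add, h.add _ _ ((A _ _ _ _).add (A _ _ _ _)) (A _ _ _ _),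
    h.add _ _ (A _ _ _ _) (A _ _ _ _), c4, c3, ← e₄, ← e]
  group

theorem kappa (h : Ex ι π) {κ : F} (g0001 : Good ι π κ 0 0 0 1) : κ = 0 := by
  have g1001 := conj h g0001 (X 5 2) 1 0 0 1 (by decide +kernel)
  have g0101 := conj h g0001 (X 5 3) 0 1 0 1 (by decide +kernel)
  have g0011 := conj h g0001 (X 5 4) 0 0 1 1 (by decide +kernel)
  have g1101 := conj h g1001 (X 5 3) 1 1 0 1 (by decide +kernel)
  have g1011 := conj h g1001 (X 5 4) 1 0 1 1 (by decide +kernel)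
  have g0111 := conj h g0101 (X 5 4) 0 1 1 1 (by decide +kernel)
  have g1111 := conj h g1101 (X 5 4) 1 1 1 1 (by decide +kernel)
  have g1000 := conj h g1001 (X 2 5) 1 0 0 0 (by decide +kernel)
  have g0100 := conj h g0101 (X 3 5) 0 1 0 0 (by decide +kernel)
  have g0010 := conj h g0011 (X 4 5) 0 0 1 0 (by decide +kernel)
  have g1100 := conj h g1101 (X 2 5) 1 1 0 0 (by decide +kernel)
  have g1010 := conj h g1011 (X 2 5) 1 0 1 0 (by decide +kernel)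
  have g0110 := conj h g0111 (X 3 5) 0 1 1 0 (by decide +kernel)
  have g1110 := conj h g1111 (X 2 5) 1 1 1 0 (by decide +kernel)
  obtain ⟨x, hx⟩ := h.surj (X 1 2)
  obtain ⟨y, hy⟩ := h.surj (X 1 3)
  obtain ⟨z, hz⟩ := h.surj (X 1 4)
  obtain ⟨w, hw⟩ := h.surj (X 1 5)
  have tx : (π x).1 = Tm 1 0 0 0 := by rw [hx]; decide +kernel
  have ty : (π y).1 = Tm 0 1 0 0 := by rw [hy]; decide +kernel
  have tz : (π z).1 = Tm 0 0 1 0 := by rw [hz]; decide +kernel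
  have tw : (π w).1 = Tm 0 0 0 1 := by rw [hw]; decide +kernel
  have M : ∀ {m n : N} {a b c d a' b' c' d' : F}, (π m).1 = Tm a b c d → (π n).1 = Tm a' b' c' d' →
      (π (m * n)).1 = Tm (a + a') (b + b') (c + c') (d + d') := fun h1 h2 => by
    rw [map_mul, coe_mul', h1, h2, Tm_mul]
  obtain ⟨p1, q1, r1, t1, e1, k1⟩ := g1000 x tx
  obtain ⟨p2, q2, r2, t2, e2, k2⟩ := g0100 y ty
  obtain ⟨p3, q3, r3, t3, e3, k3⟩ := g0010 z tz
  obtain ⟨p4, q4, r4, t4, e4, k4⟩ := g0001 w tw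
  obtain ⟨p12, q12, r12, t12, e12, k12⟩ := g1100 (x * y) (M tx ty)
  obtain ⟨p13, q13, r13, t13, e13, k13⟩ := g1010 (x * z) (M tx tz)
  obtain ⟨p14, q14, r14, t14, e14, k14⟩ := g1001 (x * w) (M tx tw)
  obtain ⟨p23, q23, r23, t23, e23, k23⟩ := g0110 (y * z) (M ty tz)
  obtain ⟨p24, q24, r24, t24, e24, k24⟩ := g0101 (y * w) (M ty tw)
  obtain ⟨p34, q34, r34, t34, e34, k34⟩ := g0011 (z * w) (M tz tw)
  obtain ⟨pa, qa, ra, ta, ea, ka⟩ := g1110 (x * y * z) (M (M tx ty) tz)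
  obtain ⟨pb, qb, rb, tb, eb, kb⟩ := g1101 (x * y * w) (M (M tx ty) tw)
  obtain ⟨pc, qc, rc, tc, ec, kc⟩ := g1011 (x * z * w) (M (M tx tz) tw)
  obtain ⟨pd, qd, rd, td, ed, kd⟩ := g0111 (y * z * w) (M (M ty tz) tw)
  obtain ⟨pe, qe, re, te, ee, ke⟩ := g1111 (x * y * z * w) (M (M (M tx ty) tz) tw)
  obtain ⟨rfl, rfl, rfl, rfl⟩ := third h ty e1 e2 e3 e12 e13 e23 ea
  obtain ⟨rfl, rfl, rfl, rfl⟩ := third h ty e1 e2 e4 e12 e14 e24 eb
  obtain ⟨rfl, rfl, rfl, rfl⟩ := third h tz e1 e3 e4 e13 e14 e34 ec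
  obtain ⟨rfl, rfl, rfl, rfl⟩ := third h tz e2 e3 e4 e23 e24 e34 ed
  obtain ⟨rfl, rfl, rfl, rfl⟩ := third h tz e12 e3 e4 ea eb e34 ee
  clear * - k1 k2 k3 k4 k12 k13 k14 k23 k24 k34 ka kb kc kd ke
  have two : (2 : F) = 0 := rfl
  linear_combination (-1) * (k1 + k2 + k3 + k4 + k12 + k13 + k14 + k23 + k24 + k34 + ka + kb + kc +
    kd + ke) +
    (3 * p1 + 3 * q2 + 3 * r3 + 3 * t4 + 3 * p12 + 3 * q12 + 2 * p13 + 2 * r13 + 2 * p14 + 
      2 * t14 + 2 * q23 + 2 * r23 + 2 * q24 + 2 * t24 + 2 * r34 + 2 * t34 + 2 * p2 + 2 * p3 + 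
      p23 + 2 * q1 + 2 * q3 + q13 + 2 * r1 + 2 * r2 + 2 * r12 + 2 * p4 + p24 + 2 * q4 + q14 + 
      2 * t1 + 2 * t2 + 2 * t12 + p34 + 2 * r4 + r14 + 2 * t3 + t13 + q34 + r24 + t23 - 7 * κ) * two
end

theorem b1 : B1Stmt.{u} := by
  intro N _ _ ι π h
  obtain ⟨κ, g⟩ := base h
  obtain rfl := kappa h g
  obtain ⟨b, hb⟩ := h.surj (X 1 5)
  have hX : (π b).1 = Tm 0 0 0 1 := by rw [hb]; decide +kernel
  obtain ⟨p, q, r, t, e, k⟩ := g b hX
  obtain rfl : t = 0 := by simpa using k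
  let a : M5 := !![0, 0, 0, 0, 0; 0, 0, 0, 0, p; 0, 0, 0, 0, q; 0, 0, 0, 0, r; 0, p, q, r, 0]
  have ha : Alt a := by
    refine ⟨?_, fun i => ?_⟩
    · ext i j; fin_cases i <;> fin_cases j <;> rfl
    · fin_cases i <;> rfl
  have pa : π (ι a) = 1 := (h.ker _).2 ⟨a, ha, rfl⟩
  refine ⟨ι a * b, by rw [map_mul, pa, one_mul, hb], ?_⟩
  have e1 : ι a * b * (ι a * b) = ι a * (b * ι a * b⁻¹) * (b * b) := by group
  rw [e1, h.act b a ha, hX, ← h.add _ _ ha (ha.act _), comm_eq ha, e]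
  exact io_sq h (alt_wv _ _ _ _)

end Cfsg.Agent.H75.LpB1
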