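import Mathlib
import Cfsg.Agent.H75.O8XM1
import Cfsg.Agent.H80.TwF4Mult
import Cfsg.Agent.Eqn.Cfsg_Agent_H75_O8_rl

/-!
The frame of the large Ree group.
-/

set_option autoImplicit false

namespace Cfsg.Agent.H75.O8

open Cfsg.Agent.H15.O8 Cfsg.Agent.H39 Cfsg.Agent.H34 Cfsg.Agent.H37 Cfsg.Agent.H40 Cfsg.Lie Cert
open Subgroup

section transport

variable {K : Type*} [Field K] {T : Tits K} {G G' : Type*} [Group G] [Group G'] (M : FF T G)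

theorem φ_mem_X (M : PF T G) (u : U T) : M.φ u ∈ M.X :=
  mem_sup_left (mem_sup_left (mem_sup_left ⟨u, rfl⟩))

theorem h_mem_X (M : PF T G) (c : Kˣ × Kˣ) : M.h c ∈ M.X :=
  mem_sup_left (mem_sup_left (mem_sup_right ⟨c, rfl⟩))

theorem n1_mem_X (M : PF T G) : M.n1 ∈ M.X := mem_sup_left (mem_sup_right (mem_zpowers _))

theorem n8_mem_X (M : PF T G) : M.n8 ∈ M.X := mem_sup_right (mem_zpowers _)

theorem X_le (M : PF T G) {H : Subgroup G} (h1 : ∀ u, M.φ u ∈ H) (h2 : ∀ c, M.h c ∈ H)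
    (h3 : M.n1 ∈ H) (h4 : M.n8 ∈ H) : M.X ≤ H :=
  sup_le (sup_le (sup_le (fun _ ⟨u, e⟩ => e ▸ h1 u) fun _ ⟨c, e⟩ => e ▸ h2 c) (zpowers_le.2 h3))
    (zpowers_le.2 h4)

/-- Transport along an injective homomorphism. -/
def ffMap (f : G →* G') (hf : Function.Injective f) : FF T G' where
  φ := f.comp M.φ
  inj := hf.comp M.inj
  n1 := f M.n1
  n8 := f M.n8
  h := f.comp M.h
  n1n1 := by rw [← map_mul, M.n1n1, map_one]
  n8n8 := by rw [← map_mul, M.n8n8, map_one]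
  n1φ u hu := by simpa using congrArg f (M.n1φ u hu)
  n8φ u hu := by simpa using congrArg f (M.n8φ u hu)
  hφ c u := by simpa using congrArg f (M.hφ c u)
  n1h a b := by simpa using congrArg f (M.n1h a b)
  n8h a b := by simpa using congrArg f (M.n8h a b)
  rk1 t := by simpa only [map_mul, MonoidHom.comp_apply] using congrArg f (M.rk1 t)
  rk8 u hu h := by
    obtain ⟨a, ha, b, hb, c, e⟩ := M.rk8 u hu h
    exact ⟨a, ha, b, hb, c, by simpa using congrArg f e⟩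
  braid := by rw [← map_mul, ← map_pow, M.braid, map_one]

theorem ffMap_X (f : G →* G') (hf : Function.Injective f) : (ffMap M f hf).X = M.X.map f := by
  rw [PF.X, PF.X, Subgroup.map_sup, Subgroup.map_sup, Subgroup.map_sup, MonoidHom.map_zpowers,
    MonoidHom.map_zpowers, ← MonoidHom.range_comp, ← MonoidHom.range_comp]
  rfl

/-- The frame inside the group it generates. -/
def ffRes : FF T M.X where
  φ := M.φ.codRestrict _ (φ_mem_X M.toPF)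
  inj _ _ h := M.inj (congrArg Subtype.val h)
  n1 := ⟨_, n1_mem_X M.toPF⟩
  n8 := ⟨_, n8_mem_X M.toPF⟩
  h := M.h.codRestrict _ (h_mem_X M.toPF)
  n1n1 := Subtype.ext M.n1n1
  n8n8 := Subtype.ext M.n8n8
  n1φ u hu := Subtype.ext (M.n1φ u hu)
  n8φ u hu := Subtype.ext (M.n8φ u hu)
  hφ c u := Subtype.ext (M.hφ c u)
  n1h a b := Subtype.ext (M.n1h a b)
  n8h a b := Subtype.ext (M.n8h a b)
  rk1 t := Subtype.ext (M.rk1 t)
  rk8 u hu h := by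
    obtain ⟨a, ha, b, hb, c, e⟩ := M.rk8 u hu h
    exact ⟨a, ha, b, hb, c, Subtype.ext e⟩
  braid := Subtype.ext (by rw [SubmonoidClass.coe_pow]; exact M.braid)

theorem ffRes_X : (ffRes M).X = ⊤ := by
  refine map_injective (subtype_injective M.X) ?_
  rw [← ffMap_X _ _ (subtype_injective M.X), ← MonoidHom.range_eq_map, range_subtype]; rfl

theorem exists_ff (e : M.X ≃* G') : ∃ M' : FF T G', M'.X = ⊤ :=
  ⟨ffMap (ffRes M) e.toMonoidHom e.injective, (ffMap_X ..).trans (by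
    rw [ffRes_X, ← MonoidHom.range_eq_map]; exact MonoidHom.range_eq_top.2 e.surjective)⟩

end transport

variable {K : Type*} [Field K] (T : Tits K)

theorem θu_θu (a : Kˣ) : θu T (θu T a) = a * a := Units.ext ((T.θθ a).trans (sq _))

/-- The parameters of the torus. -/
def par : Kˣ × Kˣ →* (Fin 4 → Kˣ) where
  toFun c := ![c.1 * θu T c.1, c.1 * θu T c.1 * (c.2 * θu T c.2),
    θu T (c.1 * θu T c.1 * (c.2 * θu T c.2)), θu T (c.1 * θu T c.1)]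
  map_one' := by funext i; fin_cases i <;> simp
  map_mul' a b := by funext i; fin_cases i <;> simp [mul_comm, mul_left_comm, mul_assoc]

/-- The torus. -/
noncomputable def hh : Kˣ × Kˣ →* chevF4.group K := (tgF4 K).comp (par T)

theorem hh_mem_H (c : Kˣ × Kˣ) : hh T c ∈ (cF4.split K).H := tg_mem_H _

/-- The characters of the torus. -/
def χ (c : Kˣ × Kˣ) (e : ℤ × ℤ × ℤ × ℤ) : Kˣ :=
  c.1 ^ e.1 * θu T c.1 ^ e.2.1 * c.2 ^ e.2.2.1 * θu T c.2 ^ e.2.2.2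

/-- The exponents of the character of a root. -/
noncomputable def eE (s : ℕ) : ℤ × ℤ × ℤ × ℤ :=
  (chevF4.cartan 0 s + chevF4.cartan 1 s + 2 * chevF4.cartan 2 s + 2 * chevF4.cartan 3 s,
    chevF4.cartan 0 s + chevF4.cartan 1 s + chevF4.cartan 2 s + chevF4.cartan 3 s,
    chevF4.cartan 1 s + 2 * chevF4.cartan 2 s, chevF4.cartan 1 s + chevF4.cartan 2 s)

/-- The exponents of the twisted character. -/
def sg (e : ℤ × ℤ × ℤ × ℤ) : ℤ × ℤ × ℤ × ℤ := (2 * e.2.1, e.1, 2 * e.2.2.2, e.2.2.1)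

theorem torChar_par (c : Kˣ × Kˣ) (s : ℕ) : torChar chevF4 (par T c) s = χ T c (eE s) := by
  rw [torF4 _ (a0 := chevF4.cartan 0 s) (a1 := chevF4.cartan 1 s) (a2 := chevF4.cartan 2 s)
    (a3 := chevF4.cartan 3 s) rfl]
  simp only [par, χ, eE, MonoidHom.coe_mk, OneHom.coe_mk, Matrix.cons_val, map_mul, θu_θu,
    mul_zpow, zpow_add, two_mul]
  ac_rfl

theorem χ_sg (c : Kˣ × Kˣ) (e : ℤ × ℤ × ℤ × ℤ) : χ T c (sg e) = θu T (χ T c e) := by
  simp only [χ, sg, map_mul, map_zpow, θu_θu, mul_zpow, zpow_add, two_mul]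
  ac_rfl

theorem χ_add (c : Kˣ × Kˣ) (e f : ℤ × ℤ × ℤ × ℤ) : χ T c (e + f) = χ T c e * χ T c f := by
  simp only [χ, Prod.fst_add, Prod.snd_add, zpow_add]
  ac_rfl

theorem h_gw (c : Kˣ × Kˣ) (k : ℕ) (e : ℤ × ℤ × ℤ × ℤ)
    (h : (∀ s ∈ rl k, s < chevF4.nroots) ∧
      (rl k).map eE = [e, sg e, e + sg e].take (rl k).length) (t : K) :
    hh T c * gw T k t * (hh T c)⁻¹ = gw T k (χ T c e * t) := by
  rw [gw, gw]
  generalize rl k = l at h
  refine (tg_conj_wg _ fun p hp => h.1 _ (List.of_mem_zip hp).1).trans (congrArg _ ?_)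
  obtain ⟨-, h⟩ := h
  rcases l with _ | ⟨a, _ | ⟨b, _ | ⟨d, _ | ⟨f, l⟩⟩⟩⟩ <;> simp [torChar_par] at h ⊢ <;>
    simp [h, χ_sg, χ_add]
  ring

theorem ms (x y : Kˣ) : (Pi.mulSingle 0 x * Pi.mulSingle 3 y : Fin 4 → Kˣ) = ![x, 1, 1, y] := by
  funext i; fin_cases i <;> simp

theorem x191 (s : K) [CharP K 2] :
    gw T 0 s * gw T 12 s⁻¹ * gw T 0 s = cF4.ng K 33 s * cF4.ng K 24 (T.θ s) := by
  have e : chevF4.neg 33 = 14 ∧ chevF4.neg 24 = 23 := by decide +kernel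
  rw [← Orth.ng_mul (by decide +kernel), e.1, e.2]
  simp [gw, rl, CharTwo.neg_eq]

variable [CharP K 2]

/-- The embedding of the unipotent group. -/
noncomputable def φ : U T →* chevF4.group K := liftHom (g := gp T) (fun _ => gw_zero T _) (gp_rel T)

theorem φ_apply (w : U T) : φ T w = gw T 0 w.a1 * gw T 1 w.b2 * gw T 2 w.a2 * gw T 3 w.a3 *
    gw T 4 w.b4 * gw T 5 w.a4 * gw T 6 w.a5 * gw T 7 w.b6 * gw T 8 w.a6 * gw T 9 w.a7 *
    gw T 10 w.b8 * gw T 11 w.a8 := rfl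

theorem φ0 (t : K) : φ T (x1 T t) = gw T 0 t := liftHom_gen _ _ 0 t
theorem φ1 (t : K) : φ T (y2 T t) = gw T 1 t := liftHom_gen _ _ 1 t
theorem φ2 (t : K) : φ T (x2 T t) = gw T 2 t := liftHom_gen _ _ 2 t
theorem φ3 (t : K) : φ T (x3 T t) = gw T 3 t := liftHom_gen _ _ 3 t
theorem φ4 (t : K) : φ T (y4 T t) = gw T 4 t := liftHom_gen _ _ 4 t
theorem φ5 (t : K) : φ T (x4 T t) = gw T 5 t := liftHom_gen _ _ 5 t
theorem φ6 (t : K) : φ T (x5 T t) = gw T 6 t := liftHom_gen _ _ 6 t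
theorem φ7 (t : K) : φ T (y6 T t) = gw T 7 t := liftHom_gen _ _ 7 t
theorem φ8 (t : K) : φ T (x6 T t) = gw T 8 t := liftHom_gen _ _ 8 t
theorem φ9 (t : K) : φ T (x7 T t) = gw T 9 t := liftHom_gen _ _ 9 t
theorem φ10 (t : K) : φ T (y8 T t) = gw T 10 t := liftHom_gen _ _ 10 t
theorem φ11 (t : K) : φ T (x8 T t) = gw T 11 t := liftHom_gen _ _ 11 t

theorem φ_eq (w : U T) : φ T w = cF4.wg K [(33, w.a1), (24, T.θ w.a1), (34, w.b2), (26, T.θ w.b2),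
    (36, w.b2 * T.θ w.b2 + w.a2), (42, T.θ w.a2), (38, w.a3), (43, T.θ w.a3), (29, w.b4),
    (41, T.θ w.b4), (44, w.b4 * T.θ w.b4 + w.a4), (47, T.θ w.a4), (39, w.a5), (45, T.θ w.a5),
    (35, w.b6), (31, T.θ w.b6), (40, w.b6 * T.θ w.b6 + w.a6), (46, T.θ w.a6), (37, w.a7),
    (32, T.θ w.a7), (27, w.b8), (25, T.θ w.b8), (28, w.b8 * T.θ w.b8 + w.a8), (30, T.θ w.a8)] := by
  simp only [φ_apply, gw, rl, List.zip_cons_cons, List.zip_nil_left, wg_cons, wg_nil, xg_add,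
    mul_assoc, mul_one]

theorem φ_inj : Function.Injective (φ T) := fun w w' e => by
  rw [φ_eq, φ_eq] at e
  replace e := fun h1 h2 h3 => wg_inj h1 h2 h3 e
  simp only [List.map_cons, List.map_nil] at e
  have := e trivial (by decide +kernel) (by decide +kernel)
  simp only [List.cons.injEq, Prod.mk.injEq, true_and, and_true, T.θ.injective.eq_iff] at this
  obtain ⟨h0, -, h1, -, -, h2, h3, -, h4, -, -, h5, h6, -, h7, -, -, h8, h9, -, h10, -, -, h11⟩ :=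
    this
  exact U.ext h0 h1 h2 h3 h4 h5 h6 h7 h8 h9 h10 h11

theorem n1_inv : (n1 T)⁻¹ = n1 T := inv_eq_of_mul_eq_one_right (n1_sq T)

theorem n8_inv : (n8 T)⁻¹ = n8 T := inv_eq_of_mul_eq_one_right (n8_sq T)

theorem n1_mul (a b : chevF4.group K) :
    n1 T * (a * b) * n1 T = n1 T * a * n1 T * (n1 T * b * n1 T) := by
  rw [mul_assoc _ (n1 T) (_ * _), ← mul_assoc (n1 T) (_ * _), ← mul_assoc (n1 T) (n1 T), n1_sq]
  group

theorem n8_mul (a b : chevF4.group K) :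
    n8 T * (a * b) * n8 T = n8 T * a * n8 T * (n8 T * b * n8 T) := by
  rw [mul_assoc _ (n8 T) (_ * _), ← mul_assoc (n8 T) (_ * _), ← mul_assoc (n8 T) (n8 T), n8_sq]
  group

set_option maxRecDepth 4000 in
theorem n1φ (u : U T) (hu : u ∈ E T) : n1 T * φ T u * n1 T = φ T (w1 u) := by
  rw [mem_E] at hu
  have : w1 u = y8 T u.b2 * x8 T u.a2 * x7 T u.a3 * y6 T u.b4 * x6 T u.a4 * x5 T u.a5 * y4 T u.b6 *
      x4 T u.a6 * x3 T u.a7 * y2 T u.b8 * x2 T u.a8 := by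
    ext <;> o8s <;> o8ring T
  rw [this, φ_apply, hu, gw_zero, one_mul]
  simp only [n1_mul, n1_1, n1_2, n1_3, n1_4, n1_5, n1_6, n1_7, n1_8, n1_9, n1_10, n1_11, map_mul,
    φ1, φ2, φ3, φ4, φ5, φ6, φ7, φ8, φ9, φ10, φ11]

set_option maxRecDepth 4000 in
theorem n8φ (u : U T) (hu : u ∈ Q T) : n8 T * φ T u * n8 T = φ T (w8 u) := by
  have : w8 u = x7 T u.a1 * y6 T u.b2 * x6 T u.a2 * x5 T u.a3 * y4 T u.b4 * x4 T u.a4 * x3 T u.a5 *
      y2 T u.b6 * x2 T u.a6 * x1 T u.a7 := by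
    ext <;> o8s <;> o8ring T
  rw [this, φ_apply, hu.1, hu.2, gw_zero, gw_zero, mul_one, mul_one]
  simp only [n8_mul, n8_0, n8_1, n8_2, n8_3, n8_4, n8_5, n8_6, n8_7, n8_8, n8_9, map_mul,
    φ0, φ1, φ2, φ3, φ4, φ5, φ6, φ7, φ8, φ9]

theorem hφ (c : Kˣ × Kˣ) (u : U T) : hh T c * φ T u * (hh T c)⁻¹ = φ T (H15.O8.tor T c u) := by
  rw [φ_apply, φ_apply, H15.O8.tor_apply]
  simp only [← conj_mul, h_gw T c 0 (1, 1, -1, -1) (by decide +kernel),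
    h_gw T c 1 (0, 1, -1, 0) (by decide +kernel), h_gw T c 2 (2, 1, -1, -1) (by decide +kernel),
    h_gw T c 3 (1, 1, -1, 0) (by decide +kernel), h_gw T c 4 (1, 0, 0, 0) (by decide +kernel),
    h_gw T c 5 (1, 1, 0, 0) (by decide +kernel), h_gw T c 6 (1, 0, 1, 0) (by decide +kernel),
    h_gw T c 7 (0, 0, 1, 0) (by decide +kernel), h_gw T c 8 (0, 0, 1, 1) (by decide +kernel),
    h_gw T c 9 (-1, 0, 1, 1) (by decide +kernel), h_gw T c 10 (-1, 0, 0, 1) (by decide +kernel),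
    h_gw T c 11 (-1, -1, 2, 1) (by decide +kernel)]
  simp only [sc, χ]
  congr! 13 <;> simp [zpow_ofNat] <;> ring

theorem n1_mem_N : n1 T ∈ (cF4.split K).N := by
  have := x191 T 1
  rw [inv_one, map_one] at this
  rw [n1, this]
  exact mul_mem (ng_mem_N (by decide +kernel) one_ne_zero) (ng_mem_N (by decide +kernel) one_ne_zero)

theorem n8_mem_N : n8 T ∈ (cF4.split K).N := by
  have e : chevF4.neg 27 = 20 ∧ chevF4.neg 25 = 22 := by decide +kernel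
  have : n8 T = cF4.ng K 27 1 * cF4.ng K 25 1 * cF4.ng K 27 1 * cF4.ng K 25 1 := by
    have := F4_wg_eq (K := K) 1 (L := [(28, 1, 1), (30, 1, 1), (20, 1, 1), (22, 1, 1), (19, 1, 1),
      (19, 1, 1), (17, 1, 1), (27, 1, 1), (25, 1, 1), (28, 1, 1)]) (R := [(27, 1, 1), (20, -1, 1),
      (27, 1, 1), (25, 1, 1), (22, -1, 1), (25, 1, 1), (27, 1, 1), (20, -1, 1), (27, 1, 1),
      (25, 1, 1), (22, -1, 1), (25, 1, 1)]) (by decide +kernel)
    simpa [n8, gw, rl, ng_eq, wordOf, mul_assoc, e.1, e.2] using this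
  have h1 : cF4.ng K 27 1 ∈ (cF4.split K).N := ng_mem_N (by decide +kernel) one_ne_zero
  have h2 : cF4.ng K 25 1 ∈ (cF4.split K).N := ng_mem_N (by decide +kernel) one_ne_zero
  exact this ▸ mul_mem (mul_mem (mul_mem h1 h2) h1) h2

theorem rk1 (t : Kˣ) : n1 T * φ T (x1 T t) * n1 T = φ T (x1 T (t⁻¹ : Kˣ)) *
    hh T (t / θu T t, θu T t / t) * n1 T * φ T (x1 T (t⁻¹ : Kˣ)) := by
  have e : chevF4.simple (0 : Fin 4) = 33 ∧ chevF4.simple (3 : Fin 4) = 24 := by decide +kernel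
  have e1 := hg_simple (C := cF4) (0 : Fin 4) t⁻¹
  have e2 := hg_simple (C := cF4) (3 : Fin 4) (θu T t⁻¹)
  have e3 := x191 T 1
  have e4 := x191 T (t⁻¹ : Kˣ)
  have e5 : gw T 0 (t⁻¹ : Kˣ) * gw T 0 (t⁻¹ : Kˣ) = 1 := by
    rw [← φ0, ← map_mul, ← map_one (φ T)]; congr 1; ext <;> o8s; o8ring T
  rw [e.1, hg_eq, CharTwo.neg_eq] at e1
  rw [e.2, hg_eq, CharTwo.neg_eq] at e2
  rw [inv_one, map_one, ← n1] at e3
  have e6 : hh T (t / θu T t, θu T t / t) =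
      cF4.ng K 33 (t⁻¹ : Kˣ) * cF4.ng K 24 (T.θ (t⁻¹ : Kˣ)) * n1 T := by
    rw [e3, mul_assoc, ← mul_assoc _ (cF4.ng K 33 1),
      ← (Orth.commute_ng (by decide +kernel) _ _).eq, mul_assoc, ← mul_assoc, e1]
    erw [e2]
    rw [← map_mul]
    refine congrArg (tgF4 K) ((funext fun i => ?_).trans (ms _ _).symm)
    fin_cases i <;> simp [par, θu_θu, Units.ext_iff] <;> field_simp
  rw [φ0, φ0, n1_0, e6, ← e4, Units.val_inv_eq_inv_val t, inv_inv, mul_assoc _ (_ * n1 T),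
    mul_assoc _ (n1 T), n1_sq, mul_one, ← Units.val_inv_eq_inv_val, ← mul_assoc, ← mul_assoc, e5,
    one_mul, mul_assoc, e5, mul_one]

theorem h_ext {c : Kˣ × Kˣ} {a b : Kˣ} (h1 : hh T c * gw T 4 1 * (hh T c)⁻¹ = gw T 4 a)
    (h2 : hh T c * gw T 7 1 * (hh T c)⁻¹ = gw T 7 b) : c = (a, b) := by
  rw [← φ4, ← φ4, hφ] at h1
  rw [← φ7, ← φ7, hφ] at h2
  exact Prod.ext (Units.ext (by simpa [H15.O8.tor_apply, sc, y4] using congrArg U.b4 (φ_inj T h1)))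
    (Units.ext (by simpa [H15.O8.tor_apply, sc, y6] using congrArg U.b6 (φ_inj T h2)))

section main

open Cfsg.Agent.H80 Cfsg.Agent.H80.TF4

variable {θ : K →+* K} (h2 : ∀ t, θ (θ t) ^ 2 = t)

local notation "τ" => tF4 θ h2
local notation "P" => relRD (rep h2)
local notation "S" => tits h2

include h2 in
theorem θ_σ (t : K) : θ (θ t ^ 2) = t := by rw [map_pow, h2]

theorem wa (t : K) : cF4.wg K (wF4a θ t) = gw S 0 (θ t) := by
  simp [gw, rl, wF4a, tits_θ, h2]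

theorem wa' (t : K) : cF4.wg K (chevF4.negWord (wF4a θ t)) = gw S 12 (θ t) := by
  have e : chevF4.negWord (wF4a θ t) = [(14, -θ t), (23, -t)] := rfl
  simp [e, gw, rl, tits_θ, h2, CharTwo.neg_eq]

theorem wb (t u : K) : cF4.wg K (wF4b θ t u) = gw S 10 (θ t) * gw S 11 u := by
  simp [gw, rl, wF4b, tits_θ, h2, xg_add, mul_assoc]

theorem wb' (t u : K) :
    cF4.wg K (chevF4.negWord (wF4b θ t u)) = gw S 13 (θ t) * gw S 14 u := by
  have e : chevF4.negWord (wF4b θ t u) =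
    [(20, -θ t), (22, -t), (19, -(θ t * t + u)), (17, -θ u ^ 2)] := rfl
  simp [e, gw, rl, tits_θ, h2, xg_add, mul_assoc, CharTwo.neg_eq]

theorem m0 (t : K) : gw S 0 t ∈ (τ).G1 ∧ gw S 12 t ∈ (τ).G1 := by
  have := F4_mema θ h2 (θ t ^ 2)
  rwa [wa h2, wa' h2, θ_σ h2] at this

theorem m10 (t u : K) : gw S 10 t * gw S 11 u ∈ (τ).G1 ∧ gw S 13 t * gw S 14 u ∈ (τ).G1 := by
  have := F4_memb θ h2 (θ t ^ 2) u
  rwa [wb h2, wb' h2, θ_σ h2] at this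

theorem n1_mem : n1 S ∈ (τ).G1 := mul_mem (mul_mem (m0 h2 1).1 (m0 h2 1).2) (m0 h2 1).1

theorem n8_mem : n8 S ∈ (τ).G1 := by
  have h1 := (m10 h2 0 1).1
  have h3 := (m10 h2 1 0).1
  rw [gw_zero] at h1 h3
  rw [n8, mul_assoc (gw S 11 1)]
  exact mul_mem (mul_mem (by simpa using h1) (m10 h2 1 1).2) (by simpa using h3)

theorem φ_mem (u : U S) : φ S u ∈ (τ).G1 := by
  have c1 : ∀ {g}, g ∈ (τ).G1 → n1 S * g * n1 S ∈ (τ).G1 := fun h =>
    mul_mem (mul_mem (n1_mem h2) h) (n1_mem h2)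
  have c8 : ∀ {g}, g ∈ (τ).G1 → n8 S * g * n8 S ∈ (τ).G1 := fun h =>
    mul_mem (mul_mem (n8_mem h2) h) (n8_mem h2)
  have g0 := fun t => (m0 h2 t).1
  have g10 : ∀ t, gw S 10 t ∈ (τ).G1 := fun t => by simpa [gw_zero] using (m10 h2 t 0).1
  have g11 : ∀ t, gw S 11 t ∈ (τ).G1 := fun t => by simpa [gw_zero] using (m10 h2 0 t).1
  have g1 := fun t => n1_10 S t ▸ c1 (g10 t)
  have g2 := fun t => n1_11 S t ▸ c1 (g11 t)
  have g9 := fun t => n8_0 S t ▸ c8 (g0 t)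
  have g7 := fun t => n8_1 S t ▸ c8 (g1 t)
  have g8 := fun t => n8_2 S t ▸ c8 (g2 t)
  have g3 := fun t => n1_9 S t ▸ c1 (g9 t)
  have g4 := fun t => n1_7 S t ▸ c1 (g7 t)
  have g5 := fun t => n1_8 S t ▸ c1 (g8 t)
  have g6 := fun t => n8_3 S t ▸ c8 (g3 t)
  rw [φ_apply]
  exact mul_mem (mul_mem (mul_mem (mul_mem (mul_mem (mul_mem (mul_mem (mul_mem (mul_mem (mul_mem
    (mul_mem (g0 _) (g1 _)) (g2 _)) (g3 _)) (g4 _)) (g5 _)) (g6 _)) (g7 _)) (g8 _)) (g9 _)) (g10 _))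
    (g11 _)

theorem hh_mem (c : Kˣ × Kˣ) : hh S c ∈ (τ).G1 := by
  have := F4_par_mem θ h2 (par S c 2, par S c 3)
  rwa [show parF4 θ (par S c 2, par S c 3) = par S c from funext fun i => by
    fin_cases i
    exacts [Units.ext (θ_σ h2 _), Units.ext (θ_σ h2 _), rfl, rfl]] at this

theorem H_par {z : chevF4.group K} (hz : z ∈ (cF4.split K).H) (hf : z ∈ (τ).G1) :
    ∃ c, hh S c = z := by
  obtain ⟨⟨p, q⟩, rfl⟩ := F4_exists_par θ h2 hz ((τ).G1_le_fix hf)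
  let x := Units.map (θ : K →* K) q
  let y := Units.map (θ : K →* K) p
  have hx : θu S x = q := Units.ext (h2 _)
  have hy : θu S y = p := Units.ext (h2 _)
  have e : ∀ a : Kˣ, θu S a / a * θu S (θu S a / a) = a := fun a => by
    simp [θu_θu]
  refine ⟨(θu S x / x, θu S (y / x) / (y / x)), congrArg (tgF4 K) (funext fun i => ?_)⟩
  simp only [par, MonoidHom.coe_mk, OneHom.coe_mk, e, mul_div_cancel]
  rw [hx, hy]
  rfl

theorem n1h (a b : Kˣ) : n1 S * hh S (a, b) * n1 S = hh S (b, a) := by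
  obtain ⟨c, e⟩ := H_par h2 (Split.conj_mem_H (n1_mem_N S) (hh_mem_H S (a, b)))
    (mul_mem (mul_mem (n1_mem h2) (hh_mem h2 _)) (inv_mem (n1_mem h2)))
  have k : ∀ g, hh S c * g * (hh S c)⁻¹ =
      n1 S * (hh S (a, b) * (n1 S * g * n1 S) * (hh S (a, b))⁻¹) * n1 S := fun g => by
    rw [e, mul_inv_rev, mul_inv_rev, inv_inv, n1_inv]; group
  rw [n1_inv] at e
  rw [← e, h_ext S (c := c) (a := b) (b := a)]
  · rw [k, n1_4, h_gw S _ 7 (0, 0, 1, 0) (by decide +kernel), n1_7]; simp [χ]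
  · rw [k, n1_7, h_gw S _ 4 (1, 0, 0, 0) (by decide +kernel), n1_4]; simp [χ]

theorem n8h (a b : Kˣ) : n8 S * hh S (a, b) * n8 S = hh S (a, θu S a / b) := by
  obtain ⟨c, e⟩ := H_par h2 (Split.conj_mem_H (n8_mem_N S) (hh_mem_H S (a, b)))
    (mul_mem (mul_mem (n8_mem h2) (hh_mem h2 _)) (inv_mem (n8_mem h2)))
  have k : ∀ g, hh S c * g * (hh S c)⁻¹ =
      n8 S * (hh S (a, b) * (n8 S * g * n8 S) * (hh S (a, b))⁻¹) * n8 S := fun g => by
    rw [e, mul_inv_rev, mul_inv_rev, inv_inv, n8_inv]; group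
  rw [n8_inv] at e
  rw [← e, h_ext S (c := c) (a := a) (b := θu S a / b)]
  · rw [k, n8_4, h_gw S _ 4 (1, 0, 0, 0) (by decide +kernel), n8_4]; simp [χ]
  · rw [k, n8_7, h_gw S _ 1 (0, 1, -1, 0) (by decide +kernel), n8_1]; simp [χ, div_eq_mul_inv]

theorem U8_eq {u : U S} (hu : u ∈ U8 S) : u = y8 S u.b8 * x8 S u.a8 := by
  obtain ⟨h0, h1, h3, h4, h5, h6, h7, h8, h9, h10⟩ := hu
  ext <;> o8s <;> assumption

theorem of_X8 {g : (τ).G1} (hg : g ∈ (P).X ((rep h2).sys.α 1)) : ∃ a ∈ U8 S, φ S a = g := by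
  obtain ⟨t, v, rfl⟩ := mem_Xb.1 hg
  exact ⟨y8 S (θ t) * x8 S v, by rw [mem_U8]; o8s, by rw [map_mul, φ10, φ11, ← wb]; rfl⟩

theorem vb_eq (t v : K) :
    (vb h2 (θ t ^ 2) v).1 = n8 S * φ S (y8 S t * x8 S v) * n8 S := by
  rw [map_mul, φ10, φ11, n8_mul, n8_10, n8_11]
  exact (wb' h2 _ _).trans (by rw [θ_σ h2])

theorem vb_ne {t v : K} (h : y8 S t * x8 S v ≠ 1) : vb h2 (θ t ^ 2) v ≠ 1 := fun e => h (by
  have := (vb_eq h2 t v).symm.trans (congrArg Subtype.val e)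
  rw [coe_one, mul_eq_one_iff_eq_inv, n8_inv, mul_eq_left] at this
  exact (map_eq_one_iff _ (φ_inj S)).1 this)

theorem rk8 (u : U S) (hu : u ∈ U8 S) (h1 : u ≠ 1) : ∃ a ∈ U8 S, ∃ b ∈ U8 S, ∃ c,
    n8 S * φ S u * n8 S = φ S a * hh S (1, c) * n8 S * φ S b := by
  rw [U8_eq h2 hu] at h1
  obtain ⟨a, ha, h, hh1, b, hb, e⟩ := (P).sl2 1 _ (mem_Yb.2 ⟨_, _, rfl⟩) (vb_ne h2 h1)
  obtain ⟨a0, ha0, h0, hh0, b0, hb0, e0⟩ := (P).sl2 1 _ (mem_Yb.2 ⟨_, _, rfl⟩)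
    (vb_ne h2 (t := 1) (v := 1) fun e => by simpa [U.mul_b8, y8, x8] using congrArg U.b8 e)
  have e1 : (⟨n8 S, n8_mem h2⟩ : (τ).G1) = ub h2 0 1 * vb h2 (θ 1 ^ 2) 1 * ub h2 1 0 := by
    refine Subtype.ext ?_
    have k1 := wb h2 0 1
    have k2 := wb h2 1 0
    have k3 := wb' h2 (θ 1 ^ 2) 1
    rw [map_zero, gw_zero, one_mul] at k1
    rw [map_one, gw_zero, mul_one] at k2
    rw [θ_σ h2] at k3
    show n8 S = cF4.wg K _ * cF4.wg K _ * cF4.wg K _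
    rw [k1, k2, k3, n8, mul_assoc (gw S 11 1)]
  have hk := mul_mem hh1 (inv_mem hh0)
  obtain ⟨A, hA, eA⟩ := of_X8 h2 (mul_mem ha ((P).H_conj _ hk _ _
    (inv_mem (mul_mem (ub_mem 0 1) ha0))))
  obtain ⟨B, hB, eB⟩ := of_X8 h2 (mul_mem (inv_mem (mul_mem hb0 (ub_mem 1 0))) hb)
  obtain ⟨⟨c, d⟩, ec⟩ := H_par h2 (mem_relRD_H.1 hk) (h * h0⁻¹).2
  have e2 : n8 S * φ S u * n8 S = φ S A * hh S (c, d) * n8 S * φ S B := by
    rw [U8_eq h2 hu, ← vb_eq, eA, eB, ec, e]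
    show _ = ((_ * _ * (⟨n8 S, n8_mem h2⟩ : (τ).G1) * _ : (τ).G1) : chevF4.group K)
    rw [e1, e0]
    congr 1
    group
  have z1 : ∀ w, φ S w ∈ centralizer {gw S 5 1} := fun w => by
    rw [mem_centralizer_singleton_iff, ← φ5, ← map_mul, ← map_mul]
    congr 1; ext <;> o8s <;> ring
  have z2 : n8 S ∈ centralizer {gw S 5 1} := by
    rw [mem_centralizer_singleton_iff, ← mul_inv_eq_iff_eq_mul, n8_inv, n8_5]
  have z3 := mul_mem (mul_mem z2 (z1 u)) z2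
  rw [e2, mul_mem_cancel_right (z1 B), mul_mem_cancel_right z2, mul_mem_cancel_left (z1 A),
    mem_centralizer_singleton_iff, ← mul_inv_eq_iff_eq_mul, ← φ5, hφ] at z3
  have z4 : (c : K) * (S).θ c = 1 := by
    simpa [H15.O8.tor_apply, sc, x4] using congrArg U.a4 (φ_inj S z3)
  have z5 := congrArg (S).θ z4
  rw [map_mul, Tits.θθ, map_one, sq, ← mul_assoc, mul_comm ((S).θ c), z4, one_mul] at z5
  obtain rfl : c = 1 := Units.ext z5
  exact ⟨A, hA, B, hB, d, e2⟩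

/-- The frame in the Chevalley group. -/
noncomputable def frame : FF S (chevF4.group K) where
  φ := φ S
  inj := φ_inj S
  n1 := n1 S
  n8 := n8 S
  h := hh S
  n1n1 := n1_sq S
  n8n8 := n8_sq S
  n1φ := n1φ S
  n8φ := n8φ S
  hφ := hφ S
  n1h := n1h h2
  n8h := n8h h2
  rk1 := rk1 S
  rk8 := rk8 h2
  braid := braid S

theorem frame_X {e : ℕ} (hθ : ∀ t, θ t = t ^ e) : (frame h2).X = (τ).G1 := by
  refine le_antisymm (X_le _ (φ_mem h2) (hh_mem h2) (n1_mem h2) (n8_mem h2))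
    ((twF4 θ h2 hθ).eq.ge.trans (gen_le (C := cF4) fun w hw => ?_))
  have k : ∀ u, φ S u ∈ (frame h2).X := φ_mem_X _
  have k1 : n1 S ∈ (frame h2).X := n1_mem_X _
  have k8 : n8 S ∈ (frame h2).X := n8_mem_X _
  rcases (mem_f4Words θ hθ).1 hw with ⟨t, rfl | rfl⟩ | ⟨t, a, rfl | rfl⟩
  · rw [wa h2, ← φ0]; exact k _
  · rw [wa' h2, ← n1_0, ← φ0]; exact mul_mem (mul_mem k1 (k _)) k1
  · rw [wb h2, ← φ10, ← φ11]; exact mul_mem (k _) (k _)
  · rw [wb' h2, ← n8_10, ← n8_11, ← n8_mul, ← φ10, ← φ11]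
    exact mul_mem (mul_mem k8 (mul_mem (k _) (k _))) k8

end main

/-- The large Ree group is generated by a frame. -/
theorem xm {K : Type*} [Field K] [Fintype K] (m : ℕ) (hK : Fintype.card K = 2 ^ (2 * m + 1)) :
    ∃ (T : Tits K) (M : FF T (twistedF4 K (2 ^ m))), M.X = ⊤ := by
  obtain ⟨_, θ, hθ, h2⟩ := exists_theta hK
  obtain ⟨e⟩ := H80.TwGrp.nonempty_equiv (twF4 θ h2 hθ)
  exact ⟨_, exists_ff (frame h2) ((MulEquiv.subgroupCongr (frame_X h2 hθ)).trans e)⟩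

end Cfsg.Agent.H75.O8
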