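import Cfsg.Agent.H34.UKit0
import Cfsg.Agent.H34.TwAsm1
import Cfsg.Agent.H45.AnPin

/-! Project UM, piece PIN: the Steinberg relations in the doubled group. -/

set_option autoImplicit false
set_option linter.unusedSectionVars false

namespace Cfsg.Agent.H75.UP

open Cfsg Cfsg.Agent.H63 Cfsg.Agent.H63.SL Cfsg.Agent.H34 Cfsg.Agent.H34.TW Cfsg.Agent.H31
  Cfsg.Agent.H34.UM Subgroup Module
open Cfsg.Agent.H40.LF (x_mem_UU UU_le)
open scoped commutatorElement

universe u v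

/-- the antidiagonal form -/
def ad {E : Type v} [Field E] (σ : E →+* E) (n : ℕ) :
    (Fin (n + 1) → E) →ₛₗ[σ] (Fin (n + 1) → E) →ₗ[E] E :=
  LinearMap.mk₂'ₛₗ σ (RingHom.id E) (fun x y => ∑ k, σ (x k) * y k.rev)
    (fun _ _ _ => by simp [add_mul, Finset.sum_add_distrib])
    (fun _ _ _ => by simp [Finset.mul_sum, mul_assoc])
    (fun _ _ _ => by simp [mul_add, Finset.sum_add_distrib])
    (fun _ _ _ => by simp [Finset.mul_sum, mul_left_comm])

theorem ad_apply {E : Type v} [Field E] (σ : E →+* E) (n : ℕ) (x y : Fin (n + 1) → E) :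
    ad σ n x y = ∑ k, σ (x k) * y k.rev := rfl

theorem ad_single {E : Type v} [Field E] (σ : E →+* E) (n : ℕ) (k : Fin (n + 1))
    (y : Fin (n + 1) → E) : ad σ n (Pi.single k 1) y = y k.rev := by
  rw [ad_apply, Finset.sum_eq_single k (fun j _ h => by simp [h]) (by simp)]; simp

theorem ad_herm {E : Type v} [Field E] {σ : E →+* E} (h : IsInvol σ) (n : ℕ) : IsHerm (ad σ n) where
  inv := h
  symm x y := by
    rw [ad_apply, ad_apply, map_sum, ← Equiv.sum_comp Fin.revPerm]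
    exact Finset.sum_congr rfl fun k _ => by simp [h.invol, mul_comm]
  nondeg x hx := funext fun k => by
    have := hx (Pi.single k.rev 1)
    rw [ad_apply, Finset.sum_eq_single k (fun j _ e => by simp [e]) (by simp)] at this
    simpa using this

variable {F E V : Type v} [Field F] [Field E] [AddCommGroup V] [Module E V] [Finite F] [Finite E]
  [Finite V] [FiniteDimensional E V] {i : F →+* E} {σ : E ≃+* E}
  {B : V →ₛₗ[(σ : E →+* E)] V →ₗ[E] E} {G : Type u} [Group G] [Finite G] {φ : sisom B →* G}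
  {L : Subgroup G}

theorem exists_basis (c : UCtx i φ L) {n : ℕ} (hn : finrank E V = n + 1) :
    ∃ b : Fin (n + 1) → V, (∀ j k, B (b j) (b k) = if j = k.rev then 1 else 0) ∧
      ∀ z, z = ∑ k, B (b k.rev) z • b k := by
  obtain ⟨e, he⟩ := (ad_herm c.herm.inv n).exists_isometry c.herm (by simp [hn])
  refine ⟨fun k => e (Pi.single k 1), fun j k => ?_, fun z => ?_⟩
  · rw [he, ad_single, Pi.single_apply]
    simp only [Fin.rev_eq_iff]
  · obtain ⟨x, rfl⟩ := e.surjective z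
    simp only [he, ad_single, Fin.rev_rev, ← map_smul, ← map_sum]
    congr 1
    ext k; simp [Finset.sum_apply, Pi.single_apply]

/-- the perpendicular space of a point is additively generated by isotropic vectors -/
theorem ind (c : UCtx i φ L) {u : V} (hu : Pt B u) {P : V → Prop}
    (h1 : ∀ w, B w w = 0 → B u w = 0 → P w)
    (h2 : ∀ w w', B u w = 0 → B u w' = 0 → P w → P w' → P (w + w')) {w : V} (hw : B u w = 0) : P w := by
  obtain ⟨f, hf, uf⟩ := c.hyp hu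
  obtain ⟨nd, dim⟩ := c.perp_pair hu.1 uf
  have := c.four
  obtain ⟨y1, m1, y2, m2, i1, i2, e⟩ := c.herm.exists_add_isotropic nd (by omega)
    (v := w - B f w • u) (UCtx.mem_perp_pair.2 ⟨by simp [hw, hu.1], by simp [c.flip1 uf]⟩)
  have u1 := (UCtx.mem_perp_pair.1 m1).1
  have u2 := (UCtx.mem_perp_pair.1 m2).1
  rw [show w = y1 + y2 + B f w • u by rw [← e]; abel]
  exact h2 _ _ (by simp [u1, u2]) (by simp [hu.1]) (h2 _ _ u1 u2 (h1 _ i1 u1) (h1 _ i2 u2))
    (h1 _ (by simp [hu.1]) (by simp [hu.1]))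

structure Cx (i : F →+* E) (φ : sisom B →* G) (L : Subgroup G) (t : G) (y : V → E → G)
    (ρ : V → V → G) {n : ℕ} (b : Fin (n + 1) → V) : Prop where
  c : UCtx i φ L
  k : KitB i φ L
  tc : Tc L t
  p : UPar i φ L t i σ y
  r : URow φ t y ρ
  g : GC B ρ
  gram : ∀ j k, B (b j) (b k) = if j = k.rev then 1 else 0
  span : ∀ z, z = ∑ k, B (b k.rev) z • b k

/-- the root elements -/
def X (σ : E ≃+* E) (t : G) (ρ : V → V → G) {n : ℕ} (b : Fin (n + 1) → V) (j k : Fin (n + 1)) (a : E) :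
    G := if k = k.rev then t * ρ (b j) (σ a • b k) * t⁻¹ else ρ (b k.rev) (a • b j)

theorem mid {n : ℕ} {j k : Fin (n + 1)} (h : j ≠ k) (hk : k = k.rev) : j ≠ j.rev := fun e => by
  apply h
  have h1 := congrArg Fin.val e
  have h2 := congrArg Fin.val hk
  rw [Fin.val_rev] at h1 h2
  exact Fin.ext (by omega)

namespace Cx
variable {t : G} {y : V → E → G} {ρ : V → V → G} {n : ℕ} {b : Fin (n + 1) → V}
  (h : Cx i φ L t y ρ b)
include h

theorem t2 : t * t = 1 := by rw [← pow_two, ← h.tc.t2, pow_orderOf_eq_one]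
theorem tt (g : G) : t * (t * g * t⁻¹) * t⁻¹ = g := by
  calc _ = t * t * g * (t * t)⁻¹ := by group
    _ = g := by rw [h.t2]; group
theorem ρ0 {u : V} (hu : Pt B u) : ρ u 0 = 1 := by
  have := h.r.add u hu 0 0 (map_zero _) (map_zero _)
  rw [add_zero] at this
  exact left_eq_mul.1 this
theorem ne0 (j : Fin (n + 1)) : b j ≠ 0 := fun e => by
  have := h.gram j j.rev
  simp [e] at this
theorem pt {j : Fin (n + 1)} (e : j ≠ j.rev) : Pt B (b j) := ⟨by rw [h.gram, if_neg e], h.ne0 j⟩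
theorem pt' {j : Fin (n + 1)} (e : j ≠ j.rev) : Pt B (b j.rev) :=
  h.pt (by rw [Fin.rev_rev]; exact e.symm)
theorem perp {j k : Fin (n + 1)} (e : j ≠ k) (a : E) : B (b k.rev) (a • b j) = 0 := by
  rw [map_smul, h.gram, if_neg (Fin.rev_injective.ne e.symm), smul_zero]

omit h in
theorem XA (j : Fin (n + 1)) {k : Fin (n + 1)} (e : k ≠ k.rev) (a : E) :
    X σ t ρ b j k a = ρ (b k.rev) (a • b j) := if_neg e

theorem XB {j k : Fin (n + 1)} (jk : j ≠ k) (e : j ≠ j.rev) (a : E) :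
    X σ t ρ b j k a = t * ρ (b j) (σ a • b k.rev) * t⁻¹ := by
  by_cases m : k = k.rev
  · rw [X, if_pos m, ← m]
  rw [XA j m]
  by_cases a0 : a = 0
  · simp [a0, h.ρ0 (h.pt e), h.ρ0 (h.pt' m)]
  have o : B (b k.rev) (b j) = 0 := by simpa using h.perp jk 1
  rw [h.r.swap _ _ (h.pt e) ((h.pt' m).smul (by simpa using a0)) (by simp [h.c.flip o]),
    h.r.smul _ (h.pt' m) _ o _ (by simpa using a0), h.c.qf.sq]

theorem conj {j k : Fin (n + 1)} (jk : j ≠ k) (a : E) :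
    t * X σ t ρ b j k a * t⁻¹ = X σ t ρ b k.rev j.rev (σ a) := by
  by_cases e : j = j.rev
  · have m := mid jk.symm e
    rw [XA j m, h.XB (Fin.rev_injective.ne jk.symm) (by rw [Fin.rev_rev]; exact m.symm), h.c.qf.sq,
      Fin.rev_rev]
  · rw [h.XB jk e, h.tt, XA _ (by rw [Fin.rev_rev]; exact Ne.symm e), Fin.rev_rev]

theorem add {j k : Fin (n + 1)} (jk : j ≠ k) (a a' : E) :
    X σ t ρ b j k (a + a') = X σ t ρ b j k a * X σ t ρ b j k a' := by
  have key : ∀ {j k : Fin (n + 1)}, j ≠ k → k ≠ k.rev → ∀ a a' : E,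
      X σ t ρ b j k (a + a') = X σ t ρ b j k a * X σ t ρ b j k a' := fun jk m a a' => by
    rw [XA _ m, XA _ m, XA _ m, add_smul, h.r.add _ (h.pt' m) _ _ (h.perp jk a) (h.perp jk a')]
  by_cases m : k = k.rev
  · rw [← h.tt (X σ t ρ b j k (a + a')), h.conj jk, map_add, key (Fin.rev_injective.ne jk.symm)
      (by rw [Fin.rev_rev]; exact (mid jk m).symm), ← h.conj jk, ← h.conj jk, conj_mul, h.tt]
  · exact key jk m a a'

theorem inj {j k : Fin (n + 1)} (jk : j ≠ k) {a : E} (e : X σ t ρ b j k a = 1) : a = 0 := by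
  have key : ∀ {j k : Fin (n + 1)}, j ≠ k → k ≠ k.rev → ∀ a : E, X σ t ρ b j k a = 1 → a = 0 :=
    fun jk m a e => by
      rw [XA _ m] at e
      exact (smul_eq_zero.1 (h.r.inj _ (h.pt' m) _ (h.perp jk a) e)).resolve_right (h.ne0 _)
  by_cases m : k = k.rev
  · simpa using key (Fin.rev_injective.ne jk.symm) (by rw [Fin.rev_rev]; exact (mid jk m).symm) (σ a)
      (by rw [← h.conj jk, e]; group)
  · exact key jk m a e

theorem zero {j k : Fin (n + 1)} (jk : j ≠ k) : X σ t ρ b j k 0 = 1 := by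
  have := h.add jk 0 0
  rw [add_zero] at this
  exact left_eq_mul.1 this

theorem inv {j k : Fin (n + 1)} (jk : j ≠ k) (a : E) : (X σ t ρ b j k a)⁻¹ = X σ t ρ b j k a :=
  inv_eq_of_mul_eq_one_right (by rw [← h.add jk, ← two_mul, h.c.qf.two, zero_mul, h.zero jk])

/-- the action of the transvections with isotropic centre -/
theorem gc' {u w : V} (hu : Pt B u) (hw : B u w = 0) {u0 : V} (h0 : Pt B u0) (o : B u0 u = 0) :
    ∀ w0, B u0 w0 = 0 →
      t * ρ u w * t⁻¹ * ρ u0 w0 * (t * ρ u w * t⁻¹)⁻¹ = ρ u0 (w0 + B w w0 • u) := by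
  refine ind h.c hu (P := fun w => ∀ w0, B u0 w0 = 0 →
    t * ρ u w * t⁻¹ * ρ u0 w0 * (t * ρ u w * t⁻¹)⁻¹ = ρ u0 (w0 + B w w0 • u)) ?_ ?_ hw
  · intro w h1 h2 w0 h3
    by_cases e : w = 0
    · simp [e, h.ρ0 hu]
    · rw [h.r.swap _ _ hu ⟨h1, e⟩ h2]
      exact h.g _ _ ⟨h1, e⟩ h0 _ _ (h.c.flip h2) o h3
  · intro w w' h1 h2 p p' w0 h3
    rw [h.r.add _ hu _ _ h1 h2, ← conj_mul]
    calc _ = t * ρ u w * t⁻¹ * (t * ρ u w' * t⁻¹ * ρ u0 w0 * (t * ρ u w' * t⁻¹)⁻¹) *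
          (t * ρ u w * t⁻¹)⁻¹ := by group
      _ = _ := by
        rw [p' w0 h3, p _ (by simp [h3, o])]
        congr 1
        simp only [map_add, map_smul, h.c.flip h1, LinearMap.add_apply, smul_zero, add_zero, add_smul]
        abel

theorem cm1 {j k l m : Fin (n + 1)} (jk : j ≠ k) (lm : l ≠ m) (jm : j ≠ m) (e : m ≠ m.rev) (a d : E) :
    ⁅X σ t ρ b j k a, X σ t ρ b l m d⁆ = X σ t ρ b j m (if k = l then a * d else 0) := by
  have key : X σ t ρ b j k a * ρ (b m.rev) (d • b l) * (X σ t ρ b j k a)⁻¹ =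
      ρ (b m.rev) (d • b l + (if k = l then a * d else 0) • b j) := by
    by_cases f : k = k.rev
    · rw [h.XB jk (mid jk f), h.gc' (h.pt (mid jk f)) (h.c.flip (by simpa [sm_left] using Or.inr (by
        simpa using h.perp jk 1))) (h.pt' e) (by simpa using h.perp jm 1) _ (h.perp lm d)]
      simp [sm_left, h.gram, h.c.qf.sq, mul_comm]
    · rw [XA _ f, h.g _ _ (h.pt' f) (h.pt' e) _ _ (h.perp jk a) (h.perp jm a) (h.perp lm d)]
      simp [h.gram, smul_smul, mul_comm]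
  rw [commutatorElement_def, XA _ e, XA _ e, key, add_comm (d • b l),
    h.r.add _ (h.pt' e) _ _ (h.perp jm _) (h.perp lm d), mul_inv_cancel_right]

theorem cm {j k l m : Fin (n + 1)} (jk : j ≠ k) (lm : l ≠ m) (jm : j ≠ m) (a d : E) :
    ⁅X σ t ρ b j k a, X σ t ρ b l m d⁆ = X σ t ρ b j m (if k = l then a * d else 0) := by
  by_cases e : m = m.rev
  · have r := fun {p q : Fin (n + 1)} (x : p ≠ q) => Fin.rev_injective.ne x.symm
    have := h.cm1 (r lm) (r jk) (r jm) (by rw [Fin.rev_rev]; exact (mid jm e).symm) (σ d) (σ a)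
    rw [← h.conj jk, ← h.conj lm, ← commutatorElement_inv, inv_eq_iff_eq_inv, h.inv (r jm),
      ← conjugate_commutatorElement] at this
    rw [← h.tt ⁅_, _⁆, this, ← h.tt (X σ t ρ b j m _), h.conj jm]
    congr 3
    by_cases f : k = l
    · simp [f, mul_comm]
    · simp [f, Ne.symm f]
  · exact h.cm1 jk lm jm e a d

end Cx

/-- the root elements indexed by the roots -/
def xr (σ : E ≃+* E) (t : G) (ρ : V → V → G) {n : ℕ} (b : Fin (n + 1) → V) (r : An.Φ n) (a : E) : G :=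
  X σ t ρ b r.1.1 r.1.2 a

namespace Cx
variable {t : G} {y : V → E → G} {ρ : V → V → G} {n : ℕ} {b : Fin (n + 1) → V}
  (h : Cx i φ L t y ρ b)
include h

theorem pin : Pin (An.R n) (xr σ t ρ b) where
  two := h.c.qf.two
  add r := h.add r.2
  com r s e a d := by
    obtain ⟨j, k, jk, rfl⟩ := An.exists_rt r
    obtain ⟨l, m, lm, rfl⟩ := An.exists_rt s
    obtain ⟨h1, h2⟩ := H45.An.com_cases e
    have := h.cm jk lm h2.symm a d
    rw [if_neg h1, h.zero h2.symm] at this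
    exact commutatorElement_eq_one_iff_commute.1 this
  rel r s q e a d := by
    obtain ⟨j, k, jk, rfl⟩ := An.exists_rt r
    obtain ⟨l, m, lm, rfl⟩ := An.exists_rt s
    obtain ⟨p, q, pq, rfl⟩ := An.exists_rt q
    rcases H45.An.rel_cases e with ⟨rfl, rfl, rfl⟩ | ⟨rfl, rfl, rfl⟩
    · have := h.cm jk lm pq a d
      rw [if_pos rfl] at this
      exact this
    · have := h.cm lm jk pq d a
      rw [if_pos rfl, ← commutatorElement_inv, inv_eq_iff_eq_inv, h.inv pq, mul_comm] at this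
      exact this
  inj r _ e := h.inj r.2 e

theorem tU {g : G} (hg : g ∈ UU (xr σ t ρ b) Set.univ) : t * g * t⁻¹ ∈ UU (xr σ t ρ b) Set.univ :=
  UU_le (K := (UU (xr σ t ρ b) Set.univ).comap (MulAut.conj t).toMonoidHom) (fun r _ a => by
    show t * X σ t ρ b r.1.1 r.1.2 a * t⁻¹ ∈ UU (xr σ t ρ b) Set.univ
    rw [h.conj r.2]
    exact x_mem_UU (x := xr σ t ρ b) (r := An.γ n r) (Set.mem_univ _) _) hg

theorem ρU {k : Fin (n + 1)} (e : k ≠ k.rev) {z : V} (hz : B (b k.rev) z = 0) :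
    ρ (b k.rev) z ∈ UU (xr σ t ρ b) Set.univ := by
  rw [h.span z]
  refine (Finset.sum_induction _ (fun w => B (b k.rev) w = 0 ∧ ρ (b k.rev) w ∈ UU (xr σ t ρ b) Set.univ)
    (fun w w' p p' => ⟨by simp [p.1, p'.1], ?_⟩) ⟨map_zero _, ?_⟩ fun j _ => ?_).2
  · rw [h.r.add _ (h.pt' e) _ _ p.1 p'.1]; exact mul_mem p.2 p'.2
  · rw [h.ρ0 (h.pt' e)]; exact one_mem _
  · by_cases jk : j = k
    · rw [jk, hz, zero_smul, h.ρ0 (h.pt' e)]; exact ⟨map_zero _, one_mem _⟩
    · refine ⟨h.perp jk _, ?_⟩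
      rw [← XA (σ := σ) (t := t) (ρ := ρ) (b := b) j e]
      exact x_mem_UU (x := xr σ t ρ b) (r := An.rt j k jk) (Set.mem_univ _) _

theorem yU {k : Fin (n + 1)} (e : k ≠ k.rev) (a : E) : y (b k.rev) a ∈ UU (xr σ t ρ b) Set.univ := by
  rw [← h.r.res _ (h.pt' e)]
  exact h.ρU e (by simp [(h.pt' e).1])

theorem QU {k : Fin (n + 1)} (e : k ≠ k.rev) : QV φ (b k.rev) ≤ UU (xr σ t ρ b) Set.univ := by
  have v := h.pt' e
  have T : ∀ a, TT i φ (b k.rev) a ∈ UU (xr σ t ρ b) Set.univ := fun a => by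
    rw [← h.p.res _ v.1]; exact h.yU e _
  rw [h.k.qgen _ v]
  refine sup_le ((closure_le _).2 ?_) ((closure_le _).2 (by rintro _ ⟨a, rfl⟩; exact T a))
  rintro _ ⟨z, z1, z2, rfl⟩
  by_cases z0 : z = 0
  · rw [z0, BB, zero_add, UCtx.TT_zero_left]
    exact mul_mem (mul_mem (T 1) (one_mem _)) (T 1)
  · have : BB (TT i φ) z (b k.rev) 1 = BB y z (b k.rev) 1 := by
      rw [BB, BB, ← h.p.res _ v.1, ← h.p.res _ z1, ← h.p.res _ (h.c.iso_add z1 v.1 (h.c.flip z2)), map_one]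
    rw [this, ← h.r.pair _ _ ⟨z1, z0⟩ v (h.c.flip z2), ← h.r.swap _ _ v ⟨z1, z0⟩ z2]
    exact mul_mem (h.tU (h.ρU e z2)) (h.ρU e z2)

theorem n0 (hn : finrank E V = n + 1) : (0 : Fin (n + 1)) ≠ Fin.rev 0 := fun e => by
  have := h.c.four
  have := congrArg Fin.val e
  simp at this; omega

theorem le (hn : finrank E V = n + 1) : L ≤ UU (xr σ t ρ b) Set.univ := by
  have e := h.n0 hn
  have e' : (Fin.rev 0 : Fin (n + 1)) ≠ (Fin.rev 0).rev := by rw [Fin.rev_rev]; exact e.symm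
  exact (h.k.gen2 _ _ (h.pt' e).1 (h.pt' e').1 (by rw [h.gram, Fin.rev_rev, if_pos rfl])).trans
    (sup_le (h.QU e) (h.QU e'))

theorem nrm (hn : finrank E V = n + 1) : C1[t] ≤ N[UU (xr σ t ρ b) Set.univ] := by
  set K : Subgroup G := closure {g | ∃ v a, B v v = 0 ∧ g = y v a} with hK
  have yK : ∀ {v : V}, B v v = 0 → ∀ a, y v a ∈ K := fun hv a => subset_closure ⟨_, a, hv, rfl⟩
  have nK : ∀ g ∈ C1[t], ∀ x ∈ K, g * x * g⁻¹ ∈ K := fun g hg x hx =>
    (closure_le (K.comap (MulAut.conj g).toMonoidHom)).2 (by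
      rintro _ ⟨v, a, hv, rfl⟩
      show g * y v a * g⁻¹ ∈ K
      by_cases v0 : v = 0
      · rw [v0, h.p.zero]; simpa using one_mem K
      obtain ⟨f, θ, s1, s2⟩ := h.c.mod.ext g (h.tc.cN hg)
      have := hat_conj (h.tc.cN hg) (mem_centralizer_singleton_iff.1 hg) ((h.p.hat v ⟨hv, v0⟩ _).2 ⟨a, rfl⟩)
      rw [h.c.ZV_act s1 s2 hv] at this
      obtain ⟨a', e⟩ := (h.p.hat _ (s1.pt ⟨hv, v0⟩) _).1 this
      rw [e]; exact yK (s1.pt ⟨hv, v0⟩).1 _) hx
  have ρK : ∀ {u w : V}, Pt B u → B u w = 0 → ρ u w ∈ K := fun {u w} hu hw => by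
    refine ind h.c hu (P := fun w => ρ u w ∈ K) (fun w h1 h2 => ?_) (fun w w' h1 h2 p p' => ?_) hw
    · obtain ⟨ω, hω⟩ := h.c.qf.tr
      have h3 : B (ω • w) (ω • w) = 0 := by simp [h1]
      rw [h.r.iso _ hu _ h1 h2 ω hω, BB, BB]
      exact mul_mem (mul_mem (mul_mem (yK (h.c.iso_add hu.1 h1 h2) _) (yK hu.1 _)) (yK h1 _))
        (mul_mem (mul_mem (yK (h.c.iso_add hu.1 h3 (by simp [h2])) _) (yK hu.1 _)) (yK h3 _))
    · rw [h.r.add _ hu _ _ h1 h2]; exact mul_mem p p'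
  have e : UU (xr σ t ρ b) Set.univ = K := le_antisymm (UU_le fun r _ a => by
    show X σ t ρ b r.1.1 r.1.2 a ∈ K
    by_cases m : r.1.2 = r.1.2.rev
    · rw [h.XB r.2 (mid r.2 m)]
      exact nK t (mem_centralizer_singleton_iff.2 rfl) _ (ρK (h.pt (mid r.2 m))
        (h.c.flip (by simpa [sm_left] using Or.inr (by simpa using h.perp r.2 1))))
    · rw [XA _ m]; exact ρK (h.pt' m) (h.perp r.2 a)) ((closure_le _).2 (by
      rintro _ ⟨v, a, hv, rfl⟩
      by_cases v0 : v = 0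
      · rw [v0, h.p.zero]; exact one_mem _
      obtain ⟨s, rfl⟩ := h.c.trans (h.pt' (h.n0 hn)) ⟨hv, v0⟩
      rw [← h.p.eqv s _ (h.pt' (h.n0 hn)).1]
      have := h.le hn (h.c.mem s)
      exact mul_mem (mul_mem this (h.yU (h.n0 hn) a)) (inv_mem this)))
  rw [e]
  exact fun g hg => mem_normalizer_fintype (nK g hg)

end Cx

theorem pin : UM.PinStmt.{u, v} := by
  intro F E V _ _ _ _ _ _ _ _ i σ B G _ _ φ L c _ k t y ρ tc p r g n hn
  obtain ⟨b, h1, h2⟩ := exists_basis c hn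
  have h : Cx i φ L t y ρ b := ⟨c, k, tc, p, r, g, h1, h2⟩
  exact ⟨xr σ t ρ b, h.pin, fun r a => h.conj r.2 a, h.le hn, h.nrm hn⟩

end Cfsg.Agent.H75.UP
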