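import Mathlib
import Cfsg.Agent.H46.J2Defs

/-! The conjugates of `t` in the elementary abelian group of order `32`. -/

set_option autoImplicit false
open scoped Pointwise commutatorElement
open Subgroup

namespace Cfsg.Agent.H75.S94Nc
open Cfsg.Agent.H46.S94

universe u

local notation "N[" A "]" => Subgroup.normalizer (SetLike.coe A)

section core
variable {V : Type*} [CommGroup V]

theorem fin_case (sq : ∀ v : V, v * v = 1) (Y : Subgroup V)
    (four : ∀ a ∈ Y, ∀ b ∈ Y, ∀ c ∈ Y, a ≠ 1 → b ≠ 1 → c ≠ 1 → a ≠ c → b ≠ c →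
      a * b = 1 ∨ a * b = c)
    (P : MulAut V → Prop) (Pm : ∀ g h, P g → P h → P (g * h))
    (P1 : ∀ g, P g → ∀ y ∈ Y, g y = y) (P2 : ∀ g, P g → ∀ v, g v * v ∈ Y)
    (K : ∀ g, P g → ∀ s s', s ∉ Y → s' ∉ Y → s * s' ∉ Y → g s = s → g s' = s' → ∀ v, g v = v)
    {t e e' : V} (i1 : t ∉ Y) (i2 : e ∉ Y) (i3 : e' ∉ Y) (i4 : t * e ∉ Y) (i5 : t * e' ∉ Y)
    (i6 : e * e' ∉ Y) (i7 : t * e * e' ∉ Y) {k : MulAut V} (hk : P k) (ke : k e = e)
    (kn : ¬ ∀ v, k v = v) (mv : ∀ a ∈ Y, ∃ r, P r ∧ r t = t ∧ r e = e * a) : False := by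
  have sq' : ∀ v w : V, v * (v * w) = w := fun v w => by rw [← mul_assoc, sq, one_mul]
  have d : ∀ (g : MulAut V) v, g v = g v * v * v := fun g v => by rw [mul_assoc, sq, mul_one]
  obtain ⟨b, hb, eb⟩ : ∃ b ∈ Y, k t = b * t := ⟨_, P2 k hk t, d k t⟩
  obtain ⟨c', hc', ec'⟩ : ∃ c ∈ Y, k e' = c * e' := ⟨_, P2 k hk e', d k e'⟩
  obtain ⟨r, hr, rt, re⟩ := mv b hb
  obtain ⟨c, hc, ec⟩ : ∃ c ∈ Y, r e' = c * e' := ⟨_, P2 r hr e', d r e'⟩
  have b1 : b ≠ 1 := by
    rintro rfl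
    exact kn (K k hk t e i1 i2 i4 (by rw [eb, one_mul]) ke)
  have rn : ¬ ∀ v, r v = v := fun h => b1 (by simpa [h] using re)
  have c1 : c ≠ 1 := by
    rintro rfl
    exact rn (K r hr t e' i1 i3 i5 rt (by rw [ec, one_mul]))
  have c2 : c ≠ b := by
    rintro rfl
    refine rn (K r hr t (e * e') i1 i6 (by rwa [← mul_assoc]) rt ?_)
    rw [map_mul, re, ec, mul_assoc, sq']
  have c3 : c' ≠ 1 := by
    rintro rfl
    exact kn (K k hk e e' i2 i3 i6 ke (by rw [ec', one_mul]))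
  have c4 : c' ≠ b := by
    rintro rfl
    refine kn (K k hk e (t * e') i2 i5 (by rwa [mul_left_comm, ← mul_assoc]) ke ?_)
    rw [map_mul, eb, ec', mul_mul_mul_comm, sq, one_mul]
  have g1 : (r * k) t = b * t := by rw [MulAut.mul_apply, eb, map_mul, P1 r hr b hb, rt]
  have g2 : (r * k) e = e * b := by rw [MulAut.mul_apply, ke, re]
  have g3 : (r * k) e' = c' * c * e' := by
    rw [MulAut.mul_apply, ec', map_mul, P1 r hr c' hc', ec, mul_assoc]
  have g4 : (r * k) (t * e) = t * e := by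
    rw [map_mul, g1, g2, mul_comm e b, mul_mul_mul_comm, sq, one_mul]
  have gn : ¬ ∀ v, (r * k) v = v := fun h => b1 (by simpa [h] using g1)
  rcases four c' hc' c hc b hb c3 c1 b1 c4 c2 with h | h
  · exact gn (K _ (Pm r k hr hk) (t * e) e' i4 i3 i7 g4 (by rw [g3, h, one_mul]))
  · refine gn (K _ (Pm r k hr hk) (t * e) (e * e') i4 i6 (by rwa [mul_assoc, sq']) g4 ?_)
    rw [map_mul, g2, g3, h, mul_assoc, sq']

theorem core (sq : ∀ v : V, v * v = 1) (Y W : Subgroup V) (t z y e e' : V)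
    (R : Subgroup (MulAut V)) (Oc : V → Prop) (YW : Y ≤ W) (tW : t ∉ W)
    (dec : ∀ v, v ∈ W ∨ t * v ∈ W)
    (four : ∀ a ∈ Y, ∀ b ∈ Y, ∀ c ∈ Y, a ≠ 1 → b ≠ 1 → c ≠ 1 → a ≠ c → b ≠ c →
      a * b = 1 ∨ a * b = c)
    (zY : z ∈ Y) (yY : y ∈ Y) (z1 : z ≠ 1) (y1 : y ≠ 1) (zy : z * y ≠ 1)
    (eW : e ∈ W) (eW' : e' ∈ W) (eY : e ∉ Y) (eY' : e' ∉ Y) (ee : e * e' ∉ Y)
    (inv : ∀ g ∈ R, ∀ v, Oc (g v) ↔ Oc v) (tr : ∀ s, Oc s → ∃ g ∈ R, g t = s) (Ot : Oc t)
    (oY : ∀ a ∈ Y, ¬ Oc a)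
    (A : ∀ a ∈ Y, a ≠ 1 → (Oc (t * a) ↔ Oc (t * z)))
    (B : ∀ w ∈ W, w ∉ Y → (Oc w ↔ Oc e))
    (C : ∀ w ∈ W, w ∉ Y → (Oc (t * w) ↔ Oc (t * e)))
    (mv : ∀ a ∈ Y, ∃ r ∈ R, r t = t ∧ (∀ b ∈ Y, r b = b) ∧ (∀ w ∈ W, r w * w ∈ Y) ∧ r e = e * a)
    (fix : ∀ r ∈ R, r t = t → (∀ b ∈ Y, r b = b) → (∀ w ∈ W, r w * w ∈ Y) → ∀ w ∈ W, w ∉ Y →
      r w = w → ∀ w ∈ W, r w = w)
    (ne : Oc (t * z) ∨ Oc e ∨ Oc (t * e)) : Oc (t * z) ∧ ¬ Oc e := by
  have sq' : ∀ v w : V, v * (v * w) = w := fun v w => by rw [← mul_assoc, sq, one_mul]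
  have tw : ∀ w ∈ W, t * w ∉ W := fun w hw h => tW ((mul_mem_cancel_right hw).1 h)
  have mY : ∀ w, w ∉ Y → ∀ a ∈ Y, w * a ∉ Y := fun w hw a ha h =>
    hw ((mul_mem_cancel_right ha).1 h)
  by_cases hB : Oc e
  · exfalso
    by_cases hC : Oc (t * e)
    · by_cases hA : Oc (t * z)
      · have all : ∀ v, v ∉ Y → Oc v := fun v hv => by
          rcases dec v with h | h
          · exact (B v h hv).2 hB
          rw [← sq' t v]
          by_cases h1 : t * v ∈ Y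
          · by_cases h2 : t * v = 1
            · rwa [h2, mul_one]
            · exact (A _ h1 h2).2 hA
          · exact (C _ h h1).2 hC
        have nY : ∀ g ∈ R, ∀ v, g v ∈ Y ↔ v ∈ Y := fun g hg v =>
          ⟨fun h => by_contra fun h1 => oY _ h ((inv g hg v).2 (all v h1)),
            fun h => by_contra fun h1 => oY _ h ((inv g hg v).1 (all _ h1))⟩
        let P : MulAut V → Prop := fun g => g ∈ R ∧ (∀ b ∈ Y, g b = b) ∧ ∀ v, g v * v ∈ Y
        have cj : ∀ g, P g → ∀ n ∈ R, P (n * g * n⁻¹) := fun g hg n hn =>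
          ⟨mul_mem (mul_mem hn hg.1) (inv_mem hn), fun b hb => by
            rw [MulAut.mul_apply, MulAut.mul_apply, hg.2.1 _ ((nY _ (inv_mem hn) b).2 hb)]
            simp, fun v => by
            have := (nY n hn _).2 (hg.2.2 (n⁻¹ v))
            simpa using this⟩
        have mk : ∀ r ∈ R, r t = t → (∀ b ∈ Y, r b = b) → (∀ w ∈ W, r w * w ∈ Y) → P r :=
          fun r hr rt h1 h2 => ⟨hr, h1, fun v => by
            rcases dec v with h | h
            · exact h2 v h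
            · have := h2 _ h
              rwa [map_mul, rt, mul_mul_mul_comm, sq, one_mul] at this⟩
        have K0 : ∀ g, P g → ∀ s, s ∉ Y → t * s ∉ Y → g t = t → g s = s → ∀ v, g v = v :=
          fun g hg s h1 h2 gt gs v => by
            have : ∀ w ∈ W, g w = w := by
              rcases dec s with h | h
              · exact fix g hg.1 gt hg.2.1 (fun w _ => hg.2.2 w) s h h1 gs
              · exact fix g hg.1 gt hg.2.1 (fun w _ => hg.2.2 w) _ h h2 (by rw [map_mul, gt, gs])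
            rcases dec v with h | h
            · exact this v h
            · have h3 := this _ h
              rwa [map_mul, gt, mul_right_inj] at h3
        obtain ⟨n, hn, en⟩ := tr e hB
        obtain ⟨r, hr, r1, r2, r3, r4⟩ := mv z zY
        refine fin_case sq Y four P (fun g h hg hh => ⟨mul_mem hg.1 hh.1, fun b hb => by
          rw [MulAut.mul_apply, hh.2.1 b hb, hg.2.1 b hb], fun v => ?_⟩) (fun g hg => hg.2.1)
          (fun g hg => hg.2.2) (fun g hg s s' h1 h2 h3 gs gs' v => ?_) (t := t) (e := e) (e' := e')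
          (fun h => tW (YW h)) eY eY' (fun h => tw e eW (YW h)) (fun h => tw e' eW' (YW h)) ee
          (fun h => tw _ (mul_mem eW eW') (mul_assoc t e e' ▸ YW h))
          (cj r (mk r hr r1 r2 r3) n hn) (by simp [← en, r1]) (fun h => z1 ?_) fun a ha => ?_
        · have := mul_mem (hg.2.2 (h v)) (hh.2.2 v)
          rwa [mul_assoc, sq'] at this
        · obtain ⟨m, hm, rfl⟩ := tr s (all s h1)
          have h4 := K0 _ (cj g hg m⁻¹ (inv_mem hm)) (m⁻¹ s') (by rwa [nY _ (inv_mem hm)])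
            (by rw [← nY m hm]; simpa using h3) (by simp [gs]) (by simp [gs']) (m⁻¹ v)
          simpa using h4
        · simpa [r4] using h (n e)
        · obtain ⟨r, hr, r1, r2, r3, r4⟩ := mv a ha
          exact ⟨r, mk r hr r1 r2 r3, r1, r4⟩
      · have out : ∀ v, ¬ Oc v → v ∈ Y ∨ t * v ∈ Y := fun v hv => by
          by_contra! h
          rcases dec v with h1 | h1
          · exact hv ((B v h1 h.1).2 hB)
          · exact hv (sq' t v ▸ (C _ h1 h.2).2 hC)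
        obtain ⟨n, hn, en⟩ := tr e hB
        have e1 : e = n (t * z) * n z := by rw [← map_mul, mul_assoc, sq, mul_one, en]
        rcases out _ (mt (inv n hn _).1 hA) with h1 | h1 <;>
          rcases out _ (mt (inv n hn _).1 (oY z zY)) with h2 | h2
        · exact eY (e1 ▸ mul_mem h1 h2)
        · exact tw e eW (YW (by rw [e1, mul_left_comm]; exact mul_mem h1 h2))
        · exact tw e eW (YW (by rw [e1, ← mul_assoc]; exact mul_mem h1 h2))
        · have := mul_mem h1 h2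
          rw [mul_mul_mul_comm, sq, one_mul, ← e1] at this
          exact eY this
    · have key : ∀ x, Oc x → ¬ Oc (t * x) := fun x h1 h2 => by
        rcases dec x with h | h
        · by_cases h3 : x ∈ Y
          exacts [oY x h3 h1, hC ((C x h h3).1 h2)]
        · by_cases h3 : t * x ∈ Y
          exacts [oY _ h3 h2, hC ((C _ h h3).1 (by rwa [sq']))]
      obtain ⟨n, hn, en⟩ := tr e hB
      refine key (n⁻¹ e') ((inv _ (inv_mem hn) _).2 ((B e' eW' eY').2 hB)) ((inv n hn _).1 ?_)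
      simpa [en] using (B _ (mul_mem eW eW') ee).2 hB
  refine ⟨by_contra fun hA => ?_, hB⟩
  have hC : Oc (t * e) := (ne.resolve_left hA).resolve_left hB
  have oW : ∀ v, Oc v → t * v ∈ W := fun v hv => (dec v).resolve_left fun h => by
    by_cases h1 : v ∈ Y
    exacts [oY v h1 hv, hB ((B v h h1).1 hv)]
  obtain ⟨n, hn, en⟩ := tr _ hC
  have key : ∀ a ∈ Y, a ≠ 1 → e * n a ∈ Y := fun a ha a1 => by
    have h1 := mul_mem (oW _ ((inv n hn _).2 hC)) (oW _ ((inv n hn _).2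
      ((C _ (mul_mem eW (YW ha)) (mY e eY a ha)).2 hC)))
    rw [mul_mul_mul_comm, sq, one_mul, ← map_mul, mul_mul_mul_comm, sq, one_mul, sq'] at h1
    by_contra h2
    have h3 := (C _ (mul_mem eW h1) h2).2 hC
    rw [← mul_assoc, ← en, ← map_mul, inv n hn] at h3
    exact hA ((A a ha a1).1 h3)
  have h1 := mul_mem (key z zY z1) (key y yY y1)
  rw [mul_mul_mul_comm, sq, one_mul, ← map_mul] at h1
  exact eY ((mul_mem_cancel_right h1).1 (key _ (mul_mem zY yY) zy))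

end core

theorem four_of_card {H : Type*} [Group H] {Z : Subgroup H} (h4 : Nat.card Z = 4)
    (sq : ∀ a ∈ Z, a * a = 1) : ∀ a ∈ Z, ∀ b ∈ Z, ∀ c ∈ Z, a ≠ 1 → b ≠ 1 → c ≠ 1 → a ≠ c → b ≠ c →
      a * b = 1 ∨ a * b = c := by
  intro a ha b hb c hc a1 b1 c1 ac bc
  by_contra! h
  have ab : a ≠ b := by
    rintro rfl
    exact h.1 (sq a ha)
  have : Finite Z := Nat.finite_of_card_ne_zero (by omega)
  have h1 : ({1, a, b, c, a * b} : Set H).ncard ≤ (Z : Set H).ncard :=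
    Set.ncard_le_ncard (by
      rintro _ (rfl | rfl | rfl | rfl | rfl)
      exacts [one_mem Z, ha, hb, hc, mul_mem ha hb]) (Set.toFinite _)
  rw [Set.ncard_insert_of_notMem (by simp [a1.symm, b1.symm, c1.symm, h.1.symm]),
    Set.ncard_insert_of_notMem (by simp [ab, ac, b1]), Set.ncard_insert_of_notMem (by simp [bc, a1]),
    Set.ncard_pair h.2.symm, ← Nat.card_coe_set_eq] at h1
  exact absurd (h1.trans_eq h4) (by norm_num)

theorem exists_y {H : Type*} [Group H] {Z : Subgroup H} (h4 : Nat.card Z = 4) (z : H) :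
    ∃ y ∈ Z, y ≠ 1 ∧ z * y ≠ 1 := by
  by_contra! h
  have h1 : (Z : Set H).ncard ≤ ({1, z⁻¹} : Set H).ncard := Set.ncard_le_ncard fun y hy => by
    by_cases e : y = 1
    exacts [.inl e, .inr (eq_inv_of_mul_eq_one_right (h y hy e))]
  have h2 := Set.ncard_insert_le (1 : H) {z⁻¹}
  rw [Set.ncard_singleton] at h2
  rw [← Nat.card_coe_set_eq] at h1
  exact absurd (h4.symm.trans_le (h1.trans h2)) (by norm_num)

theorem exists_e {H : Type*} [Group H] {Z W : Subgroup H} (h4 : Nat.card Z = 4)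
    (h16 : Nat.card W = 16) (x : H) : ∃ e ∈ W, e ∉ Z ∧ x * e ∉ Z := by
  by_contra! h
  have : Finite Z := Nat.finite_of_card_ne_zero (by omega)
  have f : (Z : Set H).Finite := Set.toFinite _
  have h1 : (W : Set H).ncard ≤ ((Z : Set H) ∪ (x⁻¹ * ·) '' Z).ncard :=
    Set.ncard_le_ncard (fun y hy => by
      by_cases e : y ∈ Z
      exacts [.inl e, .inr ⟨_, h y hy e, by simp⟩]) (f.union (f.image _))
  have h2 := Set.ncard_union_le (Z : Set H) ((x⁻¹ * ·) '' Z)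
  have h3 := Set.ncard_image_le (f := (x⁻¹ * ·)) f
  have h5 : (Z : Set H).ncard = 4 := h4
  have h6 : (W : Set H).ncard = 16 := h16
  omega

theorem nc : NCStmt.{u} := by
  intro Γ _ G _ _ φ t O z Z W hb wf h tr ne
  set U := W.map φ ⊔ zpowers t with hU
  have cW : ∀ a ∈ W, ∀ b ∈ W, a * b = b * a := fun a ha b hb =>
    H23.D2.comm_of_invs (wf.el a ha) (wf.el b hb) (wf.el _ (mul_mem ha hb))
  have mU : ∀ x ∈ U, ∃ w ∈ W, x = φ w ∨ x = t * φ w := fun x hx => by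
    rw [hU, sup_comm, H23.D2.mem_sup_zp h.tt (centralizer_le_normalizer _ (by
      rintro _ ⟨a, -, rfl⟩; exact h.AC a))] at hx
    obtain ⟨w, hw, e⟩ | ⟨w, hw, e⟩ := hx
    · exact ⟨w, hw, .inl e.symm⟩
    · exact ⟨w, hw, .inr (by rw [← h.AC, e, mul_assoc, h.tt, mul_one])⟩
  have sU : ∀ x ∈ U, x * x = 1 := fun x hx => by
    obtain ⟨w, hw, rfl | rfl⟩ := mU x hx
    · rw [← map_mul, wf.el w hw, map_one]
    · rw [mul_assoc, ← mul_assoc (φ w), h.AC, mul_assoc, ← map_mul, wf.el w hw, map_one, mul_one,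
        h.tt]
  have tU : t ∈ U := mem_sup_right (mem_zpowers t)
  have wU : ∀ w ∈ W, φ w ∈ U := fun w hw => mem_sup_left (mem_map_of_mem φ hw)
  letI : CommGroup U := { (inferInstance : Group U) with
    mul_comm := fun a b => Subtype.ext
      (H23.D2.comm_of_invs (sU _ a.2) (sU _ b.2) (sU _ (mul_mem a.2 b.2))) }
  have mm : ∀ (X : Subgroup Γ) (w : Γ) (hw : φ w ∈ U),
      (⟨φ w, hw⟩ : U) ∈ (X.map φ).subgroupOf U ↔ w ∈ X := fun X w hw =>
    mem_map_iff_mem h.inj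
  have ex : ∀ (X : Subgroup Γ) (v : U), v ∈ (X.map φ).subgroupOf U →
      ∃ w ∈ X, ∃ hw, v = ⟨φ w, hw⟩ := fun X v ⟨w, hw, e⟩ =>
    ⟨w, hw, by rw [e]; exact v.2, Subtype.ext e.symm⟩
  have n1 : ∀ (w : Γ) (hw : φ w ∈ U), (⟨φ w, hw⟩ : U) = 1 ↔ w = 1 := fun w hw =>
    Subtype.ext_iff.trans (map_eq_one_iff φ h.inj)
  have cZ : ∀ a ∈ Z, a ≠ 1 → IsConj z a := fun a ha a1 =>
    let ⟨n, _, e⟩ := wf.trZ a ha a1
    isConj_iff.2 ⟨n, e⟩
  have oZ : ∀ a ∈ Z, ¬ IsConj t (φ a) := fun a ha i => by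
    by_cases a1 : a = 1
    · rw [a1, map_one, isConj_one_left] at i
      exact h.t1 i
    · exact h.not_isConj hb wf.cm (i.trans (φ.map_isConj (cZ a ha a1)).symm)
  obtain ⟨y, yZ, y1, zy⟩ := exists_y wf.cZ z
  obtain ⟨e, eW, eZ, -⟩ := exists_e wf.cZ wf.card 1
  obtain ⟨e', eW', eZ', ee⟩ := exists_e wf.cZ wf.card e
  have cE : ∀ w ∈ W, w ∉ Z → IsConj e w := fun w hw h1 =>
    let ⟨n, _, e⟩ := wf.trW e eW eZ w hw h1
    isConj_iff.2 ⟨n, e⟩
  have iff : ∀ {a b : G}, IsConj a b → (IsConj t b ↔ IsConj t a) := fun i =>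
    ⟨fun k => k.trans i.symm, fun k => k.trans i⟩
  have cl : ∀ a, a * a = 1 → a ≠ 1 → IsConj z a ∨ IsConj e a := fun a a2 a1 => by
    obtain ⟨c, hc⟩ := wf.cov a a2
    have i : IsConj (c * a * c⁻¹) a := (isConj_iff.2 ⟨c, rfl⟩).symm
    by_cases h1 : c * a * c⁻¹ ∈ Z
    · exact .inl ((cZ _ h1 (by simpa using a1)).trans i)
    · exact .inr ((cE _ hc h1).trans i)
  have main := core (V := U) (fun v => Subtype.ext (sU _ v.2)) ((Z.map φ).subgroupOf U)
    ((W.map φ).subgroupOf U) ⟨t, tU⟩ ⟨φ z, wU _ (wf.ZW wf.zZ)⟩ ⟨φ y, wU _ (wf.ZW yZ)⟩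
    ⟨φ e, wU _ eW⟩ ⟨φ e', wU _ eW'⟩ U.normalizerMonoidHom.range (fun v => IsConj t v)
    (comap_mono (map_mono wf.ZW)) (fun ⟨a, _, k⟩ => h.tA hb a k) (fun v => by
      obtain ⟨w, hw, k | k⟩ := mU _ v.2
      · exact .inl ⟨w, hw, k.symm⟩
      · exact .inr ⟨w, hw, by
          change φ w = t * v
          rw [k, ← mul_assoc, h.tt, one_mul]⟩)
    (four_of_card (by
      rw [Nat.card_congr (subgroupOfEquivOfLe ((map_mono wf.ZW).trans le_sup_left)).toEquiv,
        card_map_of_injective h.inj, wf.cZ]) fun v _ => Subtype.ext (sU _ v.2))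
    ((mm _ _ _).2 wf.zZ) ((mm _ _ _).2 yZ) (mt (n1 _ _).1 wf.z1) (mt (n1 _ _).1 y1)
    (fun k => zy (h.inj (by rw [map_mul, map_one]; exact congrArg Subtype.val k)))
    ((mm _ _ _).2 eW) ((mm _ _ _).2 eW') (mt (mm _ _ _).1 eZ) (mt (mm _ _ _).1 eZ')
    (fun k => ee ((mem_map_iff_mem h.inj).1 (by rw [map_mul]; exact k)))
    (by
      rintro _ ⟨n, rfl⟩ v
      exact iff (isConj_iff.2 ⟨n, rfl⟩))
    (fun s hs => by
      obtain ⟨n, hn, k⟩ := tr s s.2 hs
      exact ⟨_, ⟨⟨n, hn⟩, rfl⟩, Subtype.ext k⟩)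
    (IsConj.refl t)
    (fun v hv => by
      obtain ⟨a, ha, _, rfl⟩ := ex _ v hv
      exact oZ a ha)
    (fun v hv v1 => by
      obtain ⟨a, ha, _, rfl⟩ := ex _ v hv
      exact iff (h.isConj_mul (cZ a ha (mt (n1 _ _).2 v1))))
    (fun v hv v1 => by
      obtain ⟨a, ha, _, rfl⟩ := ex _ v hv
      exact iff (φ.map_isConj (cE a ha (mt (mm _ _ _).2 v1))))
    (fun v hv v1 => by
      obtain ⟨a, ha, _, rfl⟩ := ex _ v hv
      exact iff (h.isConj_mul (cE a ha (mt (mm _ _ _).2 v1))))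
    (fun v hv => by
      obtain ⟨a, ha, _, rfl⟩ := ex _ v hv
      obtain ⟨r, r1, r2, r3⟩ := wf.mv e eW eZ a ha
      have rt : φ r * t * (φ r)⁻¹ = t := by rw [h.AC, mul_inv_cancel_right]
      have rw' : ∀ w ∈ W, φ r * φ w * (φ r)⁻¹ ∈ U := fun w hw => by
        rw [← map_inv, ← map_mul, ← map_mul]
        exact wU _ ((mul_mem_cancel_right hw).1 (wf.ZW (r2 w hw)))
      have hn : φ r ∈ N[U] := mem_normalizer_fintype fun x hx => by
        obtain ⟨w, hw, rfl | rfl⟩ := mU x hx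
        · exact rw' w hw
        · have := mul_mem tU (rw' w hw)
          rwa [← mul_assoc, ← mul_assoc, ← h.AC, mul_assoc (φ r)] at this
      refine ⟨_, ⟨⟨_, hn⟩, rfl⟩, Subtype.ext rt, fun b hb => ?_, fun w hw => ?_, Subtype.ext ?_⟩
      · obtain ⟨c, hc, _, rfl⟩ := ex _ b hb
        refine Subtype.ext ?_
        change φ r * φ c * (φ r)⁻¹ = φ c
        rw [← map_mul, r1 c hc, map_mul, mul_inv_cancel_right]
      · obtain ⟨c, hc, _, rfl⟩ := ex _ w hw
        exact ⟨_, r2 c hc, by simp only [map_mul, map_inv]; rfl⟩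
      · change φ r * φ e * (φ r)⁻¹ = φ e * φ a
        rw [← map_mul, ← map_inv, ← map_mul, r3, map_mul])
    (by
      rintro _ ⟨n, rfl⟩ nt h1 h2 v hv v1 nv w hw
      obtain ⟨a, ha, _, rfl⟩ := ex _ v hv
      obtain ⟨c, hc, _, rfl⟩ := ex _ w hw
      obtain ⟨α, hα⟩ := h.aut (c := n) (mul_inv_eq_iff_eq_mul.1 (congrArg Subtype.val nt))
      refine Subtype.ext ((hα c).symm.trans (congrArg φ (wf.fix α (fun b hb => h.inj ?_)
        (fun b hb => (mem_map_iff_mem h.inj).1 ?_) a ha (mt (mm _ _ _).2 v1) (h.inj ?_) c hc)))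
      · rw [hα]
        exact congrArg Subtype.val (h1 ⟨_, wU _ (wf.ZW hb)⟩ ((mm _ _ _).2 hb))
      · rw [map_mul, hα]
        exact h2 ⟨_, wU _ hb⟩ ((mm _ _ _).2 hb)
      · rw [hα]
        exact congrArg Subtype.val nv)
    (by
      obtain ⟨a, a2, a1, i | i⟩ := ne <;> rcases cl a a2 a1 with k | k
      · exact .inl (i.trans (h.isConj_mul k).symm)
      · exact .inr (.inr (i.trans (h.isConj_mul k).symm))
      · exact absurd (i.trans (φ.map_isConj k).symm) (oZ z wf.zZ)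
      · exact .inr (.inl (i.trans (φ.map_isConj k).symm)))
  refine ⟨fun a i => ?_, main.1⟩
  obtain ⟨g, k⟩ := isConj_iff.1 i
  have a2 : a * a = 1 := h.inj (by rw [map_mul, ← k, (h.conj g).tt, map_one])
  have a1 : a ≠ 1 := by
    rintro rfl
    exact oZ 1 (one_mem Z) i
  rcases cl a a2 a1 with k | k
  · exact oZ z wf.zZ (i.trans (φ.map_isConj k).symm)
  · exact main.2 (i.trans (φ.map_isConj k).symm)

end Cfsg.Agent.H75.S94Nc
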