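import Cfsg.Agent.H50.DerDefs

/-!
Index of the derangement subgroup: an element outside `D` which preserves an orbit of a subgroup
of `D` has its fixed point there, and the bound which follows from an invariant orbit.
-/

set_option autoImplicit false

namespace Cfsg.Agent.H75.DerFix

open MulAction Cfsg.Agent.H50.Der

universe u v

theorem mem_orb {G : Type u} {Ω : Type v} [Group G] [MulAction G Ω] {Z : Subgroup G} {a b : Ω} :
    b ∈ orbit Z a ↔ ∃ z ∈ Z, z • a = b :=
  ⟨fun ⟨z, h⟩ => ⟨z, z.2, h⟩, fun ⟨z, hz, h⟩ => ⟨⟨z, hz⟩, h⟩⟩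

theorem smul_orb {G : Type u} {Ω : Type v} [Group G] [MulAction G Ω] {Z : Subgroup G} {a b : Ω}
    {z : G} (hz : z ∈ Z) (hb : b ∈ orbit Z a) : z • b ∈ orbit Z a := by
  obtain ⟨y, hy, rfl⟩ := mem_orb.1 hb
  exact mem_orb.2 ⟨z * y, mul_mem hz hy, mul_smul _ _ _⟩

theorem fix : FixStmt.{u, v} := by
  intro G Ω _ _ _ _ D Z ω x C hZ hx hB
  have hs : ∀ b : orbit Z ω, ∃ c t : Z, x • (c : G) • b.1 = b.1 ∧ (t : G) • ω = b.1 := by
    intro b
    have inj : Function.Injective fun a : orbit Z ω => (⟨x • a.1, hB _ a.2⟩ : orbit Z ω) :=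
      fun a a' h => Subtype.ext (smul_left_cancel x (congrArg Subtype.val h))
    obtain ⟨a, ha⟩ := Finite.surjective_of_injective inj b
    obtain ⟨y, hy, e⟩ := mem_orb.1 a.2
    obtain ⟨t, ht, e'⟩ := mem_orb.1 b.2
    refine ⟨⟨y * t⁻¹, mul_mem hy (inv_mem ht)⟩, ⟨t, ht⟩, ?_, e'⟩
    have : (y * t⁻¹) • b.1 = a.1 := by rw [← e', ← mul_smul, inv_mul_cancel_right, e]
    exact (congrArg (x • ·) this).trans (congrArg Subtype.val ha)
  choose c t hc ht using hs
  let o : Z → orbit Z ω := fun z => ⟨z • ω, mem_orbit ω z⟩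
  have key : ∀ z : Z, (x * (c (o z) * z * (t (o z))⁻¹ : Z)) • (o z).1 = (o z).1 := fun z => by
    have : ((t (o z) : G))⁻¹ • (o z).1 = ω := by rw [← ht, inv_smul_smul]
    simp only [Subgroup.coe_mul, Subgroup.coe_inv, mul_smul, this]
    exact hc (o z)
  have inj : Function.Injective fun z : Z => c (o z) * z * (t (o z))⁻¹ := fun z z' h => by
    have h' : c (o z) * z * (t (o z))⁻¹ = c (o z') * z' * (t (o z'))⁻¹ := h
    have e : o z = o z' := Subtype.ext (C.uq _
      (fun hd => hx ((D.mul_mem_cancel_right (hZ (c (o z) * z * (t (o z))⁻¹).2)).1 hd)) _ _ (key z)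
      (by rw [h']; exact key z'))
    rw [e] at h'
    exact mul_left_cancel (mul_right_cancel h')
  obtain ⟨z, hz⟩ := Finite.surjective_of_injective inj 1
  have := key z
  rw [show c (o z) * z * (t (o z))⁻¹ = 1 from hz] at this
  exact ⟨_, (o z).2, by simpa using this⟩

theorem l1 (f : FixStmt.{u, v}) : L1Stmt.{u, v} := by
  intro G Ω _ _ _ _ D M Z ω C hM hω hZ hN h1 hne hmin
  have hu : ∀ c : G ⧸ D, ∃ u ∈ M, (u : G ⧸ D) = c := fun c => by
    obtain ⟨g, rfl⟩ := QuotientGroup.mk_surjective c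
    obtain ⟨u, hu, h⟩ := hM g
    exact ⟨u, hu, QuotientGroup.eq.2 h⟩
  choose u huM hu using hu
  have hd : ∀ c c', (u c)⁻¹ * u c' ∈ D → c = c' := fun c c' h => by
    rw [← hu c, ← hu c']; exact QuotientGroup.eq.2 h
  have hB : ∀ m ∈ M, ∀ b ∈ orbit Z ω, m • b ∈ orbit Z ω := fun m hm b hb => by
    obtain ⟨z, hz, rfl⟩ := mem_orb.1 hb
    exact mem_orb.2 ⟨_, hN m hm z hz, by rw [mul_smul, hω _ (inv_mem hm), mul_smul]⟩
  obtain ⟨b, hb, hbω⟩ := Set.exists_ne_of_one_lt_ncard h1 ω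
  obtain ⟨s, hs⟩ := (Set.ne_univ_iff_exists_notMem _).1 hne
  have A : D.index + 1 ≤ (orbit Z ω).ncard := by
    have := Nat.card_le_card_of_injective (fun c : Option (G ⧸ D) => (c.rec ⟨ω, mem_orbit_self ω⟩
      fun c => ⟨u c • b, hB _ (huM c) b hb⟩ : orbit Z ω)) ?_
    · rwa [Finite.card_option, Nat.card_coe_set_eq] at this
    have n1 : ∀ c, u c • b ≠ ω := fun c h =>
      hbω (by rw [← inv_smul_smul (u c) b, h, hω _ (inv_mem (huM c))])
    rintro (_ | c) (_ | c') h
    · rfl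
    · exact absurd (congrArg Subtype.val h).symm (n1 c')
    · exact absurd (congrArg Subtype.val h) (n1 c)
    · have e : u c • b = u c' • b := congrArg Subtype.val h
      by_contra hcc
      exact hbω (C.uq _ (fun hD => hcc (congrArg some (hd c c' hD))) _ _
        (by rw [mul_smul, ← e, inv_smul_smul]) (hω _ (mul_mem (inv_mem (huM c)) (huM c'))))
  have B : D.index * (orbit Z s).ncard + (orbit Z ω).ncard ≤ Nat.card Ω := by
    have := Nat.card_le_card_of_injective (Sum.elim (fun p : (G ⧸ D) × orbit Z s => u p.1 • p.2.1)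
      (Subtype.val : orbit Z ω → Ω)) ?_
    · rwa [Nat.card_sum, Nat.card_prod, Nat.card_coe_set_eq, Nat.card_coe_set_eq] at this
    refine Function.Injective.sumElim ?_ Subtype.val_injective ?_
    · rintro ⟨c, a⟩ ⟨c', a'⟩ (h : u c • a.1 = u c' • a'.1)
      obtain rfl : c = c' := by
        obtain ⟨z, hz, e⟩ := mem_orb.1 a.2
        obtain ⟨z', hz', e'⟩ := mem_orb.1 a'.2
        by_contra hcc
        have hx : z⁻¹ * ((u c)⁻¹ * u c') * z' ∉ D := fun hD => hcc (hd c c'
          ((D.mul_mem_cancel_left (inv_mem (hZ hz))).1 ((D.mul_mem_cancel_right (hZ hz')).1 hD)))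
        obtain ⟨y, hy, e2⟩ := f G Ω D Z ω _ C hZ hx fun y hy => by
          rw [mul_smul, mul_smul]
          exact smul_orb (inv_mem hz) (hB _ (mul_mem (inv_mem (huM c)) (huM c')) _ (smul_orb hz' hy))
        refine hs (C.uq _ hx y s e2 ?_ ▸ hy)
        rw [mul_smul, mul_smul, mul_smul, e', ← h, inv_smul_smul, ← e, inv_smul_smul]
      exact Prod.ext rfl (Subtype.ext (smul_left_cancel _ h))
    · rintro ⟨c, a⟩ y (h : u c • a.1 = y.1)
      obtain ⟨z, hz, e⟩ := mem_orb.1 a.2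
      have := smul_orb (inv_mem hz) (hB _ (inv_mem (huM c)) _ y.2)
      rw [← h, inv_smul_smul, ← e, inv_smul_smul] at this
      exact hs this
  have := hmin s
  nlinarith

end Cfsg.Agent.H75.DerFix
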