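import Cfsg.Agent.H96.D4Defs

/-! Essential subgroups inside `E` with a pure central element outside `Y` do not exist. -/

set_option autoImplicit false

namespace Cfsg.Agent.H75.D4E

open Cfsg.Agent.H97 Cfsg.Agent.H96.VB Cfsg.Agent.H96.CP Cfsg.Agent.H96.DF Subgroup
open scoped commutatorElement

universe u

variable {F K : Type u} [Field F] [Field K] [Algebra F K] {C : Tri F K}

/-- the commutator form on `J' / W` -/
def omB (C : Tri F K) : LinearMap.BilinForm F (K × K) :=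
  LinearMap.mk₂ F (fun v w => C.T (v.1 * w.2) - C.T (w.1 * v.2))
    (fun a b c => by simp only [Prod.fst_add, Prod.snd_add, add_mul, mul_add, map_add]; ring)
    (fun c a b => by
      simp only [Prod.smul_fst, Prod.smul_snd, smul_mul_assoc, mul_smul_comm, map_smul, smul_eq_mul]
      ring)
    (fun a b c => by simp only [Prod.fst_add, Prod.snd_add, add_mul, mul_add, map_add]; ring)
    (fun c a b => by
      simp only [Prod.smul_fst, Prod.smul_snd, smul_mul_assoc, mul_smul_comm, map_smul, smul_eq_mul]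
      ring)

theorem omB_apply (v w : K × K) : omB C v w = C.T (v.1 * w.2) - C.T (w.1 * v.2) := rfl

theorem omB_ker [Finite K] : LinearMap.ker (omB C) = ⊥ := by
  rw [eq_bot_iff]
  intro v hv
  have h : ∀ w, omB C v w = 0 := fun w => by rw [LinearMap.mem_ker.1 hv]; rfl
  have h1 : v.1 = 0 := C.T_nd fun b => by simpa [omB_apply] using h (0, b)
  have h2 : v.2 = 0 := C.T_nd fun b => by simpa [omB_apply, mul_comm] using h (b, 0)
  exact Prod.ext h1 h2

/-- The perp of two vectors is not isotropic. -/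
theorem not_iso [Finite K] (v w : K × K)
    (h : ∀ c d, omB C v c = 0 → omB C w c = 0 → omB C v d = 0 → omB C w d = 0 → omB C c d = 0) :
    False := by
  haveI : Finite F := Finite.of_injective _ (algebraMap F K).injective
  haveI : Module.Finite F K := Module.Finite.of_finite
  have e : ∀ X : Submodule F (K × K),
      Module.finrank F X + Module.finrank F ((omB C).orthogonal X) = 6 := fun X => by
    rw [LinearMap.BilinForm.finrank_add_finrank_orthogonal', omB_ker, inf_bot_eq, finrank_bot,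
      Module.finrank_prod, C.finrank]
  set S : Submodule F (K × K) := Submodule.span F {v, w}
  have h1 : Module.finrank F S ≤ 2 := by
    classical
    have := finrank_span_finset_le_card (R := F) ({v, w} : Finset (K × K))
    rw [Set.finrank, Finset.coe_pair] at this
    exact this.trans Finset.card_le_two
  have hv : v ∈ S := Submodule.subset_span (by simp)
  have hw : w ∈ S := Submodule.subset_span (by simp)
  have h2 : (omB C).orthogonal S ≤ (omB C).orthogonal ((omB C).orthogonal S) :=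
    fun d hd c hc => h c d (hc v hv) (hc w hw) (hd v hv) (hd w hw)
  have h3 := Submodule.finrank_mono h2
  have h4 := e S
  have h5 := e ((omB C).orthogonal S)
  omega

/-- the class in `J' / W` -/
def bar (g : U C) : K × K := (g.t, g.x)

/-- a lift from `J' / W` -/
def lift (C : Tri F K) (v : K × K) : U C := ⟨v.1, 0, 0, v.2, 0, 0⟩

theorem lift_mem (v : K × K) : lift C v ∈ J' C := ⟨rfl, rfl⟩

theorem comm_J' {g h : U C} (hg : g ∈ J' C) (hh : h ∈ J' C) :
    ⁅g, h⁆ = xa C (omB C (bar g) (bar h)) := by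
  obtain ⟨h1, h2⟩ := hg
  obtain ⟨h3, h4⟩ := hh
  ext <;> simp [xa, bar, omB_apply, comm_y, comm_x, comm_a, comm_z_E h1 h3, h1, h2, h3, h4]

theorem xa_mem (a : F) : xa C a ∈ Z6 C := ⟨rfl, rfl, rfl, rfl, rfl⟩

theorem eq_xa {g : U C} (hg : g ∈ Z6 C) : g = xa C g.a := by
  obtain ⟨h1, h2, h3, h4, h5⟩ := hg
  ext <;> simp [xa, *]

theorem xa_eq_one {a : F} : xa C a = 1 ↔ a = 0 :=
  ⟨fun h => congrArg U.a h, fun h => h ▸ rfl⟩

theorem comm_Z6 {g z : U C} (hg : g.u = 0) (hz : z ∈ Z6 C) : ⁅g, z⁆ = 1 := by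
  obtain ⟨h1, h2, h3, h4, h5⟩ := hz
  ext <;> simp [comm_y, comm_x, comm_a, comm_z_E hg h2, *]

theorem comm_mem_Z6 {g h : U C} (hg : g ∈ J' C) (hh : h ∈ J' C) : ⁅g, h⁆ ∈ Z6 C :=
  comm_J' hg hh ▸ xa_mem _

/-- The centralizer in `E` of a pure element of `J'` lies in `J'`. -/
theorem cent_J' {g h : U C} (hg : g ∈ J' C) (ht : g.t ≠ 0) (h2 : (2 : F) = 0 → C.T (g.t * g.x) = 0)
    (hh : h.u = 0) (e : ⁅h, g⁆ = 1) : h ∈ J' C := by
  refine ⟨hh, ?_⟩
  have e1 := congrArg U.x e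
  have e2 := congrArg U.z e
  rw [comm_x] at e1
  rw [comm_z_E hh hg.1] at e2
  simp only [hg.1, hg.2, hh, Tri.cr_zero, zero_smul, add_zero, sub_zero, zero_sub, U.one_x,
    neg_eq_zero, U.one_z, Tri.sh_zero, mul_zero, map_zero] at e1 e2
  obtain ⟨c, hc, k⟩ := C.cr_eq_zero ht e1
  by_contra hy
  have c0 : c ≠ 0 := fun k => hy (by rw [hc, k, zero_smul])
  have k2 : (2 : F) = 0 := (mul_eq_zero.1 k).resolve_right c0
  rw [e1, hc, C.sh_smul, mul_smul_comm, smul_mul_assoc, map_smul, map_smul, h2 k2, C.T_mul_sh] at e2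
  have k3 : c ^ 2 * C.N g.t = 0 := by
    simp only [smul_eq_mul, neg_zero, zero_mul, map_zero] at e2
    linear_combination e2 - c ^ 2 * C.N g.t * k2
  simp [c0, ht] at k3

theorem core [Finite K] {p : ℕ} {P : Subgroup (U C)} {A B : Subgroup (MulAut P)} (h : Cd p P A B)
    (hE : P ≤ E C) {g : U C} (hg : Ce P g) (hy : g.y = 0) (ht : g.t ≠ 0)
    (h2 : (2 : F) = 0 → C.T (g.t * g.x) = 0) : False := by
  have gJ : g ∈ J' C := ⟨hE hg.1, hy⟩
  have cm : ∀ {a b : U C}, ⁅a, b⁆ = 1 ↔ a * b = b * a := commutatorElement_eq_one_iff_mul_comm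
  have PJ : P ≤ J' C := fun x hx => cent_J' gJ ht h2 (hE hx) (cm.2 (hg.2 x hx).symm)
  have ZP : ∀ z ∈ Z6 C, ∀ x ∈ P, z * x = x * z := fun z hz x hx => (cm.1 (comm_Z6 (hE hx) hz)).symm
  have Z6P : Z6 C ≤ P := fun z hz => h.cen z (ZP z hz)
  -- `P` is the centralizer of its centre in `J'`
  have cz : ∀ c ∈ J' C, (∀ z ∈ P, (∀ x ∈ P, x * z = z * x) → ⁅c, z⁆ = 1) → c ∈ P := fun c hc e =>
    h.chain [P ⊓ centralizer (P : Set (U C))] (by simpa using Iv.of_ch Ch.self.cent) c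
      ⟨fun x hx => ⟨Z6P (comm_mem_Z6 hc (PJ hx)), fun k hk =>
        (ZP _ (comm_mem_Z6 hc (PJ hx)) k hk).symm⟩, fun z hz => e z hz.1 hz.2⟩
  have sc : ∀ x ∈ P, ∀ s : F, lift C (s • bar x) ∈ P := fun x hx s =>
    cz _ (lift_mem _) fun z hz e => by
      have k := cm.2 (e x hx)
      rw [comm_J' (PJ hx) (PJ hz), xa_eq_one] at k
      rw [comm_J' (lift_mem _) (PJ hz), xa_eq_one]
      change omB C (s • bar x) (bar z) = 0
      rw [map_smul, LinearMap.smul_apply, k, smul_zero]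
  -- commutators fill `Z6`
  have fill : ∀ c ∈ J' C, ∀ x ∈ P, ⁅c, x⁆ ≠ 1 → ∀ z ∈ Z6 C, ∃ k ∈ P, ⁅c, k⁆ = z :=
    fun c hc x hx e z hz => by
      rw [comm_J' hc (PJ hx), Ne, xa_eq_one] at e
      refine ⟨_, sc x hx (z.a * (omB C (bar c) (bar x))⁻¹), ?_⟩
      rw [comm_J' hc (lift_mem _), eq_xa hz]
      change xa C (omB C (bar c) ((_ : F) • bar x)) = _
      rw [map_smul, smul_eq_mul, mul_assoc, inv_mul_cancel₀ e, mul_one]
      rfl
  -- `Z6` is not invariant
  have ni : ¬ Iv A (Z6 C) := fun iv => by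
    obtain ⟨b, hb⟩ := C.T_onto ht 1
    have k : lift C (0, b) ∈ P := h.chain [Z6 C] (by simpa using ⟨Z6P, iv⟩) _
      ⟨fun x hx => comm_mem_Z6 (lift_mem _) (PJ hx), fun z hz => comm_Z6 rfl hz⟩
    have e := cm.2 (hg.2 _ k)
    rw [comm_J' gJ (lift_mem _), xa_eq_one] at e
    simp [omB_apply, bar, lift, hb] at e
  -- `P` is abelian
  have ab : ∀ c ∈ P, ∀ x ∈ P, ⁅c, x⁆ = 1 := fun c hc x hx => by
    by_contra e
    refine ni fun α _ z _ hz => ?_
    obtain ⟨k, hk, rfl⟩ := fill c (PJ hc) x hx e z hz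
    rw [ext_map_comm α hc hk]
    exact comm_mem_Z6 (PJ (ext_mem α hc)) (PJ (ext_mem α hk))
  have NE : ∀ s ∈ normalizer (P : Set (U C)), s.u = 0 := fun s hs => by
    have k := (PJ ((mem_normalizer_iff.1 hs g).1 hg.1)).2
    have e : (s * g * s⁻¹).y = ⁅s, g⁆.y := by
      rw [show s * g * s⁻¹ = ⁅s, g⁆ * g by rw [commutatorElement_def]; group]
      simp [hy, gJ.1]
    rw [e, comm_y, gJ.1, zero_smul, zero_sub, neg_eq_zero, smul_eq_zero] at k
    exact k.resolve_right ht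
  simp only [Iv, not_forall] at ni
  obtain ⟨α, hα, z, hzP, hz, nz⟩ := ni
  have vP := ext_mem α hzP
  obtain ⟨γ, -, e1, e2⟩ := h.sylT α⁻¹ (inv_mem hα) _ vP fun s hs => by
    rw [ext_inv_ext]; exact cm.1 (comm_Z6 (NE s hs) hz)
  rw [ext_inv_ext] at e1
  set v := ext α z
  have g'P := ext_mem γ⁻¹ hg.1
  -- elements of `J'` centralizing `v` and `γ⁻¹ g` lie in `P`
  have key : ∀ c ∈ J' C, ⁅v, c⁆ = 1 → ⁅ext γ⁻¹ g, c⁆ = 1 → c ∈ P := fun c hc k1 k2 => by
    by_contra nc
    obtain ⟨β, hβ⟩ := exists_cj (P := P) (s := c)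
      (mem_normalizer_of_comm fun x hx => Z6P (comm_mem_Z6 hc (PJ hx)))
    obtain ⟨c', hc'⟩ := e2 β c hβ (cm.1 k1).symm
    have tr : ∀ x ∈ P, ⁅c', ext γ x⁆ = ext γ ⁅c, x⁆ := fun x hx => by
      have k := hc' _ (ext_mem γ hx)
      rw [ext_mul, ext_mul, ext_inv_ext, hβ x hx] at k
      have m : c * x * c⁻¹ ∈ P := hβ x hx ▸ ext_mem β hx
      rw [commutatorElement_def, commutatorElement_def, ← k, ext_map_mul γ m (inv_mem hx),
        ext_map_inv γ hx]
    have c'J : c' ∈ J' C := cent_J' gJ ht h2 (NE _ hc'.mem_normalizer) (by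
      have k := tr _ g'P
      rwa [ext_ext_inv, cm.2 (cm.1 k2).symm, ext_map_one] at k)
    obtain ⟨x, hx, nx⟩ : ∃ x ∈ P, ⁅c, x⁆ ≠ 1 := by
      by_contra! k
      exact nc (h.cen c fun x hx => cm.1 (k x hx))
    have mp : Set.MapsTo (ext γ) (Z6 C) (Z6 C) := fun w hw => by
      obtain ⟨k, hk, rfl⟩ := fill c hc x hx nx w hw
      rw [← tr k hk]
      exact comm_mem_Z6 c'J (PJ (ext_mem γ hk))
    have sj := ((Set.toFinite _).injOn_iff_bijOn_of_mapsTo mp).1 (ext_injective γ).injOn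
    obtain ⟨w, hw, e⟩ := sj.surjOn hz
    exact nz (ext_injective γ (e.trans e1.symm) ▸ hw)
  refine not_iso (C := C) (bar v) (bar (ext γ⁻¹ g)) fun c d c1 c2 d1 d2 => ?_
  have m : ∀ c, omB C (bar v) c = 0 → omB C (bar (ext γ⁻¹ g)) c = 0 → lift C c ∈ P :=
    fun c c1 c2 => key _ (lift_mem _) (by rw [comm_J' (PJ vP) (lift_mem _), xa_eq_one]; exact c1)
      (by rw [comm_J' (PJ g'P) (lift_mem _), xa_eq_one]; exact c2)
  have k := ab _ (m c c1 c2) _ (m d d1 d2)
  rwa [comm_J' (lift_mem _) (lift_mem _), xa_eq_one] at k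

theorem e2 [Finite K] {p : ℕ} [Fact p.Prime] [CharP F p] : E2Stmt C p := by
  intro P hq hE hQ g hg hY hNP h2
  have p2 : (2 : F) = 0 → g * g = 1 := fun k => h2 <| by
    have := (CharP.cast_eq_zero_iff F p 2).1 (by exact_mod_cast k)
    exact (Nat.prime_dvd_prime_iff_eq Fact.out Nat.prime_two).1 this
  have gu : g.u = 0 := hE hg.1
  by_cases ht : g.t = 0
  · have hy : g.y ≠ 0 := fun k => hY (mem_Y.2 ⟨ht, gu, k⟩)
    obtain ⟨h, hP, hh⟩ := SetLike.not_le_iff_exists.1 hQ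
    have hu : h.u = 0 := hE hP
    have e := commutatorElement_eq_one_iff_mul_comm.2 (hg.2 h hP).symm
    have e1 := congrArg U.x e
    have e2 := congrArg U.a e
    rw [comm_x] at e1
    rw [comm_a] at e2
    simp only [ht, gu, hu, Tri.zero_cr, zero_smul, add_zero, sub_zero, U.one_x, U.one_a, zero_mul,
      mul_zero, map_zero, Tri.sh_zero] at e1 e2
    obtain ⟨c, hc, k⟩ := C.cr_eq_zero hy (C.cr_comm _ _ ▸ e1)
    have c0 : c ≠ 0 := fun k => hh (mem_Q.2 (by rw [hc, k, zero_smul]))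
    have k2 : (2 : F) = 0 := (mul_eq_zero.1 k).resolve_right c0
    have e3 := sq_z (mem_Q.2 ht)
    rw [p2 k2, U.one_z, k2] at e3
    simp only [qf, br, gu, mul_zero, zero_mul, zero_add, zero_sub] at e3
    rw [hc, C.sh_smul, smul_mul_assoc, smul_mul_assoc, map_smul, map_smul, mul_comm (C.sh _),
      C.T_mul_sh, mul_comm g.y] at e2
    have k3 : c ^ 2 * C.N g.y = 0 := by
      simp only [smul_eq_mul] at e2
      linear_combination e2 - c ^ 2 * C.N g.y * k2 - c * e3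
    simp [c0, hy] at k3
  · obtain ⟨c, hc⟩ : ∃ c : F, g.y = c • g.t := by
      simp only [NP, gu, true_and, not_forall] at hNP
      obtain ⟨c, d, e, k⟩ := hNP
      have d0 : d ≠ 0 := fun d0 => k ⟨by simpa [d0, ht] using e, d0⟩
      refine ⟨-(d⁻¹ * c), ?_⟩
      rw [neg_smul, mul_smul, eq_neg_of_add_eq_zero_left e, smul_neg, neg_neg, inv_smul_smul₀ d0]
    obtain ⟨R, hR, e⟩ := hq.conj (xu C c)
    obtain ⟨A, B, h⟩ := hR.ex
    have m : ∀ x ∈ R, (xu C c)⁻¹ * x * xu C c ∈ P := fun x hx => (e _).1 (by simpa [mul_assoc] using hx)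
    have ty : (xu C c * g * (xu C c)⁻¹).y = 0 := by simp [xu, hc, gu]
    have tu : (xu C c * g * (xu C c)⁻¹).u = 0 := by simp [xu, gu]
    refine core h (fun x hx => ?_) (g := xu C c * g * (xu C c)⁻¹) ⟨(e g).2 hg.1, fun x hx => ?_⟩ ty
      (by simpa using ht) fun k => ?_
    · simpa [mem_E] using hE (m x hx)
    · have := hg.2 _ (m x hx)
      calc _ = xu C c * (g * ((xu C c)⁻¹ * x * xu C c)) * (xu C c)⁻¹ := by group
        _ = _ := by rw [this]; group
    · have e1 : (xu C c * g * (xu C c)⁻¹) * (xu C c * g * (xu C c)⁻¹) = 1 := by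
        calc _ = xu C c * (g * g) * (xu C c)⁻¹ := by group
          _ = 1 := by rw [p2 k]; group
      generalize xu C c * g * (xu C c)⁻¹ = g' at ty tu e1
      have e2 := congrArg U.a e1
      rw [U.mul_a, ty, tu, U.one_a] at e2
      simp only [mul_zero, map_zero, add_zero] at e2
      linear_combination e2 - g'.a * k

end Cfsg.Agent.H75.D4E
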