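import Mathlib
import Cfsg.Agent.H37.FkTF
import Cfsg.Agent.H40.RootSL2

/-! Frames of commuting root `SL₂`'s in Chevalley groups of odd characteristic. -/

set_option autoImplicit false

namespace Cfsg.Agent.H75.FkChev

open Equiv Subgroup Cfsg.Lie Cfsg.Agent.H37 Cfsg.Agent.H34 Cfsg.Agent.H34.Split Cfsg.Agent.H40
open Cfsg.Agent.H37.FK

theorem maps_trans {K : Type*} [Group K] {g h : K} {A B E : Subgroup K} (h1 : Maps g A B)
    (h2 : Maps h B E) : Maps (h * g) A E := fun x => by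
  rw [h1, h2]; simp [mul_assoc]

theorem maps_symm {K : Type*} [Group K] {g : K} {A B : Subgroup K} (h1 : Maps g A B) :
    Maps g⁻¹ B A := fun x => by
  rw [h1]; simp [mul_assoc]

variable {D : ChevalleyDatum} (C : Cert D) (F : Type) [Field F]

/-- the root `SL₂` -/
noncomputable def φ (r : Fin D.nroots) : SL2 F →* D.group F := (rk C F r.2).hom

/-- `n_β` multiplied along a list -/
noncomputable def nL (L : List (Fin D.nroots)) : D.group F :=
  (L.map fun b : Fin D.nroots => C.ng F b 1).prod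

/-- reflections multiplied along a list -/
noncomputable def wL (L : List (Fin D.nroots)) : Perm (Fin D.nroots) := (L.map C.R.τ).prod

/-- `r` is long -/
def Lg (r : Fin D.nroots) : Prop := ∀ k, 2 ≤ C.R.pair r k → k = r

/-- strongly orthogonal -/
def SO (r s : Fin D.nroots) : Prop := C.R.pair r s = 0 ∧ (Lg C r ∨ Lg C s)

/-- what makes `φ r` injective -/
def Gd (r : Fin D.nroots) : Prop := C.R.Pos r ∧ ∃ s, C.R.pair r s = 1

variable {C F}

theorem φ_up (r : Fin D.nroots) (t : F) : φ C F r (up t) = C.xg F r t := (rk C F r.2).hom_X t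

theorem φ_lo (r : Fin D.nroots) (t : F) : φ C F r (lo t) = C.xg F (C.R.neg r) t := by
  rw [C.neg_val]; exact (rk C F r.2).hom_Y t

theorem φ_W (r : Fin D.nroots) : φ C F r slW = C.ng F r 1 := (rk C F r.2).hom_W

theorem φ_neg_one (r : Fin D.nroots) : φ C F r (-1) = C.hg F r (-1) := rk_neg_one r.2

theorem φ_dg (r : Fin D.nroots) (t : Fˣ) : φ C F r (dg t) = C.hg F r t := by
  show RankOneRel.phi _ _ _ = _
  rw [RankOneRel.phi, if_pos (by simp [dg])]
  simp [Cert.xg_zero, dg]; rfl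

theorem Gd.inj {r : Fin D.nroots} (h : Gd C r) : Function.Injective (φ C F r) :=
  let ⟨s, e⟩ := h.2
  rk_injective ((C.pos_iff r).1 h.1) s.2 ((pair_eq C r s).symm.trans e)

theorem range_le {r : Fin D.nroots} {K : Subgroup (D.group F)} (h1 : ∀ t, C.xg F r t ∈ K)
    (h2 : ∀ t, C.xg F (C.R.neg r) t ∈ K) : (φ C F r).range ≤ K :=
  rk_range_le r.2 h1 (by rw [← C.neg_val]; exact h2)

theorem range_neg (r : Fin D.nroots) : (φ C F (C.R.neg r)).range = (φ C F r).range :=
  le_antisymm (range_le (fun t => ⟨_, φ_lo r t⟩) fun t => ⟨_, by rw [C.R.neg_neg, φ_up]⟩)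
    (range_le (fun t => ⟨_, by rw [φ_lo, C.R.neg_neg]⟩) fun t => ⟨_, φ_up _ t⟩)

theorem conj_J {n : D.group F} (hn : n ∈ (C.split F).N) (r : Fin D.nroots) {x : D.group F}
    (hx : x ∈ (φ C F r).range) : n * x * n⁻¹ ∈ (φ C F ((C.split F).ν n r)).range := by
  obtain ⟨a, -, ha⟩ := Cert.conj_xg hn
  refine range_le (K := (φ C F ((C.split F).ν n r)).range.comap (MulAut.conj n).toMonoidHom)
    (fun t => ⟨_, (φ_up _ _).trans (ha r t).symm⟩)
    (fun t => ⟨lo (a (C.R.neg r) * t), (φ_lo _ _).trans ?_⟩) hx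
  rw [← C.R.W_neg ((C.split F).ν_mem n hn)]
  exact (ha _ t).symm

theorem maps_J {n : D.group F} (hn : n ∈ (C.split F).N) {r s : Fin D.nroots}
    (h : (C.split F).ν n r = s ∨ (C.split F).ν n r = C.R.neg s) :
    Maps n (φ C F r).range (φ C F s).range := fun x => by
  have e : (φ C F ((C.split F).ν n r)).range = (φ C F s).range := by
    rcases h with h | h <;> rw [h]
    exact range_neg s
  refine e ▸ ⟨conj_J hn r, fun hx => ?_⟩
  simpa [ν_inv hn, mul_assoc] using conj_J (inv_mem hn) _ hx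

theorem Lg.neg {r : Fin D.nroots} (h : Lg C r) : Lg C (C.R.neg r) := fun k hk => by
  rw [C.R.pair_neg_left, ← C.R.pair_neg_right] at hk
  exact C.R.neg_eq_iff.1 (h _ hk)

theorem SO.symm {r s : Fin D.nroots} (h : SO C r s) : SO C s r :=
  ⟨(C.R.pair_eq_zero_iff r s).1 h.1, h.2.symm⟩

theorem SO.neg {r s : Fin D.nroots} (h : SO C r s) : SO C (C.R.neg r) s :=
  ⟨by rw [C.R.pair_neg_left, h.1, neg_zero], h.2.imp_left Lg.neg⟩

theorem SO.xg {r s : Fin D.nroots} (h : SO C r s) (t u : F) :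
    Commute (C.xg F r t) (C.xg F s u) := by
  have h0 := h.1
  have h1 := h.symm.1
  refine Cert.commute_xg ⟨r.2, s.2, fun e => ?_, fun e => ?_, List.eq_nil_iff_forall_not_mem.2
    fun c hc => ?_⟩ t u
  · rw [Fin.ext e, C.R.pair_self] at h0; omega
  · rw [← C.neg_val] at e
    rw [Fin.ext e, C.R.pair_neg_right, C.R.pair_self] at h0; omega
  obtain ⟨a1, a2, a3, a4⟩ := C.commTerms_spec r.2 s.2 c hc
  have e := C.rc_of_cartan (k := ⟨c.1, a1⟩) a4
  have e1 : C.R.pair r ⟨c.1, a1⟩ = c.2.2.1 * C.R.pair r r + c.2.2.2 * C.R.pair r s := by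
    simp only [RS.pair, e, map_add, map_smul, smul_eq_mul]
  have e2 : C.R.pair s ⟨c.1, a1⟩ = c.2.2.1 * C.R.pair s r + c.2.2.2 * C.R.pair s s := by
    simp only [RS.pair, e, map_add, map_smul, smul_eq_mul]
  rw [C.R.pair_self, h0] at e1
  rw [C.R.pair_self, h1] at e2
  rcases h.2 with l | l
  · rw [l ⟨c.1, a1⟩ (by omega), h1] at e2; omega
  · rw [l ⟨c.1, a1⟩ (by omega), h0] at e1; omega

theorem SO.comm_xg {r s : Fin D.nroots} (h : SO C r s) (t : F) {y : D.group F}
    (hy : y ∈ (φ C F s).range) : Commute (C.xg F r t) y :=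
  (mem_centralizer_singleton_iff.1 (range_le (K := centralizer {C.xg F r t})
    (fun u => mem_centralizer_singleton_iff.2 (h.xg t u).symm.eq)
    (fun u => mem_centralizer_singleton_iff.2 (h.symm.neg.xg u t).eq) hy)).symm

theorem SO.comm {r s : Fin D.nroots} (h : SO C r s) {x y : D.group F} (hx : x ∈ (φ C F r).range)
    (hy : y ∈ (φ C F s).range) : Commute x y :=
  mem_centralizer_singleton_iff.1 (range_le (K := centralizer {y})
    (fun t => mem_centralizer_singleton_iff.2 (h.comm_xg t hy).eq)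
    (fun t => mem_centralizer_singleton_iff.2 (h.neg.comm_xg t hy).eq) hx)

theorem z_mem_H (r : Fin D.nroots) : φ C F r (-1) ∈ (C.split F).H := by
  rw [φ_neg_one]; exact Cert.hg_mem_H r.2 (neg_ne_zero.2 one_ne_zero)

theorem z_conj (r s : Fin D.nroots) (t : F) :
    φ C F r (-1) * C.xg F s t * (φ C F r (-1))⁻¹ = C.xg F s ((-1) ^ C.R.pair r s * t) := by
  rw [φ_neg_one, Cert.hg_conj r.2 s.2 (neg_ne_zero.2 one_ne_zero), pair_eq]

theorem z_conj_odd {r s : Fin D.nroots} (h : Odd (C.R.pair r s)) (t : F) :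
    φ C F r (-1) * C.xg F s t * (φ C F r (-1))⁻¹ = C.xg F s (-t) := by
  rw [z_conj, h.neg_one_zpow, neg_one_mul]

theorem z_conj_even {r s : Fin D.nroots} (h : Even (C.R.pair r s)) (t : F) :
    φ C F r (-1) * C.xg F s t * (φ C F r (-1))⁻¹ = C.xg F s t := by
  rw [z_conj, h.neg_one_zpow, one_mul]

theorem xg_neg_eq (h2 : (2 : F) ≠ 0) {s : Fin D.nroots} {t : F} (h : C.xg F s (-t) = C.xg F s t) :
    t = 0 := mul_left_cancel₀ h2 (by linear_combination - Cert.xg_injective s.2 h)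

theorem z_ne (h2 : (2 : F) ≠ 0) {r s k : Fin D.nroots} (h : C.R.pair r k % 2 ≠ C.R.pair s k % 2) :
    φ C F r (-1) ≠ φ C F s (-1) := fun e => by
  rcases Int.even_or_odd (C.R.pair r k) with a | a <;>
    rcases Int.even_or_odd (C.R.pair s k) with b | b
  · exact h ((Int.even_iff.1 a).trans (Int.even_iff.1 b).symm)
  · exact one_ne_zero (xg_neg_eq h2 ((z_conj_odd b 1).symm.trans (e ▸ z_conj_even a 1)))
  · exact one_ne_zero (xg_neg_eq h2 ((z_conj_odd a 1).symm.trans (e ▸ z_conj_even b 1)))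
  · exact h ((Int.odd_iff.1 a).trans (Int.odd_iff.1 b).symm)

theorem z_eq {r s : Fin D.nroots} (h : ∀ i, C.R.co r i % 2 = C.R.co s i % 2) :
    φ C F r (-1) = φ C F s (-1) := by
  rw [φ_neg_one, φ_neg_one]
  refine (Cert.hg_eq_tg r.2 (-1)).trans (Eq.trans (congrArg (C.tg F) (funext fun i => ?_))
    (Cert.hg_eq_tg s.2 (-1)).symm)
  exact neg_one_zpow_congr (by rw [← C.co_eq, ← C.co_eq, h])

/-- the centraliser of `z_r` normalises `J_r` -/
theorem cz [Finite F] (h2 : (2 : F) ≠ 0) {r : Fin D.nroots}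
    (h1 : ∀ s, Even (C.R.pair r s) → s = r ∨ s = C.R.neg r ∨ SO C s r)
    (h3 : ∀ s, Even (C.R.pair r s) → s = r ∨ s = C.R.neg r ∨ D.isLong s ≠ D.isLong r ∨
      ∃ k, Even (C.R.pair r k) ∧ k ≠ s ∧ k ≠ C.R.neg s ∧ C.R.pair k s ≠ 0) :
    centralizer {φ C F r (-1)} ≤ normalizer ((φ C F r).range : Set (D.group F)) := by
  set z := φ C F r (-1) with hz
  have zH : z ∈ (C.split F).H := z_mem_H r
  have cen : ∀ g, g ∈ centralizer {z} ↔ z * g * z⁻¹ = g := fun g => by
    rw [mem_centralizer_singleton_iff, mul_inv_eq_iff_eq_mul, eq_comm]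
  have hX : ∀ s, ∀ x ∈ (C.split F).X s, z * x * z⁻¹ = x →
      x ∈ normalizer ((φ C F r).range : Set (D.group F)) := fun s x hx e => by
    obtain ⟨t, rfl⟩ := Cert.mem_X.1 hx
    rcases Int.even_or_odd (C.R.pair r s) with a | a
    · rcases h1 s a with rfl | rfl | b
      · exact le_normalizer ⟨_, φ_up _ t⟩
      · exact le_normalizer ⟨_, φ_lo _ t⟩
      · exact centralizer_le_normalizer _ fun y hy => (b.comm_xg t hy).eq.symm
    · rw [xg_neg_eq h2 ((z_conj_odd a t).symm.trans e), Cert.xg_zero]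
      exact one_mem _
  have hU : ∀ u ∈ (C.split F).Up, z * u * z⁻¹ = u →
      u ∈ normalizer ((φ C F r).range : Set (D.group F)) := fun u hu e => by
    obtain ⟨L, hL, hLA⟩ := Filt.exists_list (Set.toFinite {s | C.S.pos s})
    obtain ⟨y, y1, -, rfl⟩ := (filt (P := C.split F) C.S.cl_pos).exists_prod hL hLA
      ((Split.U_eq_gen _).le hu)
    refine list_prod_mem fun x hx => ?_
    obtain ⟨s, hs, rfl⟩ := List.mem_map.1 hx
    refine hX s _ (y1 s) (Split.prod_inj (P := C.split F) (y := fun s => z * y s * z⁻¹) hL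
      (fun s hs => (hLA s).1 hs) (fun s _ => ?_) (fun s _ => y1 s) ?_ s hs)
    · simpa [ν_H zH] using (C.split F).conj z (H_le_N zH) s _ (y1 s)
    · rw [← e]
      exact ((map_list_prod (MulAut.conj z) (L.map y)).trans (by rw [List.map_map]; rfl)).symm
  intro g hg
  obtain ⟨a, ha, n, hn, u, hu, rfl⟩ := (C.split F).bruhat g
  have e : (C.split F).ν (z * n * z⁻¹) = (C.split F).ν n := by
    rw [(C.split F).ν_mul _ (mul_mem (H_le_N zH) hn) _ (H_le_N (inv_mem zH)),
      (C.split F).ν_mul _ (H_le_N zH) _ hn, ν_H zH, ν_H (inv_mem zH), one_mul, mul_one]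
  obtain ⟨e1, e2, e3⟩ := bruhat_unique (conj_U_H zH ha) (cj1 _ (H_le_N zH) hn)
    (e ▸ conj_U_H zH hu) ha hn hu (by rw [← (cen _).1 hg]; group)
  refine mul_mem (mul_mem (hU a ha e1) ?_) (hU u (Uinv_le_Up hu) e3)
  have hw := (C.split F).ν_mem n hn
  obtain ⟨c, -, hc⟩ := Cert.conj_xg hn
  have pres : ∀ s, Even (C.R.pair r ((C.split F).ν n s)) ↔ Even (C.R.pair r s) := fun s => by
    have k : z * C.xg F ((C.split F).ν n s) (c s * 1) * z⁻¹ = n * (z * C.xg F s 1 * z⁻¹) * n⁻¹ := by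
      rw [← hc]
      conv_rhs => rw [← e2]
      group
    refine ⟨fun a => by_contra fun b => ?_, fun a => by_contra fun b => ?_⟩
    · rw [z_conj_even a, z_conj_odd (Int.not_even_iff_odd.1 b), hc, mul_neg] at k
      exact (c s).ne_zero (by simpa using xg_neg_eq h2 k.symm)
    · rw [z_conj_even a, z_conj_odd (Int.not_even_iff_odd.1 b), hc] at k
      exact (c s).ne_zero (by simpa using xg_neg_eq h2 k)
  refine mem_normalizer_iff.2 (maps_J hn ?_)
  rcases h3 _ ((pres r).2 (by rw [C.R.pair_self]; exact even_two)) with b | b | b | ⟨k, k1, k2, k3, k4⟩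
  · exact .inl b
  · exact .inr b
  · exact absurd (isLong_W C hw r) b
  obtain ⟨s, rfl⟩ := ((C.split F).ν n).surjective k
  rcases h1 s ((pres s).1 k1) with rfl | rfl | b
  · exact absurd rfl k2
  · exact absurd (C.R.W_neg hw r) k3
  · exact absurd ((C.R.pair_W hw s r).trans b.1) k4

theorem nL_mem (L : List (Fin D.nroots)) : nL C F L ∈ (C.split F).N :=
  list_prod_mem fun x hx => by
    obtain ⟨b, -, rfl⟩ := List.mem_map.1 hx
    exact Cert.ng_mem_N b.2 one_ne_zero

theorem ν_nL (L : List (Fin D.nroots)) : (C.split F).ν (nL C F L) = wL C L := by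
  induction L with
  | nil => exact ν_one
  | cons b L ih =>
    rw [wL, List.map_cons, List.prod_cons, ← wL, ← ih, ← ν_ng_τ (F := F) b one_ne_zero]
    exact (C.split F).ν_mul _ (Cert.ng_mem_N b.2 one_ne_zero) _ (nL_mem L)

theorem rc_wL {L : List (Fin D.nroots)} (hL : L.Pairwise fun a b => C.R.pair a b = 0)
    (s : Fin D.nroots) :
    C.R.rc (wL C L s) = C.R.rc s - (L.map fun b => C.R.pair b s • C.R.rc b).sum := by
  induction L with
  | nil => simp [wL]
  | cons b L ih =>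
    obtain ⟨h1, h2⟩ := List.pairwise_cons.1 hL
    have e : C.R.pair b (wL C L s) = C.R.pair b s := by
      rw [RS.pair, ih h2, map_sub, map_list_sum, List.map_map, List.sum_eq_zero, sub_zero, RS.pair]
      intro x hx
      obtain ⟨c, hc, rfl⟩ := List.mem_map.1 hx
      simp only [Function.comp, map_smul, ← RS.pair.eq_def, h1 c hc, smul_zero]
    rw [wL, List.map_cons, List.prod_cons, ← wL, Perm.mul_apply, C.R.rc_τ, e, ih h2, List.map_cons,
      List.sum_cons]
    abel

theorem wL_eq {L : List (Fin D.nroots)} (hL : L.Pairwise fun a b => C.R.pair a b = 0)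
    {s k : Fin D.nroots}
    (h : ∀ j, C.R.wt s j - (L.map fun b => C.R.pair b s * C.R.wt b j).sum = C.R.wt k j) :
    wL C L s = k := by
  refine C.R.rc_inj (sub_eq_zero.1 (C.wtv_inj _ fun j => ?_))
  rw [map_sub, rc_wL hL, map_sub, map_list_sum, List.map_map, sub_eq_zero]
  refine Eq.trans ?_ (h j)
  congr 2
  exact List.map_congr_left fun b _ => by
    simp only [Function.comp, map_smul, smul_eq_mul, RS.wt]

theorem two_W (r : Fin D.nroots) : Two (φ C F r slW) := ⟨2, by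
  rw [← map_pow, show (slW : SL2 F) ^ 2 ^ 2 = 1 by
    ext i j; fin_cases i <;> fin_cases j <;> simp [pow_succ, coe_slW], map_one]⟩

theorem two_z (r : Fin D.nroots) : Two (φ C F r (-1)) := ⟨1, by rw [← map_pow]; simp⟩

theorem reach_step [Fintype F] (hF : Odd (Fintype.card F)) {A : Set (D.group F)}
    {u t : Fin D.nroots} (ht : Gd C t) (h : Odd (C.R.pair u t)) (hu : Reach A (φ C F u (-1)))
    (a : SL2 F) (ha : Two (φ C F t a)) : Reach A (φ C F t a) := by
  have h2 := two_ne_zero_of_odd (F := F) (by rwa [Nat.card_eq_fintype_card])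
  refine .sl2 hF _ (by rw [(MonoidHom.ker_eq_bot_iff _).2 ht.inj]; exact bot_le) hu
    (mem_normalizer_iff.2 (maps_J (H_le_N (z_mem_H u)) (.inl (by rw [ν_H (z_mem_H u)]; rfl))))
    ⟨up 1, fun e => one_ne_zero (xg_neg_eq (C := C) (s := t) h2 ?_)⟩ a ha
  rw [← z_conj_odd h, ← φ_up, e, mul_inv_cancel_right]

theorem reach_nL {A : Set (D.group F)} {L : List (Fin D.nroots)} (hL : L.Pairwise (SO C))
    (h : ∀ b ∈ L, Reach A (φ C F b slW)) : Reach A (nL C F L) := by
  induction L with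
  | nil => exact .one
  | cons b L ih =>
    obtain ⟨h1, h2⟩ := List.pairwise_cons.1 hL
    rw [nL, List.map_cons, List.prod_cons, ← φ_W]
    refine .mul (h b List.mem_cons_self) (ih h2 fun c hc => h c (List.mem_cons_of_mem _ hc))
      (Commute.list_prod_right _ _ fun x hx => ?_)
    obtain ⟨c, hc, rfl⟩ := List.mem_map.1 hx
    exact (h1 c hc).comm ⟨_, rfl⟩ ⟨_, φ_W c⟩

theorem hasD8 (h2 : (2 : F) ≠ 0) {u t : Fin D.nroots} (ht : Gd C t) (h : Odd (C.R.pair u t)) :
    HasD8 (D.group F) := by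
  have zz : φ C F u (-1) * φ C F u (-1) = 1 := by rw [← map_mul]; simp
  have ww : (slW : SL2 F) * slW = -1 := by
    ext i j; fin_cases i <;> fin_cases j <;> simp [coe_slW]
  have e : φ C F u (-1) * φ C F t slW * (φ C F u (-1))⁻¹ = (φ C F t slW)⁻¹ := by
    have h' : Odd (C.R.pair u (C.R.neg t)) := by rw [C.R.pair_neg_right]; exact h.neg
    rw [φ_W, Cert.ng_eq, ← C.neg_val, ← conj_mul, ← conj_mul, z_conj_odd h, z_conj_odd h',
      Cert.xg_neg, Cert.xg_neg (t := -1⁻¹)]
    group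
  rw [inv_eq_of_mul_eq_one_right zz] at e
  refine ⟨_, φ C F u (-1) * φ C F t slW, zz, by rw [← mul_assoc, e, inv_mul_cancel], ?_, fun k => ?_⟩
  · rw [← mul_assoc, zz, one_mul]; exact two_W t
  · rw [← mul_assoc, zz, one_mul, e, eq_inv_iff_mul_eq_one, ← map_mul, ww, ← map_one (φ C F t)] at k
    have := congrArg (fun g : SL2 F => g 0 0) (ht.inj k)
    simp only [Matrix.SpecialLinearGroup.coe_neg, Matrix.SpecialLinearGroup.coe_one,
      Matrix.neg_apply, Matrix.one_apply_eq] at this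
    exact h2 (by linear_combination - this)

theorem acts_tg (c : Fin D.rank → Fˣ) (r : Fin D.nroots) :
    ActsAs (C.tg F c) (φ C F r) (torChar D c r) := by
  refine ⟨fun t => by rw [φ_up, φ_up, Cert.tg_conj c r.2], fun t => ?_⟩
  rw [φ_lo, φ_lo, Cert.tg_conj c (C.R.neg r).2, C.neg_val,
    (isRootCharacter_torChar C.V c).1 r r.2]

theorem hom_of {k : ℕ} (a : Fin k → Fin D.nroots)
    (hm : ∀ μ : Fin D.rank → Bool, (∀ i, Even (∑ l, if μ l then C.R.rc (a i) l else 0)) →
      ∃ S : Finset (Fin k), ∀ l, (∑ i ∈ S, C.R.pair (a i) (C.R.simple l)) % 2 = if μ l then 1 else 0)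
    (h2 : (2 : F) ≠ 0) : ∀ h ∈ (C.split F).H, h * h = 1 → (∀ i, ActsAs h (φ C F (a i)) 1) →
      h ∈ closure (Set.range fun i => φ C F (a i) (-1)) := by
  classical
  intro h hh sq act
  obtain ⟨c, rfl⟩ := Cert.mem_H_iff.1 hh
  rw [← map_mul, Cert.tg_eq_one_iff] at sq
  have n1 : (-1 : Fˣ) ≠ 1 := fun e => h2 (by
    have : (-1 : F) = 1 := congrArg Units.val e
    linear_combination - this)
  have e1 : ∀ l : Fin D.rank, torChar D c (D.simple l) =
      (-1) ^ (if decide (torChar D c (D.simple l) ≠ 1) then 1 else 0 : ℤ) := fun l => by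
    have := sq l
    rw [Cert.torChar_mul, Units.ext_iff, Units.val_mul, Units.val_one, mul_self_eq_one_iff] at this
    by_cases e : torChar D c (D.simple l) = 1
    · simp [e]
    · rw [if_pos (by simpa using e), zpow_one]
      exact Units.ext (this.resolve_left fun k => e (Units.ext k))
  obtain ⟨S, hS⟩ := hm (fun l => decide (torChar D c (D.simple l) ≠ 1)) fun i => by
    have e2 := (acts_tg (C := C) c (a i)).1 1
    rw [(act i).1 1, φ_up, φ_up, mul_one, mul_one] at e2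
    have e3 : (1 : Fˣ) = torChar D c (a i) := Units.ext (Cert.xg_injective (a i).2 e2)
    rw [C.toRootCert.torChar_eq, Finset.prod_congr rfl fun l _ => by rw [e1 l, ← zpow_mul],
      prod_zpow_sum] at e3
    by_contra k
    rw [Int.not_even_iff_odd] at k
    simp only [ite_mul, one_mul, zero_mul] at e3
    rw [k.neg_one_zpow] at e3
    exact n1 e3.symm
  have e4 : C.tg F c = C.tg F (∏ i ∈ S, fun j => (-1) ^ co D (a i) j) := by
    refine Cert.tg_eq_iff.2 fun l => ?_
    rw [e1 l, ← neg_one_zpow_congr ((hS l).trans (by split_ifs <;> rfl)), ← prod_zpow_sum]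
    simp only [torChar, Finset.prod_apply, ← Finset.prod_zpow, ← zpow_mul]
    rw [Finset.prod_comm]
    refine Finset.prod_congr rfl fun i _ => ?_
    rw [prod_zpow_sum, RS.pair_def]
    congr 1
    exact Finset.sum_congr rfl fun j _ => by rw [C.co_eq, C.wt_eq, C.simple_val]
  rw [e4]
  refine Subgroup.prod_mem ((closure (Set.range fun i => φ C F (a i) (-1))).comap (C.tg F))
    fun i _ => subset_closure ⟨i, ?_⟩
  exact (φ_neg_one _).trans (Cert.hg_eq_tg (a i).2 (-1))

theorem acts_hg {s r : Fin D.nroots} (h : C.R.pair s r = 1) (d : Fˣ) :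
    ActsAs (C.hg F s d) (φ C F r) d := by
  refine ⟨fun t => ?_, fun t => ?_⟩
  · rw [φ_up, φ_up, Cert.hg_conj s.2 r.2 d.ne_zero, ← pair_eq C s r, h, zpow_one]
  · have e : C.R.pair s (C.R.neg r) = -1 := by rw [C.R.pair_neg_right, h]
    rw [pair_eq] at e
    rw [φ_lo, φ_lo, Cert.hg_conj s.2 (C.R.neg r).2 d.ne_zero, e, zpow_neg_one,
      Units.val_inv_eq_inv_val]

/-- The frame of a family of strongly orthogonal roots. -/
theorem hasFrame [Fintype F] (hF : Odd (Fintype.card F)) {k m : ℕ} (hk : 0 < k)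
    (a : Fin k → Fin D.nroots) (L : Fin m → List (Fin D.nroots)) (σ : Fin m → Perm (Fin k))
    (so : ∀ i j, i ≠ j → SO C (a i) (a j))
    (hm : ∀ μ : Fin D.rank → Bool, (∀ i, Even (∑ l, if μ l then C.R.rc (a i) l else 0)) →
      ∃ S : Finset (Fin k), ∀ l, (∑ i ∈ S, C.R.pair (a i) (C.R.simple l)) % 2 = if μ l then 1 else 0)
    (hL : ∀ j, (L j).Pairwise (SO C))
    (hσ : ∀ j i, wL C (L j) (a i) = a (σ j i) ∨ wL C (L j) (a i) = C.R.neg (a (σ j i)))
    (rch : ∀ i t, (t ∈ Set.range a ∨ ∃ j, t ∈ L j) →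
      Gd C t ∧ ∃ u, Gd C u ∧ Odd (C.R.pair (a i) u) ∧ Odd (C.R.pair u t))
    (f7 : ∀ i, ∃ s, C.R.pair s (a i) = 1)
    (two : IsPGroup 2 (closure (Set.range σ)))
    (f3 : ∀ π : Perm (Fin k), Odd (orderOf π) →
      (∀ x ∈ closure (Set.range σ), π * x * π⁻¹ ∈ closure (Set.range σ)) → π = 1)
    (card : ∀ e : ℕ, 2 ^ e ∣ Nat.card (D.group F) → 2 ^ e ∣ Nat.card (D.diagonalSubgroup F) *
      (Fintype.card F + 1) ^ k * Nat.card (closure (Set.range σ)))
    (cases : (Function.Injective (fun i => φ C F (a i) (-1)) ∧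
        (∀ i j, ∃ g, Maps g (φ C F (a i)).range (φ C F (a j)).range) ∧
        ∃ i, centralizer {φ C F (a i) (-1)} ≤ normalizer ((φ C F (a i)).range : Set (D.group F))) ∨
      ∃ z, (∀ i, φ C F (a i) (-1) = z) ∧
        ∀ i, centralizer {z} ≤ normalizer ((φ C F (a i)).range : Set (D.group F))) :
    HasFrame (D.group F) := by
  have h2 := two_ne_zero_of_odd (F := F) (by rwa [Nat.card_eq_fintype_card])
  have rc : ∀ i t, (t ∈ Set.range a ∨ ∃ j, t ∈ L j) → ∀ b, Two (φ C F t b) →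
      Reach {x | x ∈ (φ C F (a i)).range ∧ Two x} (φ C F t b) := fun i t ht => by
    obtain ⟨h1, u, u1, u2, u3⟩ := rch i t ht
    exact reach_step hF h1 u3 (reach_step hF u1 u2
      (.base (show _ ∧ _ from ⟨⟨_, rfl⟩, two_z _⟩)) _ (two_z u))
  refine ⟨{
    ι := Fin k, F := fun _ => F, odd := fun _ => hF, φ := fun i => φ C F (a i)
    inj := fun i => (rch i _ (.inl ⟨i, rfl⟩)).1.inj
    comm := fun i j h x y => (so i j h).comm ⟨x, rfl⟩ ⟨y, rfl⟩
    H := (C.split F).H, hab := Cert.H_comm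
    hact := fun h hh i => by
      obtain ⟨c, rfl⟩ := Cert.mem_H_iff.1 hh
      exact ⟨_, acts_tg c (a i)⟩
    hdg := fun i t => by rw [φ_dg]; exact Cert.hg_mem_H (a i).2 t.ne_zero
    hom := hom_of a hm h2
    κ := Fin m, n := fun j => nL C F (L j), σ := σ
    nJ := fun j i => maps_J (nL_mem _) (by rw [ν_nL]; exact hσ j i)
    nH := fun j => mem_normalizer_iff.2 fun h => ⟨conj_mem_H (nL_mem (L j)), fun e => by
      simpa [mul_assoc] using conj_mem_H' (nL_mem (L j)) e⟩
    two := two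
    card := fun e he => by simpa [Cert.card_H] using card e he },
    ⟨⟨⟨0, hk⟩⟩, cases, fun i j => rc i _ (.inl ⟨j, rfl⟩),
      fun i j => reach_nL (hL j) fun b hb => rc i b (.inr ⟨j, hb⟩) _ (two_W b), f3, ?_⟩, fun i => ?_⟩
  · obtain ⟨h1, u, -, -, u3⟩ := rch ⟨0, hk⟩ _ (.inl ⟨⟨0, hk⟩, rfl⟩)
    exact hasD8 h2 h1 u3
  · obtain ⟨s, hs⟩ := f7 i
    obtain ⟨d, hd⟩ := FiniteField.exists_nonsquare (F := F) (fun e => h2 (by
      have := ringChar.charP F
      rw [e] at this
      exact CharP.cast_eq_zero F 2))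
    have d0 : d ≠ 0 := by rintro rfl; exact hd ⟨0, by simp⟩
    exact ⟨C.hg F s d, Cert.hg_mem_H s.2 d0, Units.mk0 d d0, hd, acts_hg hs (Units.mk0 d d0)⟩

end Cfsg.Agent.H75.FkChev
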