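import Mathlib
import Cfsg.Agent.H75.FkChev
import Cfsg.Agent.H40.Tab

/-! Frames in simply laced Chevalley groups from numerical certificates. -/

set_option autoImplicit false

namespace Cfsg.Agent.H75.FkChev

open Equiv Subgroup Cfsg.Lie Cfsg.Agent.H37 Cfsg.Agent.H34 Cfsg.Agent.H34.Split Cfsg.Agent.H40
open Cfsg.Agent.H37.FK

/-- the numerical conditions on a frame `a` with words `L` inducing `s` -/
def FC (E : Tab) (k m : ℕ) (a : ℕ → ℕ) (L : ℕ → List ℕ) (s : Fin m → Fin k → Fin k)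
    (wit U V : List ℕ) : Prop :=
  (∀ i < E.l, ∀ r < E.n, 2 ≤ E.ca i r → r = E.si i) ∧
  (∀ i < k, a i < E.n) ∧ (∀ j < m, ∀ b ∈ L j, b < E.n) ∧
  (∀ i < k, ∀ j < k, i ≠ j → E.pair (a i) (a j) = 0 ∧
    ∃ l < E.l, E.pair (a i) (E.si l) % 2 ≠ E.pair (a j) (E.si l) % 2) ∧
  (∀ i < k, ∀ j < E.l, sumLt (fun l => E.cr (a i) l * E.ca j (E.si l)) E.l = E.ca j (a i)) ∧
  (∀ μ < 2 ^ E.l, (∀ i < k, sumLt (fun l => cond (μ.testBit l) (E.cr (a i) l) 0) E.l % 2 = 0) →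
    ∃ S ∈ wit, ∀ l < E.l, sumLt (fun i => cond (Nat.testBit S i) (E.pair (a i) (E.si l)) 0) k % 2 =
      cond (μ.testBit l) 1 0) ∧
  (∀ j < m, (L j).Pairwise fun b c => E.pair b c = 0) ∧
  (∀ j : Fin m, ∀ i : Fin k, ∃ e ∈ [1, -1], ∀ t < E.l,
    E.ca t (a i) - ((L j).map fun b => E.pair b (a i) * E.ca t b).sum = e * E.ca t (a (s j i))) ∧
  (∀ t ∈ (List.range k).map a ++ (List.range m).flatMap L, E.Pos t ∧ ∀ i < k, ∃ u ∈ U,
    u < E.n ∧ E.Pos u ∧ E.pair (a i) u % 2 = 1 ∧ E.pair u t % 2 = 1) ∧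
  ∀ r < E.n, E.pair (a 0) r = 0 → ∃ t ∈ V, t < E.n ∧ E.pair (a 0) t = 0 ∧ E.pair t r % 2 = 1

set_option synthInstance.maxSize 4000 in
noncomputable instance decFC (E : Tab) (k m : ℕ) (a : ℕ → ℕ) (L : ℕ → List ℕ)
    (s : Fin m → Fin k → Fin k) (wit U V : List ℕ) : Decidable (FC E k m a L s wit U V) := by
  unfold FC; infer_instance

variable {D : ChevalleyDatum} {C : Cert D} {F : Type} [Field F]

theorem lg_all (h : ∀ i < D.rank, ∀ r < D.nroots, 2 ≤ D.cartan i r → r = D.simple i)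
    (r : Fin D.nroots) : Lg C r := fun s hs => by
  obtain ⟨w, hw, i, rfl⟩ := C.R.exists_W_simple r
  obtain ⟨s, rfl⟩ := w.surjective s
  rw [C.R.pair_W hw, C.R.pair_simple_left, C.wt_eq] at hs
  exact congrArg w (Fin.ext ((h i i.2 s s.2 hs).trans (C.simple_val i).symm))

theorem Lg.cases {r : Fin D.nroots} (h : Lg C r) (s : Fin D.nroots) :
    s = r ∨ s = C.R.neg r ∨ (-1 ≤ C.R.pair r s ∧ C.R.pair r s ≤ 1) := by
  by_contra k
  simp only [not_or, not_and_or, not_le] at k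
  rcases k.2.2 with e | e
  · exact k.2.1 (h.neg s (by rw [C.R.pair_neg_left]; omega))
  · exact k.1 (h s e)

theorem odd_pair (lg : ∀ r, Lg C r) {r s : Fin D.nroots} (h : C.R.pair r s % 2 = 1) :
    (C.R.pair r s = 1 ∧ C.R.pair s r = 1) ∨ (C.R.pair r s = -1 ∧ C.R.pair s r = -1) := by
  have h1 := C.R.pair_pos_iff r s
  have h2 := C.R.pair_eq_zero_iff r s
  rcases (lg r).cases s with rfl | rfl | a
  · rw [C.R.pair_self] at h; omega
  · rw [C.R.pair_neg_right, C.R.pair_self] at h; omega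
  rcases (lg s).cases r with rfl | rfl | b
  · rw [C.R.pair_self] at h; omega
  · rw [C.R.pair_neg_left, C.R.pair_self] at h; omega
  omega

theorem one_of_odd (lg : ∀ r, Lg C r) {r s : Fin D.nroots} (h : C.R.pair r s % 2 = 1) :
    (∃ t, C.R.pair r t = 1) ∧ (∃ t, C.R.pair s t = 1) ∧ ∃ t, C.R.pair t r = 1 := by
  rcases odd_pair lg h with ⟨a, b⟩ | ⟨a, b⟩
  · exact ⟨⟨_, a⟩, ⟨_, b⟩, _, b⟩
  · exact ⟨⟨C.R.neg s, by rw [C.R.pair_neg_right, a]; rfl⟩,
      ⟨C.R.neg r, by rw [C.R.pair_neg_right, b]; rfl⟩, C.R.neg s, by rw [C.R.pair_neg_left, b]; rfl⟩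

theorem maps_of_odd (lg : ∀ r, Lg C r) {r s : Fin D.nroots} (h : C.R.pair r s % 2 = 1) :
    ∃ g, Maps g (φ C F r).range (φ C F s).range := by
  refine ⟨_, maps_J (nL_mem [r, s]) ?_⟩
  have e : C.R.rc (wL C [r, s] r) = C.R.rc r - C.R.pair s r • C.R.rc s -
      (2 - C.R.pair s r * C.R.pair r s) • C.R.rc r := by
    simp only [wL, List.map_cons, List.map_nil, List.prod_cons, List.prod_nil, mul_one,
      Perm.mul_apply]
    rw [C.R.rc_τ, RS.pair, C.R.rc_τ, map_sub, map_smul, ← RS.pair, ← RS.pair, C.R.pair_self,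
      smul_eq_mul]
  rw [ν_nL]
  rcases odd_pair lg h with ⟨a, b⟩ | ⟨a, b⟩
  · exact .inr (C.R.rc_inj (by rw [e, a, b, C.R.rc_neg]; simp))
  · exact .inl (C.R.rc_inj (by rw [e, a, b]; simp))

theorem hasFrame_of (C : Cert D) [Fintype F] (hF : Odd (Fintype.card F)) {k m : ℕ} (hk : 0 < k)
    {a : ℕ → ℕ} {L : ℕ → List ℕ} (σ : Fin m → Perm (Fin k)) {wit U V : List ℕ}
    (h : FC (tabOf D) k m a L (fun j i => σ j i) wit U V)
    (two : IsPGroup 2 (closure (Set.range σ)))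
    (f3 : ∀ π : Perm (Fin k), Odd (orderOf π) →
      (∀ x ∈ closure (Set.range σ), π * x * π⁻¹ ∈ closure (Set.range σ)) → π = 1)
    (card : ∀ e : ℕ, 2 ^ e ∣ Nat.card (D.group F) → 2 ^ e ∣ Nat.card (D.diagonalSubgroup F) *
      (Fintype.card F + 1) ^ k * Nat.card (closure (Set.range σ))) : HasFrame (D.group F) := by
  simp only [FC, show (tabOf D).l = D.rank from rfl, show (tabOf D).n = D.nroots from rfl,
    show (tabOf D).ca = D.cartan from rfl, show (tabOf D).cr = co D from rfl,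
    show (tabOf D).si = D.simple from rfl, tab_pair] at h
  obtain ⟨h1, h2, h3, h4, h5, h6, h7, h8, h9, h10⟩ := h
  have lg : ∀ r, Lg C r := lg_all h1
  have t2 := two_ne_zero_of_odd (F := F) (by rwa [Nat.card_eq_fintype_card])
  have pe := pair_eq C
  let A : Fin k → Fin D.nroots := fun i => ⟨a i, h2 i i.2⟩
  let B : Fin m → List (Fin D.nroots) := fun j => (L j).pmap Fin.mk (h3 j j.2)
  have hB : ∀ j, (B j).map Fin.val = L j := fun j => by
    rw [List.map_pmap]; simp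
  have p0 : ∀ j, (B j).Pairwise fun b c => C.R.pair b c = 0 := fun j => by
    have := h7 j j.2
    rw [← hB, List.pairwise_map] at this
    exact this.imp fun e => (pe _ _).trans e
  have rc : ∀ i, C.R.rc (A i) = C.R.co (A i) := fun i => by
    refine (sub_eq_zero.1 (C.wtv_inj _ fun j => ?_)).symm
    rw [map_sub, sub_eq_zero, ← RS.wt, C.wt_eq, RS.wtv_apply]
    refine Eq.trans ?_ (h5 i i.2 j j.2)
    rw [sumLt_eq]
    refine Eq.trans ?_ (Finset.sum_range _).symm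
    exact Finset.sum_congr rfl fun l _ => by
      rw [C.co_eq, ← C.R.wt_simple, C.wt_eq, C.simple_val]
  have rch : ∀ i t, (t ∈ Set.range A ∨ ∃ j, t ∈ B j) → C.R.Pos t ∧
      ∃ u, C.R.Pos u ∧ C.R.pair (A i) u % 2 = 1 ∧ C.R.pair u t % 2 = 1 := fun i t ht => by
    obtain ⟨p, q⟩ := h9 t (by
      rcases ht with ⟨j, rfl⟩ | ⟨j, hj⟩
      · exact List.mem_append_left _ (List.mem_map.2 ⟨j, List.mem_range.2 j.2, rfl⟩)
      · exact List.mem_append_right _ (List.mem_flatMap.2 ⟨j, List.mem_range.2 j.2,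
          hB j ▸ List.mem_map_of_mem hj⟩))
    obtain ⟨u, -, u1, u2, u3, u4⟩ := q i i.2
    exact ⟨(tab_pos C t).1 p, ⟨u, u1⟩, (tab_pos C ⟨u, u1⟩).1 u2, by rw [pe]; exact u3,
      by rw [pe]; exact u4⟩
  refine hasFrame (C := C) hF hk A B σ
    (fun i j e => ⟨(pe _ _).trans (h4 i i.2 j j.2 (Fin.val_ne_of_ne e)).1, .inl (lg _)⟩)
    (fun μ hμ => ?_) (fun j => (p0 j).imp fun e => ⟨e, .inl (lg _)⟩) (fun j i => ?_)
    (fun i t ht => ?_) (fun i => ?_) two f3 card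
    (.inl ⟨fun i j e => by_contra fun n => ?_, fun i j => ?_, ⟨0, hk⟩, cz t2 (fun s hs => ?_)
      fun s hs => ?_⟩)
  · have tb : ∀ l : Fin D.rank, (Nat.ofBits μ).testBit l = μ l := fun l =>
      Nat.testBit_ofBits_lt _ _ l.2
    obtain ⟨S, -, hS⟩ := h6 _ (Nat.ofBits_lt_two_pow μ) fun i hi => by
      refine Eq.trans (congrArg (· % 2) ?_) (Int.even_iff.1 (hμ ⟨i, hi⟩))
      rw [sumLt_eq]
      refine (Finset.sum_range _).trans (Finset.sum_congr rfl fun l _ => ?_)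
      rw [tb, rc, C.co_eq, Bool.cond_eq_ite]
    refine ⟨Finset.univ.filter fun i => S.testBit i, fun l => ?_⟩
    have := hS l l.2
    rw [tb, Bool.cond_eq_ite, sumLt_eq, Finset.sum_range] at this
    rw [← this, Finset.sum_filter]
    exact congrArg (· % 2) (Finset.sum_congr rfl fun i _ => by
      rw [Bool.cond_eq_ite, pe, C.simple_val])
  · obtain ⟨e, he, q⟩ := h8 j i
    have q' : ∀ t, C.R.wt (A i) t - ((B j).map fun b => C.R.pair b (A i) * C.R.wt b t).sum =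
        e * C.R.wt (A (σ j i)) t := fun t => by
      have := q t t.2
      rw [← hB, List.map_map] at this
      simpa only [C.wt_eq, pe, Function.comp_def] using this
    rcases List.mem_pair.1 he with rfl | rfl
    · exact .inl (wL_eq (p0 j) fun t => (q' t).trans (one_mul _))
    · exact .inr (wL_eq (p0 j) fun t => (q' t).trans (by rw [C.R.wt_neg, neg_one_mul]))
  · obtain ⟨p, u, u1, u2, u3⟩ := rch i t ht
    exact ⟨⟨p, (one_of_odd lg u3).2.1⟩, u, ⟨u1, (one_of_odd lg u3).1⟩, Int.odd_iff.2 u2,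
      Int.odd_iff.2 u3⟩
  · obtain ⟨-, u, -, u2, -⟩ := rch i _ (.inl ⟨i, rfl⟩)
    exact (one_of_odd lg u2).2.2
  · obtain ⟨l, l1, l2⟩ := (h4 i i.2 j j.2 (Fin.val_ne_of_ne n)).2
    exact z_ne t2 (k := C.R.simple ⟨l, l1⟩) (by rw [pe, pe, C.simple_val]; exact l2) e
  · obtain ⟨-, u, -, u2, u3⟩ := rch i _ (.inl ⟨j, rfl⟩)
    obtain ⟨g, hg⟩ := maps_of_odd (F := F) lg u2
    obtain ⟨g', hg'⟩ := maps_of_odd (F := F) lg u3
    exact ⟨_, maps_trans hg hg'⟩
  · refine ((lg _).cases s).imp_right (Or.imp_right fun e => SO.symm ⟨?_, .inl (lg _)⟩)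
    have := Int.even_iff.1 hs
    omega
  · refine ((lg _).cases s).imp_right (Or.imp_right fun e => .inr ?_)
    have := Int.even_iff.1 hs
    obtain ⟨t, -, t1, t2, t3⟩ := h10 s s.2 ((pe (A ⟨0, hk⟩) s).symm.trans (by omega))
    have t3 : C.R.pair ⟨t, t1⟩ s % 2 = 1 := by rw [pe]; exact t3
    refine ⟨⟨t, t1⟩, by rw [pe]; exact t2 ▸ Even.zero, fun e => ?_, fun e => ?_, by omega⟩
    · rw [e, C.R.pair_self] at t3; omega
    · rw [e, C.R.pair_neg_left, C.R.pair_self] at t3; omega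

end Cfsg.Agent.H75.FkChev
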