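import Mathlib
import Cfsg.Agent.H75.FkLaced
import Cfsg.Agent.H75.FkPerm
import Cfsg.Agent.H37.TE7
import Cfsg.Agent.H37.TE8
import Cfsg.Agent.S1035
import Cfsg.Agent.S1064
import Cfsg.Agent.S1065

/-! The frames of `E₇(q)` and `E₈(q)`, `q` odd. -/

set_option autoImplicit false
set_option maxRecDepth 100000

namespace Cfsg.Agent.H75.FkE7

open Equiv Subgroup Cfsg.Lie Cfsg.Agent.H37 Cfsg.Agent.H34 Cfsg.Agent.H40
open Cfsg.Agent.H37.FK Cfsg.Agent.H75.FkChev Cfsg.Agent.H75.FkPerm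

/-- the `2`-part of `q ^ n - 1` is `c` times that of `q ^ 2 - 1` -/
def TP (q n c : ℕ) : Prop := ∃ m, Odd m ∧ q ^ n - 1 = (q - 1) * (q + 1) * c * m

theorem tp_odd {q : ℕ} (hq : Odd q) (d : ℕ) : TP q (2 * (2 * d + 1)) 1 := by
  refine ⟨∑ i ∈ Finset.range (2 * d + 1), (q ^ 2) ^ i, ?_, ?_⟩
  · rw [Finset.odd_sum_iff_odd_card_odd, Finset.filter_true_of_mem fun i _ => hq.pow.pow]
    simp
  · rw [pow_mul, ← geom_sum_mul_of_one_le (Nat.one_le_pow _ _ hq.pos), mul_one, mul_comm,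
      mul_comm (q - 1), ← Nat.sq_sub_sq, one_pow]

theorem TP.dbl {q n c : ℕ} (hq : Odd q) (h : TP q (2 * n) c) : TP q (2 * (2 * n)) (2 * c) := by
  obtain ⟨m, h1, h2⟩ := h
  obtain ⟨k, hk⟩ := hq.pow (n := n)
  refine ⟨m * (2 * (k ^ 2 + k) + 1), h1.mul (odd_two_mul_add_one _), ?_⟩
  have e : q ^ (2 * n) + 1 = 2 * (2 * (k ^ 2 + k) + 1) := by rw [pow_mul', hk]; ring
  have e' := Nat.sq_sub_sq (q ^ (2 * n)) 1
  rw [one_pow, e, h2] at e'
  rw [pow_mul' q 2 (2 * n), e']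
  ring

theorem two_dvd {e a m : ℕ} (hm : Odd m) (h : 2 ^ e ∣ a * m) : 2 ^ e ∣ a :=
  Nat.Coprime.dvd_of_dvd_mul_right (Nat.Coprime.pow_left _ (Nat.coprime_two_left.2 hm)) h

variable (F : Type) [Field F] [Fintype F]

theorem e7_two (hF : Odd (Fintype.card F)) (e : ℕ) (h : 2 ^ e ∣ Nat.card (chevE7.group F)) :
    2 ^ e ∣ Nat.card (chevE7.diagonalSubgroup F) * (Fintype.card F + 1) ^ 7 * 8 := by
  have h1 : Nat.gcd 2 (Fintype.card F - 1) * Nat.card (chevE7.diagonalSubgroup F) =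
      (Fintype.card F - 1) ^ 7 :=
    S1035.result (F := F) rfl (chevE7, Nat.gcd 2 (Fintype.card F - 1)) (by simp)
  have h2 := S1064.result (F := F) rfl
  have hg : 0 < Nat.gcd 2 (Fintype.card F - 1) := Nat.gcd_pos_of_pos_left _ two_pos
  obtain ⟨m1, o1, e1⟩ : TP _ 2 1 := tp_odd hF 0
  obtain ⟨m2, o2, e2⟩ : TP _ 6 1 := tp_odd hF 1
  obtain ⟨m3, o3, e3⟩ : TP _ 8 4 := ((tp_odd hF 0).dbl hF).dbl hF
  obtain ⟨m4, o4, e4⟩ : TP _ 10 1 := tp_odd hF 2
  obtain ⟨m5, o5, e5⟩ : TP _ 12 2 := (tp_odd hF 1).dbl hF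
  obtain ⟨m6, o6, e6⟩ : TP _ 14 1 := tp_odd hF 3
  obtain ⟨m7, o7, e7⟩ : TP _ 18 1 := tp_odd hF 4
  refine two_dvd (((((((o1.mul o2).mul o3).mul o4).mul o5).mul o6).mul o7).mul (hF.pow (n := 63)))
    (h.trans (Dvd.intro 1 (Nat.eq_of_mul_eq_mul_left hg ?_)))
  rw [mul_one, h2, e1, e2, e3, e4, e5, e6, e7, mul_assoc (Nat.card _), mul_assoc (Nat.card _),
    ← mul_assoc (Nat.gcd _ _), h1]
  generalize Fintype.card F - 1 = p
  generalize Fintype.card F + 1 = r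
  ring

theorem e8_two (hF : Odd (Fintype.card F)) (e : ℕ) (h : 2 ^ e ∣ Nat.card (chevE8.group F)) :
    2 ^ e ∣ Nat.card (chevE8.diagonalSubgroup F) * (Fintype.card F + 1) ^ 8 * 64 := by
  have h1 : 1 * Nat.card (chevE8.diagonalSubgroup F) = (Fintype.card F - 1) ^ 8 :=
    S1035.result (F := F) rfl (chevE8, 1) (by simp)
  have h2 := S1065.result (F := F) rfl
  obtain ⟨m1, o1, e1⟩ : TP _ 2 1 := tp_odd hF 0
  obtain ⟨m2, o2, e2⟩ : TP _ 8 4 := ((tp_odd hF 0).dbl hF).dbl hF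
  obtain ⟨m3, o3, e3⟩ : TP _ 12 2 := (tp_odd hF 1).dbl hF
  obtain ⟨m4, o4, e4⟩ : TP _ 14 1 := tp_odd hF 3
  obtain ⟨m5, o5, e5⟩ : TP _ 18 1 := tp_odd hF 4
  obtain ⟨m6, o6, e6⟩ : TP _ 20 2 := (tp_odd hF 2).dbl hF
  obtain ⟨m7, o7, e7⟩ : TP _ 24 4 := ((tp_odd hF 1).dbl hF).dbl hF
  obtain ⟨m8, o8, e8⟩ : TP _ 30 1 := tp_odd hF 7
  refine two_dvd ((((((((o1.mul o2).mul o3).mul o4).mul o5).mul o6).mul o7).mul o8).mul
    (hF.pow (n := 120))) (h.trans (Dvd.intro 1 ?_))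
  rw [mul_one, h2, e1, e2, e3, e4, e5, e6, e7, e8, ← one_mul (Nat.card _), h1]
  generalize Fintype.card F - 1 = p
  generalize Fintype.card F + 1 = r
  ring

/-- generators for `E₇` -/
def σ7 : Fin 2 → Perm (Fin 7) := ![swap 1 2 * swap 5 6, swap 3 5 * swap 4 6]

/-- the group they generate -/
def T7 : List ℕ := [1521800, 1751120, 941192, 1170512, 944720, 1174152, 1525328, 1754760]

theorem tbl7 : Tbl 7 [1525328, 1174152] T7 := by decide +kernel

theorem g7 : ∀ g ∈ [1525328, 1174152], ∃ j, ∀ i, σ7 j i = app 7 g i := by decide +kernel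

theorem g7' : ∀ j, ∃ g ∈ [1525328, 1174152], ∀ i, σ7 j i = app 7 g i := by decide +kernel

theorem fc7 : FC (tabOf chevE7) 7 2 ([125, 92, 63, 87, 66, 78, 73].getD · 0)
    ([[81, 76], [70, 74]].getD · []) (fun j i => σ7 j i) [0, 1, 10, 11, 3, 2, 9, 8]
    [80, 116, 90, 124, 122, 113] [33, 34, 36, 39] := by
  rw [tabOf_eq validE7]; decide +kernel

theorem e7 : E7Stmt := fun F _ _ hF => by
  have c : Nat.card (closure (Set.range σ7)) = 2 ^ 3 := tbl7.card g7 g7'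
  refine hasFrame_of (cert (by simp)) hF (by decide) σ7 fc7 (.of_card c) (fun π ho hn => ?_)
    fun e he => c ▸ e7_two F hF e he
  have s1 := tbl7.step g7 g7' ho hn inv4 ![0, 0, 0, 1, 1, 1, 1] (g := fun _ => 0) (fun _ => rfl)
    (by decide +kernel) (by decide +kernel)
  have s2 := tbl7.step g7 g7' ho hn inv0 ![0, 1, 1, 2, 2, 2, 2] s1 (by decide +kernel)
    (by decide +kernel)
  have s3 := tbl7.step g7 g7' ho hn inv2 ![0, 1, 1, 2, 2, 3, 3] s2 (by decide +kernel)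
    (by decide +kernel)
  exact eq_one ho s3 (by decide +kernel)

/-- generators for `E₈` -/
def σ8 : Fin 3 → Perm (Fin 8) :=
  ![swap 2 3 * swap 6 7, swap 4 6 * swap 5 7, swap 0 4 * swap 1 5 * swap 2 6 * swap 3 7]

/-- the group they generate -/
def T8 : List ℕ :=
  [14570689, 6823845, 16406145, 4988389, 11789505, 14569555, 9925825, 372645, 14570010, 6822711,
   9954945, 16405011, 11761281, 2207205, 16404570, 4987255, 11788371, 16434369, 9924691, 343525,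
   9925146, 371511, 4987710, 9953811, 14599809, 11760147, 2178981, 11759706, 2206071, 6822270,
   16433235, 6852069, 9953370, 342391, 342846, 4988844, 14598675, 5017509, 11788826, 2177847,
   2177406, 6823404, 14598234, 6850935, 371070, 343980, 14571144, 16433690, 5016375, 2206526,
   2178540, 16405704, 5015934, 372204, 9926280, 6851390, 2207660, 11760840, 5017068, 9954504,
   6852524, 11789960, 14599368, 16434824]

theorem tbl8 : Tbl 8 [14599368, 11789960, 6852524] T8 := by decide +kernel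

theorem g8 : ∀ g ∈ [14599368, 11789960, 6852524], ∃ j, ∀ i, σ8 j i = app 8 g i := by
  decide +kernel

theorem g8' : ∀ j, ∃ g ∈ [14599368, 11789960, 6852524], ∀ i, σ8 j i = app 8 g i := by
  decide +kernel

theorem fc8 : FC (tabOf chevE8) 8 3 ([239, 226, 159, 121, 152, 126, 141, 135].getD · 0)
    ([[144, 138], [131, 136], [229, 129, 133, 138]].getD · []) (fun j i => σ8 j i)
    [0, 3, 21, 22, 6, 5, 19, 16, 1, 2, 20, 23, 7, 4, 18, 17]
    [185, 173, 237, 143, 223, 205] [13, 20, 25, 29, 32, 34] := by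
  rw [tabOf_eq validE8]; decide +kernel

theorem e8 : E8Stmt := fun F _ _ hF => by
  have c : Nat.card (closure (Set.range σ8)) = 2 ^ 6 := tbl8.card g8 g8'
  refine hasFrame_of (cert (by simp)) hF (by decide) σ8 fc8 (.of_card c) (fun π ho hn => ?_)
    fun e he => c ▸ e8_two F hF e he
  have s1 := tbl8.step g8 g8' ho hn inv1 ![0, 0, 0, 0, 1, 1, 1, 1] (g := fun _ => 0) (fun _ => rfl)
    (by decide +kernel) (by decide +kernel)
  have s2 := tbl8.step g8 g8' ho hn inv2 ![0, 0, 1, 1, 2, 2, 3, 3] s1 (by decide +kernel)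
    (by decide +kernel)
  exact eq_one ho s2 (by decide +kernel)

end Cfsg.Agent.H75.FkE7
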