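import Mathlib
import Cfsg.Prelude.Def_LinearParabolics
import Cfsg.Agent.H11.PermChar

/-!
# Double cosets of parabolic subgroups of `GL n` and of Young subgroups
-/

set_option autoImplicit false

namespace Cfsg.Agent.H75

open Matrix Cfsg
open scoped MatrixGroups

section Orbits

variable {G : Type*} [Group G]

/-- Orbits on pairs of cosets are counted by any complete invariant of the double cosets. -/
theorem card_orbits_quot_prod (H K : Subgroup G) {T : Type*} (φ : G → T)
    (hφ : ∀ g g', φ g = φ g' ↔ ∃ a ∈ H, ∃ b ∈ K, g' = a * g * b) :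
    Nat.card (MulAction.orbitRel.Quotient G ((G ⧸ H) × (G ⧸ K))) = Nat.card (Set.range φ) := by
  let ψ : (G ⧸ H) × (G ⧸ K) → Set.range φ := fun p => ⟨φ (p.1.out⁻¹ * p.2.out), _, rfl⟩
  have hψ : ∀ x y : G, (ψ ((x : G ⧸ H), (y : G ⧸ K)) : T) = φ (x⁻¹ * y) := by
    intro x y
    obtain ⟨a, ha⟩ := QuotientGroup.mk_out_eq_mul H x
    obtain ⟨b, hb⟩ := QuotientGroup.mk_out_eq_mul K y
    simp only [ψ, ha, hb]
    symm
    rw [hφ]
    exact ⟨(a : G)⁻¹, H.inv_mem a.2, b, b.2, by group⟩
  have key : ∀ p p' : (G ⧸ H) × (G ⧸ K), ψ p = ψ p' ↔ (MulAction.orbitRel G _).r p p' := by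
    rintro ⟨x, y⟩ ⟨x', y'⟩
    induction x using QuotientGroup.induction_on with | H x =>
    induction y using QuotientGroup.induction_on with | H y =>
    induction x' using QuotientGroup.induction_on with | H x' =>
    induction y' using QuotientGroup.induction_on with | H y' =>
    rw [Subtype.ext_iff, hψ, hψ, eq_comm, hφ]
    change _ ↔ _ ∈ MulAction.orbit G _
    rw [MulAction.mem_orbit_iff]
    constructor
    · rintro ⟨a, ha, b, hb, h⟩
      refine ⟨x * a * x'⁻¹, Prod.ext ?_ ?_⟩
      · simp only [Prod.smul_fst, MulAction.Quotient.smul_coe, smul_eq_mul]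
        rw [QuotientGroup.eq]
        simpa using ha
      · simp only [Prod.smul_snd, MulAction.Quotient.smul_coe, smul_eq_mul]
        rw [QuotientGroup.eq]
        have : y = x * (a * (x'⁻¹ * y') * b) := by rw [← h]; group
        rw [this]
        simpa [mul_assoc] using hb
    · rintro ⟨g, h⟩
      have h1 := congrArg Prod.fst h
      have h2 := congrArg Prod.snd h
      simp only [Prod.smul_fst, Prod.smul_snd, MulAction.Quotient.smul_coe, smul_eq_mul] at h1 h2
      rw [QuotientGroup.eq] at h1 h2
      exact ⟨_, H.inv_mem h1, _, h2, by group⟩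
  refine Nat.card_congr (Equiv.ofBijective
    (Quotient.lift ψ fun p p' h => (key p p').2 h) ⟨?_, ?_⟩)
  · intro p p' h
    induction p using Quotient.inductionOn
    induction p' using Quotient.inductionOn
    exact Quotient.sound ((key _ _).1 h)
  · rintro ⟨_, g, rfl⟩
    refine ⟨Quotient.mk _ (((1 : G) : G ⧸ H), (g : G ⧸ K)), Subtype.ext ?_⟩
    simpa using hψ 1 g

theorem fixedPointCharacter_eq_permChar (H : Subgroup G) :
    fixedPointCharacter H = H11.permChar G (G ⧸ H) := rfl

theorem classInner_fixedPointCharacter [Fintype G] (H K : Subgroup G) {T : Type*} (φ : G → T)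
    (hφ : ∀ g g', φ g = φ g' ↔ ∃ a ∈ H, ∃ b ∈ K, g' = a * g * b) :
    classInner (fixedPointCharacter H) (fixedPointCharacter K) = Nat.card (Set.range φ) := by
  rw [fixedPointCharacter_eq_permChar, fixedPointCharacter_eq_permChar,
    H11.classInner_permChar_permChar, card_orbits_quot_prod H K φ hφ]

end Orbits

section Fibres

theorem exists_equiv_of_card_fiber_eq {α β γ : Type*} [Finite α] [Finite β] (f : α → γ) (g : β → γ)
    (h : ∀ c, Nat.card {x // f x = c} = Nat.card {y // g y = c}) :
    ∃ e : α ≃ β, ∀ x, g (e x) = f x := by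
  have e : ∀ c, {x // f x = c} ≃ {y // g y = c} := fun c => (Finite.card_eq.1 (h c)).some
  exact ⟨Equiv.ofFiberEquiv e, Equiv.ofFiberEquiv_map e⟩

end Fibres

section Labels

variable {n : ℕ}

theorem compLabel_mono (μ : Fin n → ℕ) : Monotone (compLabel μ) := by
  intro i i' h
  refine Finset.card_le_card fun j => ?_
  simp only [Finset.mem_filter, Finset.mem_univ, true_and]
  exact fun hj => hj.trans h

/-- Partial sums of a composition. -/
def psum (μ : Fin n → ℕ) (s : ℕ) : ℕ := ∑ k ∈ Finset.univ.filter (fun k : Fin n => k.val < s), μ k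

theorem psum_mono (μ : Fin n → ℕ) : Monotone (psum μ) := by
  intro s t h
  refine Finset.sum_le_sum_of_subset fun k => ?_
  simp only [Finset.mem_filter, Finset.mem_univ, true_and]
  omega

theorem psum_zero (μ : Fin n → ℕ) : psum μ 0 = 0 := by simp [psum]

theorem psum_succ (μ : Fin n → ℕ) (s : Fin n) : psum μ (s + 1) = psum μ s + μ s := by
  have : Finset.univ.filter (fun k : Fin n => k.val < s + 1) =
      insert s (Finset.univ.filter (fun k : Fin n => k.val < s)) := by
    ext k
    simp only [Finset.mem_filter, Finset.mem_univ, true_and, Finset.mem_insert, Fin.ext_iff]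
    omega
  rw [psum, this, Finset.sum_insert (by simp), add_comm, psum]

theorem psum_of_le (μ : Fin n → ℕ) {s : ℕ} (h : n ≤ s) : psum μ s = ∑ k, μ k := by
  rw [psum, Finset.filter_true_of_mem]
  intro k _
  omega

theorem lt_compLabel_iff (μ : Fin n → ℕ) (i s : Fin n) :
    s.val < compLabel μ i ↔ psum μ (s + 1) ≤ i := by
  have e : ∀ j : Fin n, (∑ k ∈ Finset.univ.filter (fun k : Fin n => k ≤ j), μ k) =
      psum μ (j + 1) := by
    intro j
    refine Finset.sum_congr (Finset.filter_congr fun k _ => ?_) fun _ _ => rfl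
    rw [Fin.le_def]; omega
  simp only [compLabel, e]
  constructor
  · intro h
    by_contra hc
    have : (Finset.univ.filter fun j : Fin n => psum μ (j + 1) ≤ i.val) ⊆ Finset.Iio s := by
      intro j hj
      simp only [Finset.mem_filter, Finset.mem_univ, true_and] at hj
      rw [Finset.mem_Iio]
      by_contra hjs
      have := psum_mono μ (show s.val + 1 ≤ j.val + 1 by
        have := Fin.le_def.1 (not_lt.1 hjs); omega)
      omega
    have := Finset.card_le_card this
    rw [Fin.card_Iio] at this
    omega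
  · intro h
    have : Finset.Iic s ⊆ (Finset.univ.filter fun j : Fin n => psum μ (j + 1) ≤ i.val) := by
      intro j hj
      simp only [Finset.mem_filter, Finset.mem_univ, true_and]
      have := psum_mono μ (show j.val + 1 ≤ s.val + 1 by
        have := Fin.le_def.1 (Finset.mem_Iic.1 hj); omega)
      omega
    have := Finset.card_le_card this
    rw [Fin.card_Iic] at this
    omega

theorem compLabel_le (μ : Fin n → ℕ) (i : Fin n) : compLabel μ i ≤ n := by
  simpa [compLabel] using Finset.card_filter_le (Finset.univ : Finset (Fin n)) _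

theorem compLabel_lt {μ : Fin n → ℕ} (hμ : ∑ i, μ i = n) (i : Fin n) : compLabel μ i < n := by
  have hn : 0 < n := i.pos
  by_contra hc
  have := (lt_compLabel_iff μ i ⟨n - 1, by omega⟩).1 (by simp only; omega)
  rw [psum_of_le μ (by simp only; omega), hμ] at this
  omega

theorem le_compLabel_iff (μ : Fin n → ℕ) (i : Fin n) {s : ℕ} (hs : s ≤ n) :
    s ≤ compLabel μ i ↔ psum μ s ≤ i := by
  rcases s with _ | s
  · simp [psum_zero]
  · exact lt_compLabel_iff μ i ⟨s, by omega⟩

theorem compLabel_eq_iff (μ : Fin n → ℕ) (i s : Fin n) :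
    compLabel μ i = s ↔ psum μ s ≤ i ∧ i < psum μ s + μ s := by
  rw [← psum_succ, ← le_compLabel_iff μ i s.2.le, ← not_le, ← lt_compLabel_iff]
  omega

/-- The label as an element of `Fin n`. -/
def finLabel {μ : Fin n → ℕ} (hμ : ∑ i, μ i = n) (i : Fin n) : Fin n :=
  ⟨compLabel μ i, compLabel_lt hμ i⟩

theorem finLabel_mono {μ : Fin n → ℕ} (hμ : ∑ i, μ i = n) : Monotone (finLabel hμ) :=
  fun _ _ h => compLabel_mono μ h

theorem card_finLabel_fiber {μ : Fin n → ℕ} (hμ : ∑ i, μ i = n) (s : Fin n) :
    Nat.card {i // finLabel hμ i = s} = μ s := by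
  have hle : psum μ s + μ s ≤ n := by
    rw [← psum_succ]
    exact (psum_mono μ s.2).trans ((psum_of_le μ le_rfl).trans hμ).le
  have e : {i // finLabel hμ i = s} ≃ Finset.Ico (psum μ s) (psum μ s + μ s) :=
    { toFun := fun i => ⟨i.1, by
        have := (compLabel_eq_iff μ i s).1 (congrArg Fin.val i.2)
        simpa using this⟩
      invFun := fun j => ⟨⟨j.1, by have := Finset.mem_Ico.1 j.2; omega⟩, Fin.ext
        ((compLabel_eq_iff μ _ s).2 (Finset.mem_Ico.1 j.2))⟩
      left_inv := fun _ => rfl
      right_inv := fun _ => rfl }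
  rw [Nat.card_congr e, Nat.card_eq_fintype_card, Fintype.card_coe]
  simp

theorem mem_parabolicGL {F : Type*} [Field F] {μ : Fin n → ℕ} (hμ : ∑ i, μ i = n)
    (g : GL (Fin n) F) :
    g ∈ parabolicGL n F μ ↔ (g : Matrix (Fin n) (Fin n) F).BlockTriangular (finLabel hμ) :=
  Iff.rfl

theorem mem_youngSubgroup {μ : Fin n → ℕ} (hμ : ∑ i, μ i = n) (σ : Equiv.Perm (Fin n)) :
    σ ∈ youngSubgroup μ ↔ ∀ i, finLabel hμ (σ i) = finLabel hμ i :=
  forall_congr' fun i => (Fin.ext_iff (a := finLabel hμ (σ i)) (b := finLabel hμ i)).symm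

end Labels

section Bruhat

variable {n : ℕ} {F : Type*} [Field F]

/-- Permutation matrices. -/
noncomputable def permGL (F : Type*) [Field F] (n : ℕ) : Equiv.Perm (Fin n) →* GL (Fin n) F :=
  (Matrix.permMatrixHom (R := F)).toHomUnits

theorem permGL_apply (w : Equiv.Perm (Fin n)) (i j : Fin n) :
    (permGL F n w : Matrix (Fin n) (Fin n) F) i j = if i = w j then 1 else 0 := by
  change (w⁻¹.permMatrix F) i j = _
  simp only [Equiv.Perm.permMatrix, PEquiv.toMatrix_apply, Equiv.toPEquiv_apply, Option.mem_def,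
    Option.some.injEq, Equiv.Perm.inv_eq_iff_eq]

theorem mul_permGL_apply (M : Matrix (Fin n) (Fin n) F) (w : Equiv.Perm (Fin n)) (i j : Fin n) :
    (M * (permGL F n w : Matrix (Fin n) (Fin n) F)) i j = M i (w j) := by
  simp [Matrix.mul_apply, permGL_apply]

theorem permGL_mul_apply (M : Matrix (Fin n) (Fin n) F) (w : Equiv.Perm (Fin n)) (i j : Fin n) :
    ((permGL F n w : Matrix (Fin n) (Fin n) F) * M) i j = M (w⁻¹ i) j := by
  simp only [Matrix.mul_apply, permGL_apply, ite_mul, one_mul, zero_mul]
  rw [Finset.sum_eq_single (w⁻¹ i)]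
  · simp
  · intro b _ hb
    rw [if_neg]
    rintro rfl
    simp at hb
  · simp

theorem exists_col_ne_zero (g : GL (Fin n) F) (j : Fin n) :
    ∃ i, (g : Matrix (Fin n) (Fin n) F) i j ≠ 0 := by
  by_contra h
  push Not at h
  exact g.det_ne_zero (Matrix.det_eq_zero_of_column_eq_zero j h)

open Classical in
/-- Height of a column. -/
noncomputable def colHt (M : Matrix (Fin n) (Fin n) F) (j : Fin n) : ℕ :=
  Finset.univ.sup fun i : Fin n => if M i j ≠ 0 then i.val + 1 else 0

theorem colHt_le_iff (M : Matrix (Fin n) (Fin n) F) (j : Fin n) (m : ℕ) :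
    colHt M j ≤ m ↔ ∀ i : Fin n, m ≤ i.val → M i j = 0 := by
  simp only [colHt, Finset.sup_le_iff, Finset.mem_univ, true_imp_iff]
  refine forall_congr' fun i => ?_
  split_ifs with h
  · constructor
    · intro h1 h2; omega
    · intro h1
      by_contra h2
      exact h (h1 (by omega))
  · simpa using fun _ => not_not.1 h

theorem exists_colHt (g : GL (Fin n) F) (j : Fin n) :
    ∃ l : Fin n, colHt (g : Matrix (Fin n) (Fin n) F) j = l + 1 ∧
      (g : Matrix (Fin n) (Fin n) F) l j ≠ 0 := by
  obtain ⟨i, hi⟩ := exists_col_ne_zero g j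
  have h1 : ¬ colHt (g : Matrix (Fin n) (Fin n) F) j ≤ colHt (g : Matrix (Fin n) (Fin n) F) j - 1 := by
    have : ¬ colHt (g : Matrix (Fin n) (Fin n) F) j ≤ 0 := by
      rw [colHt_le_iff]; exact fun h => hi (h i (Nat.zero_le _))
    omega
  rw [colHt_le_iff] at h1
  push Not at h1
  obtain ⟨l, hl, hl'⟩ := h1
  have h2 : ¬ colHt (g : Matrix (Fin n) (Fin n) F) j ≤ l := by
    rw [colHt_le_iff]; exact fun h => hl' (h l le_rfl)
  exact ⟨l, by omega, hl'⟩

/-- The Bruhat decomposition of `GL n`. -/
theorem bruhat_GL (g : GL (Fin n) F) :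
    ∃ p q : GL (Fin n) F, (p : Matrix (Fin n) (Fin n) F).BlockTriangular id ∧
      (q : Matrix (Fin n) (Fin n) F).BlockTriangular id ∧
        ∃ w : Equiv.Perm (Fin n), g * q = p * permGL F n w := by
  induction hm : ∑ j, colHt (g : Matrix (Fin n) (Fin n) F) j using Nat.strong_induction_on
    generalizing g with | _ m ih =>
  choose l hl hl' using exists_colHt g
  by_cases hinj : Function.Injective l
  · let w : Equiv.Perm (Fin n) := Equiv.ofBijective l (Finite.injective_iff_bijective.1 hinj)
    refine ⟨g * (permGL F n w)⁻¹, 1, ?_, Matrix.blockTriangular_one, w, by group⟩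
    intro i j hij
    rw [← map_inv, Units.val_mul, mul_permGL_apply]
    refine (colHt_le_iff _ _ _).1 (hl _).le i ?_
    have : l (w⁻¹ j) = j := w.apply_symm_apply j
    rw [this]
    exact hij
  · have : ∃ j j', j < j' ∧ l j = l j' := by
      simp only [Function.Injective, not_forall] at hinj
      obtain ⟨j, j', h, hne⟩ := hinj
      rcases lt_or_gt_of_ne hne with h' | h'
      · exact ⟨j, j', h', h⟩
      · exact ⟨j', j, h', h.symm⟩
    obtain ⟨j, j', hjj, hll⟩ := this
    set c : F := -((g : Matrix (Fin n) (Fin n) F) (l j) j' / (g : Matrix (Fin n) (Fin n) F) (l j) j)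
      with hc
    let t : GL (Fin n) F := Matrix.GeneralLinearGroup.mkOfDetNeZero (transvection j j' c)
      (by rw [det_transvection_of_ne _ _ hjj.ne]; exact one_ne_zero)
    have ht : ((g * t : GL (Fin n) F) : Matrix (Fin n) (Fin n) F) =
        (g : Matrix (Fin n) (Fin n) F) * transvection j j' c := rfl
    have hlt : ∑ k, colHt ((g * t : GL (Fin n) F) : Matrix (Fin n) (Fin n) F) k < m := by
      rw [← hm]
      refine Finset.sum_lt_sum (fun k _ => ?_) ⟨j', Finset.mem_univ _, ?_⟩
      · rw [colHt_le_iff]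
        intro i hi
        rw [ht]
        by_cases hk : k = j'
        · subst hk
          rw [mul_transvection_apply_same, (colHt_le_iff _ _ _).1 le_rfl i hi,
            (colHt_le_iff (g : Matrix (Fin n) (Fin n) F) j _).1 le_rfl i
              (by rw [hl, hll, ← hl]; exact hi)]
          simp
        · rw [mul_transvection_apply_of_ne _ _ _ _ hk, (colHt_le_iff _ _ _).1 le_rfl i hi]
      · rw [hl, Nat.lt_succ_iff, colHt_le_iff]
        intro i hi
        rw [ht, mul_transvection_apply_same]
        rcases hi.eq_or_lt with hi | hi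
        · have : i = l j := by rw [hll]; exact Fin.ext hi.symm
          rw [this, hc]
          have := hl' j
          field_simp
          ring
        · rw [(colHt_le_iff _ _ _).1 (hl j').le i hi,
            (colHt_le_iff _ j _).1 (hl j).le i (by rw [hll]; exact hi)]
          simp
    obtain ⟨p, q, hp, hq, w, h⟩ := ih _ hlt (g * t) rfl
    refine ⟨p, t * q, hp, ?_, w, by rw [← h, mul_assoc]⟩
    exact Matrix.BlockTriangular.mul (Matrix.blockTriangular_transvection hjj.le c) hq

end Bruhat

section Invariants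

variable {n : ℕ} {F : Type*} [Field F]

/-- The intersection matrix of a permutation with respect to two labellings. -/
def interMat (a b : Fin n → Fin n) (w : Equiv.Perm (Fin n)) (s t : Fin n) : ℕ :=
  (Finset.univ.filter fun j => a (w j) = s ∧ b j = t).card

theorem interMat_eq_iff (a b : Fin n → Fin n) (w w' : Equiv.Perm (Fin n)) :
    interMat a b w = interMat a b w' ↔ ∃ x : Equiv.Perm (Fin n), (∀ i, a (x i) = a i) ∧
      ∃ y : Equiv.Perm (Fin n), (∀ i, b (y i) = b i) ∧ w' = x * w * y := by
  constructor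
  · intro h
    obtain ⟨e, he⟩ := exists_equiv_of_card_fiber_eq (fun j => (a (w' j), b j))
      (fun j => (a (w j), b j)) (fun c => by
        have := congrFun (congrFun h c.1) c.2
        simp only [interMat] at this
        simp only [Nat.card_eq_fintype_card, Fintype.card_subtype, Prod.ext_iff, this])
    simp only [Prod.mk.injEq] at he
    refine ⟨w' * (w * e)⁻¹, fun i => ?_, e, fun i => (he i).2, by group⟩
    rw [Equiv.Perm.mul_apply, ← (he _).1]
    congr 1
    exact (w * e).apply_symm_apply i
  · rintro ⟨x, hx, y, hy, rfl⟩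
    funext s t
    refine (Finset.card_equiv y fun j => ?_).symm
    simp [hx, hy]

/-- Nonnegative integer matrices with given row and column sums. -/
def ContTab (α β : Fin n → ℕ) : Set (Fin n → Fin n → ℕ) :=
  {N | (∀ s, ∑ t, N s t = α s) ∧ ∀ t, ∑ s, N s t = β t}

theorem range_interMat (a b : Fin n → Fin n) (α β : Fin n → ℕ)
    (ha : ∀ s, Nat.card {i // a i = s} = α s) (hb : ∀ t, Nat.card {i // b i = t} = β t) :
    Set.range (interMat a b) = ContTab α β := by
  ext N
  constructor
  · rintro ⟨w, rfl⟩
    refine ⟨fun s => ?_, fun t => ?_⟩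
    · rw [← ha, Nat.card_eq_fintype_card, Fintype.card_subtype,
        ← Finset.card_equiv w (s := Finset.univ.filter fun j => a (w j) = s) (by simp),
        Finset.card_eq_sum_card_fiberwise (f := b) (t := Finset.univ) (by simp)]
      simp only [interMat, Finset.filter_filter]
    · rw [← hb, Nat.card_eq_fintype_card, Fintype.card_subtype,
        Finset.card_eq_sum_card_fiberwise (f := fun j => a (w j)) (t := Finset.univ) (by simp)]
      simp only [interMat, Finset.filter_filter, and_comm]
  · rintro ⟨h1, h2⟩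
    let T := Σ p : Fin n × Fin n, Fin (N p.1 p.2)
    have hT : ∀ P : Fin n × Fin n → Prop, ∀ [DecidablePred P], Nat.card {x : T // P x.1} =
        ∑ p ∈ Finset.univ.filter P, N p.1 p.2 := by
      intro P _
      rw [Nat.card_eq_fintype_card, Fintype.card_subtype,
        Finset.card_eq_sum_card_fiberwise (f := Sigma.fst) (t := Finset.univ.filter P)
          (by intro x hx; simpa using hx)]
      refine Finset.sum_congr rfl fun p hp => ?_
      have hp' : P p := by simpa using hp
      rw [← Fintype.card_fin (N p.1 p.2), ← Finset.card_univ]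
      symm
      refine Finset.card_bij (fun x _ => ⟨p, x⟩) (by simpa using fun _ => hp') (by simp) ?_
      rintro ⟨p', x⟩ hx
      have : p' = p := by simp only [Finset.mem_filter] at hx; exact hx.2
      subst this
      exact ⟨x, Finset.mem_univ _, rfl⟩
    obtain ⟨e1, he1⟩ := exists_equiv_of_card_fiber_eq (fun x : T => x.1.1) a (fun s => by
      rw [hT (fun p => p.1 = s), ha, ← h1, Finset.sum_filter, Fintype.sum_prod_type]
      simp [Finset.sum_ite_eq'])
    obtain ⟨e2, he2⟩ := exists_equiv_of_card_fiber_eq (fun x : T => x.1.2) b (fun t => by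
      rw [hT (fun p => p.2 = t), hb, ← h2, Finset.sum_filter, Fintype.sum_prod_type]
      simp [Finset.sum_ite_eq'])
    refine ⟨e2.symm.trans e1, funext fun s => funext fun t => ?_⟩
    have := hT (fun p => p = (s, t))
    rw [Finset.filter_eq', if_pos (Finset.mem_univ _), Finset.sum_singleton] at this
    rw [← this, Nat.card_eq_fintype_card, Fintype.card_subtype, interMat]
    refine (Finset.card_equiv e2 fun x => ?_).symm
    simp [he1, he2, Prod.ext_iff]

/-- The rank invariants of a matrix. -/
noncomputable def rkInv (a b : Fin n → Fin n) (g : GL (Fin n) F) (s t : ℕ) : ℕ :=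
  (diagonal (fun i => if s ≤ (a i).val then (1 : F) else 0) * (g : Matrix (Fin n) (Fin n) F) *
    diagonal (fun j => if (b j).val < t then (1 : F) else 0)).rank

theorem rkInv_mul_le (a b : Fin n → Fin n) (g p q : GL (Fin n) F)
    (hp : (p : Matrix (Fin n) (Fin n) F).BlockTriangular a)
    (hq : (q : Matrix (Fin n) (Fin n) F).BlockTriangular b) (s t : ℕ) :
    rkInv a b (p * g * q) s t ≤ rkInv a b g s t := by
  set D := diagonal (fun i => if s ≤ (a i).val then (1 : F) else 0) with hD
  set E := diagonal (fun j => if (b j).val < t then (1 : F) else 0) with hE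
  have h1 : D * (p : Matrix (Fin n) (Fin n) F) = D * p * D := by
    ext i j
    rw [hD, mul_diagonal, diagonal_mul]
    by_cases hi : s ≤ (a i).val
    · by_cases hj : s ≤ (a j).val
      · simp [hj]
      · rw [hp (show a j < a i by rw [Fin.lt_def]; omega)]; simp
    · simp [hi]
  have h2 : (q : Matrix (Fin n) (Fin n) F) * E = E * (q * E) := by
    ext i j
    rw [hE, diagonal_mul, mul_diagonal]
    by_cases hj : (b j).val < t
    · by_cases hi : (b i).val < t
      · simp [hi]
      · rw [hq (show b j < b i by rw [Fin.lt_def]; omega)]; simp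
    · simp [hj]
  have : D * ((p * g * q : GL (Fin n) F) : Matrix (Fin n) (Fin n) F) * E =
      (D * p) * (D * g * E) * (q * E) := by
    calc _ = (D * p) * g * (q * E) := by simp only [Units.val_mul, Matrix.mul_assoc]
      _ = (D * p * D) * g * (E * (q * E)) := by rw [← h1, ← h2]
      _ = _ := by simp only [Matrix.mul_assoc]
  rw [rkInv, this]
  exact (rank_mul_le_left _ _).trans (rank_mul_le_right _ _)

theorem blockTriangular_inv_GL {a : Fin n → Fin n} {p : GL (Fin n) F}
    (hp : (p : Matrix (Fin n) (Fin n) F).BlockTriangular a) :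
    ((p⁻¹ : GL (Fin n) F) : Matrix (Fin n) (Fin n) F).BlockTriangular a := by
  have : Invertible (p : Matrix (Fin n) (Fin n) F) := p.invertible
  rw [Matrix.coe_units_inv]
  exact Matrix.blockTriangular_inv_of_blockTriangular hp

theorem rkInv_mul (a b : Fin n → Fin n) (g p q : GL (Fin n) F)
    (hp : (p : Matrix (Fin n) (Fin n) F).BlockTriangular a)
    (hq : (q : Matrix (Fin n) (Fin n) F).BlockTriangular b) :
    rkInv a b (p * g * q) = rkInv a b g := by
  funext s t
  refine le_antisymm (rkInv_mul_le a b g p q hp hq s t) ?_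
  have := rkInv_mul_le a b (p * g * q) p⁻¹ q⁻¹ (blockTriangular_inv_GL hp)
    (blockTriangular_inv_GL hq) s t
  rwa [show p⁻¹ * (p * g * q) * q⁻¹ = g by group] at this

theorem rkInv_permGL (a b : Fin n → Fin n) (w : Equiv.Perm (Fin n)) (s t : ℕ) :
    rkInv a b (permGL F n w) s t =
      (Finset.univ.filter fun j => s ≤ (a (w j)).val ∧ (b j).val < t).card := by
  classical
  have : diagonal (fun i => if s ≤ (a i).val then (1 : F) else 0) *
      (permGL F n w : Matrix (Fin n) (Fin n) F) *
      diagonal (fun j => if (b j).val < t then (1 : F) else 0) =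
      (permGL F n w : Matrix (Fin n) (Fin n) F) *
        diagonal (fun j => if s ≤ (a (w j)).val ∧ (b j).val < t then (1 : F) else 0) := by
    ext i j
    rw [mul_diagonal, diagonal_mul, mul_diagonal, permGL_apply]
    by_cases h : i = w j
    · subst h
      by_cases h1 : s ≤ (a (w j)).val <;> by_cases h2 : (b j).val < t <;> simp [h1, h2]
    · simp [h]
  rw [rkInv, this, rank_mul_eq_right_of_isUnit_det _ _ (Matrix.isUnits_det_units _), rank_diagonal,
    Fintype.card_subtype]
  congr 1
  ext j
  simp

theorem interMat_eq_of_rkInv (a b : Fin n → Fin n) (w w' : Equiv.Perm (Fin n))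
    (h : rkInv a b (permGL F n w) = rkInv a b (permGL F n w')) :
    interMat a b w = interMat a b w' := by
  have key : ∀ (w : Equiv.Perm (Fin n)) (s t : Fin n), interMat a b w s t +
      rkInv a b (permGL F n w) (s + 1) (t + 1) + rkInv a b (permGL F n w) s t =
      rkInv a b (permGL F n w) s (t + 1) + rkInv a b (permGL F n w) (s + 1) t := by
    intro w s t
    simp only [rkInv_permGL, interMat, Finset.card_filter, ← Finset.sum_add_distrib]
    refine Finset.sum_congr rfl fun j _ => ?_
    simp only [Fin.ext_iff]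
    split_ifs <;> omega
  funext s t
  have h1 := key w s t
  have h2 := key w' s t
  rw [h] at h1
  omega

theorem blockTriangular_permGL {a : Fin n → Fin n} {x : Equiv.Perm (Fin n)}
    (hx : ∀ i, a (x i) = a i) : (permGL F n x : Matrix (Fin n) (Fin n) F).BlockTriangular a := by
  intro i j hij
  rw [permGL_apply, if_neg]
  rintro rfl
  rw [hx] at hij
  exact lt_irrefl _ hij

theorem blockTriangular_of_mono {a : Fin n → Fin n} (ha : Monotone a)
    {M : Matrix (Fin n) (Fin n) F} (hM : M.BlockTriangular id) : M.BlockTriangular a :=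
  fun _ _ hij => hM (ha.reflect_lt hij)

theorem exists_dc_permGL {a b : Fin n → Fin n} (ha : Monotone a) (hb : Monotone b)
    (g : GL (Fin n) F) : ∃ p q : GL (Fin n) F, (p : Matrix (Fin n) (Fin n) F).BlockTriangular a ∧
      (q : Matrix (Fin n) (Fin n) F).BlockTriangular b ∧
        ∃ w : Equiv.Perm (Fin n), g = p * permGL F n w * q := by
  obtain ⟨p, q, hp, hq, w, h⟩ := bruhat_GL g
  exact ⟨p, q⁻¹, blockTriangular_of_mono ha hp,
    blockTriangular_inv_GL (blockTriangular_of_mono hb hq), w, by rw [← h]; group⟩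

theorem rkInv_eq_iff {a b : Fin n → Fin n} (ha : Monotone a) (hb : Monotone b)
    (g g' : GL (Fin n) F) : rkInv a b g = rkInv a b g' ↔
      ∃ p : GL (Fin n) F, (p : Matrix (Fin n) (Fin n) F).BlockTriangular a ∧
        ∃ q : GL (Fin n) F, (q : Matrix (Fin n) (Fin n) F).BlockTriangular b ∧ g' = p * g * q := by
  constructor
  · intro h
    obtain ⟨p, q, hp, hq, w, rfl⟩ := exists_dc_permGL ha hb g
    obtain ⟨p', q', hp', hq', w', rfl⟩ := exists_dc_permGL ha hb g'
    rw [rkInv_mul _ _ _ _ _ hp hq, rkInv_mul _ _ _ _ _ hp' hq'] at h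
    obtain ⟨x, hx, y, hy, rfl⟩ := (interMat_eq_iff a b w w').1 (interMat_eq_of_rkInv a b w w' h)
    refine ⟨p' * permGL F n x * p⁻¹, (hp'.mul (blockTriangular_permGL hx)).mul
      (blockTriangular_inv_GL hp), q⁻¹ * permGL F n y * q', ((blockTriangular_inv_GL hq).mul
        (blockTriangular_permGL hy)).mul hq', ?_⟩
    simp only [map_mul]
    group
  · rintro ⟨p, hp, q, hq, rfl⟩
    exact (rkInv_mul _ _ _ _ _ hp hq).symm

theorem card_range_rkInv {a b : Fin n → Fin n} (ha : Monotone a) (hb : Monotone b) :
    Nat.card (Set.range (rkInv (F := F) a b)) = Nat.card (Set.range (interMat a b)) := by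
  have h1 : Set.range (rkInv (F := F) a b) = Set.range fun w => rkInv a b (permGL F n w) := by
    refine Set.Subset.antisymm ?_ ?_
    · rintro _ ⟨g, rfl⟩
      obtain ⟨p, q, hp, hq, w, rfl⟩ := exists_dc_permGL ha hb g
      exact ⟨w, (rkInv_mul _ _ _ _ _ hp hq).symm⟩
    · rintro _ ⟨w, rfl⟩
      exact ⟨_, rfl⟩
  have h2 : Setoid.ker (fun w => rkInv a b (permGL F n w)) = Setoid.ker (interMat a b) := by
    ext w w'
    refine ⟨interMat_eq_of_rkInv a b w w', fun h => ?_⟩
    obtain ⟨x, hx, y, hy, rfl⟩ := (interMat_eq_iff a b w w').1 h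
    change rkInv a b _ = rkInv a b _
    rw [map_mul, map_mul, rkInv_mul _ _ _ _ _ (blockTriangular_permGL hx)
      (blockTriangular_permGL hy)]
  rw [h1, ← Nat.card_congr (Setoid.quotientKerEquivRange _), h2,
    Nat.card_congr (Setoid.quotientKerEquivRange _)]

theorem classInner_young [Fintype (Equiv.Perm (Fin n))] {α β : Fin n → ℕ} (hα : ∑ i, α i = n)
    (hβ : ∑ i, β i = n) :
    classInner (fixedPointCharacter (youngSubgroup α)) (fixedPointCharacter (youngSubgroup β)) =
      Nat.card (ContTab α β) := by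
  rw [classInner_fixedPointCharacter _ _ (interMat (finLabel hα) (finLabel hβ))
    (fun w w' => by simp only [mem_youngSubgroup hα, mem_youngSubgroup hβ, interMat_eq_iff]),
    range_interMat _ _ α β (card_finLabel_fiber hα) (card_finLabel_fiber hβ)]

theorem classInner_parabolicGL [Fintype (GL (Fin n) F)] {α β : Fin n → ℕ} (hα : ∑ i, α i = n)
    (hβ : ∑ i, β i = n) :
    classInner (fixedPointCharacter (parabolicGL n F α)) (fixedPointCharacter (parabolicGL n F β)) =
      Nat.card (ContTab α β) := by
  rw [classInner_fixedPointCharacter _ _ (rkInv (finLabel hα) (finLabel hβ))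
    (fun w w' => by simp only [mem_parabolicGL hα, mem_parabolicGL hβ,
      rkInv_eq_iff (finLabel_mono hα) (finLabel_mono hβ)]),
    card_range_rkInv (finLabel_mono hα) (finLabel_mono hβ),
    range_interMat _ _ α β (card_finLabel_fiber hα) (card_finLabel_fiber hβ)]

end Invariants

section Orders

variable {n : ℕ} {F : Type*} [Field F]

/-- The `q`-factorial. -/
def qfac (q m : ℕ) : ℕ := ∏ j ∈ Finset.range m, ∑ l ∈ Finset.range (j + 1), q ^ l

theorem qfac_pos {q : ℕ} (m : ℕ) : 0 < qfac q m :=
  Finset.prod_pos fun j _ => by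
    rw [Finset.sum_range_succ']
    simp

theorem pow_sub_one_eq {q : ℕ} (hq : 1 ≤ q) (m : ℕ) :
    q ^ m - 1 = (q - 1) * ∑ l ∈ Finset.range m, q ^ l := by
  have h1 : 1 ≤ q ^ m := Nat.one_le_pow _ _ hq
  zify [hq, h1]
  rw [mul_geom_sum]

theorem prod_pow_sub_pow {q : ℕ} (hq : 1 ≤ q) (m : ℕ) :
    ∏ k : Fin m, (q ^ m - q ^ (k : ℕ)) =
      q ^ (∑ k ∈ Finset.range m, k) * (q - 1) ^ m * qfac q m := by
  rw [Fin.prod_univ_eq_prod_range (fun k => q ^ m - q ^ k) m, qfac,
    ← Finset.prod_range_reflect (fun j => ∑ l ∈ Finset.range (j + 1), q ^ l) m,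
    ← Finset.prod_pow_eq_pow_sum,
    show (q - 1) ^ m = ∏ _k ∈ Finset.range m, (q - 1) by simp,
    ← Finset.prod_mul_distrib, ← Finset.prod_mul_distrib]
  refine Finset.prod_congr rfl fun k hk => ?_
  have hk' := Finset.mem_range.1 hk
  rw [show m - 1 - k + 1 = m - k by omega, mul_assoc, ← pow_sub_one_eq hq, Nat.mul_sub_one,
    ← pow_add, show k + (m - k) = m by omega]

theorem card_GL_eq [Finite F] {ι : Type*} [Fintype ι] [DecidableEq ι] {m : ℕ}
    (hm : Nat.card ι = m) : Nat.card (GL ι F) =
      Nat.card F ^ (∑ k ∈ Finset.range m, k) * (Nat.card F - 1) ^ m * qfac (Nat.card F) m := by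
  have := Fintype.ofFinite F
  rw [← prod_pow_sub_pow Nat.card_pos, Nat.card_eq_fintype_card (α := F), ← Matrix.card_GL_field]
  have e : ι ≃ Fin m := Finite.equivFinOfCardEq hm
  exact Nat.card_congr (Units.mapEquiv (Matrix.reindexAlgEquiv F F e).toMulEquiv).toEquiv

theorem card_blockTriangular (a : Fin n → Fin n) :
    Nat.card {g : GL (Fin n) F // (g : Matrix (Fin n) (Fin n) F).BlockTriangular a} =
      (∏ s, Nat.card (GL {i // a i = s} F)) *
        Nat.card F ^ Nat.card {p : Fin n × Fin n // a p.1 < a p.2} := by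
  let f : {g : GL (Fin n) F // (g : Matrix (Fin n) (Fin n) F).BlockTriangular a} →
      (∀ s, GL {i // a i = s} F) × ({p : Fin n × Fin n // a p.1 < a p.2} → F) := fun g =>
    (fun s => Matrix.GeneralLinearGroup.mkOfDetNeZero
      ((g.1 : Matrix (Fin n) (Fin n) F).toSquareBlock a s) (by
        have h := g.1.det_ne_zero
        rw [g.2.det_fintype] at h
        exact Finset.prod_ne_zero_iff.1 h s (Finset.mem_univ _)),
      fun p => (g.1 : Matrix (Fin n) (Fin n) F) p.1.1 p.1.2)
  have hf : Function.Bijective f := by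
    constructor
    · intro g g' h
      refine Subtype.ext (Units.ext (Matrix.ext fun i j => ?_))
      rcases lt_trichotomy (a i) (a j) with hij | hij | hij
      · exact congrFun (congrArg Prod.snd h) ⟨(i, j), hij⟩
      · have h1 : (f g).1 (a i) = (f g').1 (a i) := by rw [h]
        have h2 := congrArg (fun A : GL {k // a k = a i} F =>
          (A : Matrix {k // a k = a i} {k // a k = a i} F) ⟨i, rfl⟩ ⟨j, hij.symm⟩) h1
        exact h2
      · rw [g.2 hij, g'.2 hij]
    · rintro ⟨A, B⟩
      let M : Matrix (Fin n) (Fin n) F := Matrix.of fun i j =>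
        if h : a i = a j then (A (a i)).val ⟨i, rfl⟩ ⟨j, h.symm⟩
        else if h : a i < a j then B ⟨(i, j), h⟩ else 0
      have hM : M.BlockTriangular a := by
        intro i j hij
        simp [M, hij.ne', hij.not_gt]
      have hA : ∀ s, M.toSquareBlock a s = A s := by
        intro s
        ext ⟨i, rfl⟩ ⟨j, hj⟩
        simp [M, toSquareBlock, toSquareBlockProp, toBlock, hj]
      refine ⟨⟨Matrix.GeneralLinearGroup.mkOfDetNeZero M ?_, hM⟩, Prod.ext ?_ ?_⟩
      · rw [hM.det_fintype]
        exact Finset.prod_ne_zero_iff.2 fun s _ => by rw [hA]; exact (A s).det_ne_zero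
      · funext s
        exact Units.ext (hA s)
      · funext p
        change M p.1.1 p.1.2 = B p
        simp [M, p.2.ne, p.2]
  rw [Nat.card_eq_of_bijective f hf, Nat.card_prod, Nat.card_pi, Nat.card_fun]

theorem two_mul_sum_range_add (m : ℕ) : 2 * (∑ k ∈ Finset.range m, k) + m = m * m := by
  induction m with
  | zero => simp
  | succ m ih => rw [Finset.sum_range_succ]; nlinarith

theorem card_pairs_add (a : Fin n → Fin n) (μ : Fin n → ℕ) (hμ : ∑ i, μ i = n)
    (ha : ∀ s, Nat.card {i // a i = s} = μ s) :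
    ∑ s, ∑ k ∈ Finset.range (μ s), k + Nat.card {p : Fin n × Fin n // a p.1 < a p.2} =
      ∑ k ∈ Finset.range n, k := by
  have h1 : (Finset.univ.filter fun p : Fin n × Fin n => a p.2 < a p.1).card =
      (Finset.univ.filter fun p : Fin n × Fin n => a p.1 < a p.2).card :=
    Finset.card_equiv (Equiv.prodComm _ _) (by simp)
  have h2 : (Finset.univ.filter fun p : Fin n × Fin n => a p.1 = a p.2).card =
      ∑ s, μ s * μ s := by
    rw [Finset.card_eq_sum_card_fiberwise (f := fun p => a p.1) (t := Finset.univ) (by simp)]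
    refine Finset.sum_congr rfl fun s _ => ?_
    rw [← ha, Nat.card_eq_fintype_card, Fintype.card_subtype, ← Finset.card_product]
    congr 1
    ext p
    simp only [Finset.mem_filter, Finset.mem_univ, true_and, Finset.mem_product]
    constructor
    · rintro ⟨h, h'⟩; exact ⟨h', h ▸ h'⟩
    · rintro ⟨h, h'⟩; exact ⟨h.trans h'.symm, h⟩
  have h3 : (Finset.univ.filter fun p : Fin n × Fin n => a p.2 < a p.1).card +
      (Finset.univ.filter fun p : Fin n × Fin n => a p.1 < a p.2).card +
      (Finset.univ.filter fun p : Fin n × Fin n => a p.1 = a p.2).card = n * n := by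
    simp only [Finset.card_filter, ← Finset.sum_add_distrib]
    rw [Finset.sum_congr rfl (g := fun _ => 1)]
    · simp
    · intro p _
      simp only [Fin.lt_def, Fin.ext_iff]
      split_ifs <;> omega
  have h4 : 2 * ∑ s, ∑ k ∈ Finset.range (μ s), k + n = ∑ s, μ s * μ s := by
    rw [Finset.mul_sum]
    simp only [← two_mul_sum_range_add, Finset.sum_add_distrib, hμ]
  have h5 := two_mul_sum_range_add n
  rw [Nat.card_eq_fintype_card, Fintype.card_subtype]
  omega

theorem card_parabolicGL [Finite F] {μ : Fin n → ℕ} (hμ : ∑ i, μ i = n) :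
    Nat.card (parabolicGL n F μ) = Nat.card F ^ (∑ k ∈ Finset.range n, k) *
      (Nat.card F - 1) ^ n * ∏ s, qfac (Nat.card F) (μ s) := by
  have h := card_blockTriangular (F := F) (finLabel hμ)
  simp only [fun s => card_GL_eq (F := F) (card_finLabel_fiber hμ s), Finset.prod_mul_distrib,
    Finset.prod_pow_eq_pow_sum, hμ] at h
  rw [← card_pairs_add _ μ hμ (card_finLabel_fiber hμ), pow_add]
  exact h.trans (by ring)

theorem index_parabolicGL [Finite F] {μ : Fin n → ℕ} (hμ : ∑ i, μ i = n) :
    Nat.card (GL (Fin n) F ⧸ parabolicGL n F μ) * ∏ s, qfac (Nat.card F) (μ s) =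
      qfac (Nat.card F) n := by
  have h := Subgroup.card_eq_card_quotient_mul_card_subgroup (parabolicGL n F μ)
  rw [card_parabolicGL hμ, card_GL_eq (m := n) (by simp)] at h
  have h1 : 1 < Nat.card F := Finite.one_lt_card
  have hpos : 0 < Nat.card F ^ (∑ k ∈ Finset.range n, k) * (Nat.card F - 1) ^ n :=
    Nat.mul_pos (pow_pos (by omega) _) (pow_pos (by omega) _)
  refine Nat.eq_of_mul_eq_mul_left hpos ?_
  rw [h]
  ring

end Orders

end Cfsg.Agent.H75
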