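import Cfsg.Agent.H78.G40A

/-! Project L40G, piece ACT: the action of the normalizer on `SL₂(3)`. -/

set_option autoImplicit false
set_option maxRecDepth 100000

namespace Cfsg.Agent.H75.G40Act

open Subgroup Cfsg.Agent.H46.L40 Cfsg.Agent.H78.G40

universe u

attribute [local instance 2000] List.decidableBAll List.decidableBEx

/-- The block embedding. -/
def emb (A : Matrix (Fin 2) (Fin 2) (ZMod 3)) : Matrix (Fin 3) (Fin 3) (ZMod 3) :=
  !![A 0 0, A 0 1, 0; A 1 0, A 1 1, 0; 0, 0, 1]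

theorem emb_mul (A B : Matrix (Fin 2) (Fin 2) (ZMod 3)) : emb (A * B) = emb A * emb B := by
  ext i j
  fin_cases i <;> fin_cases j <;> simp [emb, Matrix.mul_apply, Fin.sum_univ_succ]

theorem ex_emb {m : S3} (hm : m ∈ K12) :
    ∃ M : Matrix (Fin 2) (Fin 2) (ZMod 3), emb M = m.1 := by
  induction hm using closure_induction'' with
  | mem x hx =>
    rcases hx with rfl | rfl
    · exact ⟨!![1, 1; 0, 1], by decide +kernel⟩
    · exact ⟨!![1, 0; 1, 1], by decide +kernel⟩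
  | inv_mem x hx =>
    rcases hx with rfl | rfl
    · exact ⟨!![1, 2; 0, 1], by decide +kernel⟩
    · exact ⟨!![1, 0; 2, 1], by decide +kernel⟩
  | one => exact ⟨1, by decide +kernel⟩
  | mul x y _ _ hx hy =>
    obtain ⟨M, h2⟩ := hx
    obtain ⟨N, h4⟩ := hy
    exact ⟨M * N, by rw [emb_mul, h2, h4]; rfl⟩

set_option synthInstance.maxSize 1000 in
theorem k1 : ∀ Y : Matrix (Fin 2) (Fin 2) (ZMod 3), emb Y * emb Y * emb Y = 1 →
    (a0 * z0).1 * emb Y * (a0 * z0).1 * emb Y = 1 →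
    ∀ Y' : Matrix (Fin 2) (Fin 2) (ZMod 3), emb Y' * emb Y' * emb Y' = 1 →
    (a0 * z0).1 * emb Y' * (a0 * z0).1 * emb Y' = 1 →
    ∀ W ∈ [emb Y * emb Y'], W * W ≠ 1 → W * W * (W * W) = 1 →
    ∃ c ∈ [1, a0, w0 * a0, w0], (c * x12).1 = emb Y * c.1 ∧ (c * x21).1 = emb Y' * c.1 := by
  decide +kernel

set_option synthInstance.maxSize 1000 in
theorem k2 : ∀ x ∈ [x12, x21], x * x * x = 1 ∧ a0 * x * a0 * x = 1 ∧
    (∀ v ∈ [w0, q0], ∃ u ∈ [w0, q0, w0 * q0, q0 * w0, w0 * w0 * w0, q0 * q0 * q0], x * v = u * x) ∧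
    ∀ Y : Matrix (Fin 2) (Fin 2) (ZMod 3), emb Y * emb Y * emb Y = 1 →
      (∀ v ∈ [w0, q0], (x * x).1 * emb Y * v.1 = v.1 * (x * x).1 * emb Y) → emb Y = x.1 := by
  decide +kernel

theorem k3 : ∀ W ∈ [x12 * x21], W * W ≠ 1 ∧ W * W * (W * W) = 1 := by
  decide +kernel

theorem act : ActS.{u} := by
  intro G _ φ hφ s hs
  let e := MulAut.conj s
  have ex : ∀ x ∈ K12, ∃ y : S3, (∃ M : Matrix (Fin 2) (Fin 2) (ZMod 3), emb M = y.1) ∧
      φ y = e (φ x) := fun x hx => by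
    obtain ⟨y, hy, h⟩ := (mem_normalizer_iff.1 hs (φ x)).1 ⟨x, hx, rfl⟩
    exact ⟨y, ex_emb hy, h⟩
  obtain ⟨y, ⟨Y, hY⟩, hy⟩ := ex x12 (subset_closure (by simp))
  obtain ⟨y', ⟨Y', hY'⟩, hy'⟩ := ex x21 (subset_closure (by simp))
  have p1 := k2 x12 (by simp)
  have p2 := k2 x21 (by simp)
  have c3 : ∀ x y, φ y = e (φ x) → x * x * x = 1 → y.1 * y.1 * y.1 = 1 := fun x y h h3 =>
    congrArg Subtype.val (show y * y * y = 1 from hφ (by
      simp only [map_mul, h, map_one]; simp only [← map_mul, h3, map_one]))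
  refine ⟨fun ha => ?_, fun hw hq => ?_⟩
  · have ha' : φ (a0 * z0) = e (φ a0) := ha.symm
    have ci : ∀ x y, φ y = e (φ x) → a0 * x * a0 * x = 1 →
        (a0 * z0).1 * y.1 * (a0 * z0).1 * y.1 = 1 := fun x y h h3 =>
      congrArg Subtype.val (show a0 * z0 * y * (a0 * z0) * y = 1 from hφ (by
        rw [map_mul, map_mul, map_mul, ha', h, map_one]; simp only [← map_mul, h3, map_one]))
    have hW : φ (y * y') = e (φ (x12 * x21)) := by simp only [map_mul, hy, hy']
    obtain ⟨q1, q2⟩ := k3 _ (List.mem_singleton_self _)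
    obtain ⟨c, hc, e1, e2⟩ := k1 Y (hY ▸ c3 _ _ hy p1.1) (hY ▸ ci _ _ hy p1.2.1)
      Y' (hY' ▸ c3 _ _ hy' p2.1) (hY' ▸ ci _ _ hy' p2.2.1) (y * y').1
      (by rw [hY, hY']; exact List.mem_singleton_self _)
      (fun h => q1 (hφ (e.injective (by
        rw [map_mul, map_mul, ← hW, ← map_mul,
          show y * y' * (y * y') = 1 from Subtype.ext h, map_one, map_one]))))
      (congrArg Subtype.val (show y * y' * (y * y') * (y * y' * (y * y')) = 1 from hφ (by
        rw [map_mul, map_mul, hW, map_one]; simp only [← map_mul, q2, map_one])))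
    rw [hY] at e1
    rw [hY'] at e2
    refine ⟨c, by simpa [Act4] using hc, ?_, ?_⟩
    · rw [show c * x12 = y * c from Subtype.ext e1, mul_inv_cancel_right]; exact hy.symm
    · rw [show c * x21 = y' * c from Subtype.ext e2, mul_inv_cancel_right]; exact hy'.symm
  · have hw' : e (φ w0) = φ w0 := mul_inv_eq_iff_eq_mul.2 hw
    have hq' : e (φ q0) = φ q0 := mul_inv_eq_iff_eq_mul.2 hq
    have fx : ∀ u ∈ [w0, q0, w0 * q0, q0 * w0, w0 * w0 * w0, q0 * q0 * q0], e (φ u) = φ u := by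
      simp only [List.forall_mem_cons, map_mul, hw', hq', List.not_mem_nil, false_imp_iff,
        implies_true, and_self]
    have key : ∀ x ∈ [x12, x21], ∀ (y : S3) (Y : Matrix (Fin 2) (Fin 2) (ZMod 3)),
        emb Y = y.1 → φ y = e (φ x) → s * φ x = φ x * s := fun x hx y Y hY hy => by
      obtain ⟨p1, -, p2, p3⟩ := k2 x hx
      have : y = x := Subtype.ext (hY ▸ p3 Y (hY ▸ c3 _ _ hy p1) fun v hv => by
        obtain ⟨u, hu, h1⟩ := p2 v hv
        have h2 : y * v = u * y := hφ (by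
          rw [map_mul, map_mul, hy, ← fx u hu, ← fx v (by
            rcases List.mem_pair.1 hv with rfl | rfl <;> simp), ← map_mul, ← map_mul, h1, map_mul,
            map_mul])
        have h3 : x * x = x⁻¹ := eq_inv_of_mul_eq_one_left p1
        rw [hY]
        exact congrArg Subtype.val (show x * x * y * v = v * (x * x) * y by
          rw [h3, mul_assoc, h2, eq_mul_inv_of_mul_eq h1.symm]; group))
      exact mul_inv_eq_iff_eq_mul.1 (this ▸ hy.symm)
    exact ⟨key x12 (by simp) y Y hY hy, key x21 (by simp) y' Y' hY' hy'⟩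

theorem eqns_G40Act : True := by
  have := @emb.eq_1
  trivial

end Cfsg.Agent.H75.G40Act
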