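import Cfsg.Agent.H76.K4Defs

/-! A lattice inequality in dimension four with odd modulus. -/

set_option autoImplicit false

namespace Cfsg.Agent.H75.K4Ar4

/-- the hypothesis -/
def Hyp (q x y z : ℤ) : Prop := ∀ w1 w2 w3 : ℤ, (x * w1 + y * w2 + z * w3) *
  (x * w1 + y * w2 + z * w3 + 1) ≤ q * (w1 ^ 2 + w2 ^ 2 + w3 ^ 2)

theorem eqns_Hyp : True := by have := @Hyp.eq_1; trivial

theorem m3 {y : ℤ} (hy : y % 2 = 1) (b : ¬ (y % 8 = 1 ∨ y % 8 = 7)) :
    (3 * y) % 8 = 1 ∨ (3 * y) % 8 = 8 - 1 := by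
  rcases (by omega : y % 8 = 3 ∨ y % 8 = 5) with h | h <;> norm_num [Int.mul_emod, h]

theorem cond2 {q x y z : ℤ} (hq : q = 1 + x ^ 2 + y ^ 2 + z ^ 2) (H : Hyp q x y z) (N l e f g : ℤ)
    (h1 : N ∣ l * x + e) (h2 : N ∣ l * y + f) (h3 : N ∣ l * z + g) :
    ∃ t : ℤ, t ^ 2 + (N - 2 * l) * t + (N * l - l ^ 2 - (e ^ 2 + f ^ 2 + g ^ 2)) * (q - 1) ≤
      e ^ 2 + f ^ 2 + g ^ 2 := by
  obtain ⟨u, hu⟩ := h1
  obtain ⟨v, hv⟩ := h2
  obtain ⟨w, hw⟩ := h3
  have h := mul_le_mul_of_nonneg_left (H u v w) (sq_nonneg N)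
  have he : e = N * u - l * x := by linarith
  have hf : f = N * v - l * y := by linarith
  have hg : g = N * w - l * z := by linarith
  refine ⟨e * x + f * y + g * z, ?_⟩
  subst he hf hg hq
  nlinarith [h]

theorem sgn (N l x r : ℤ) (h : (l * x) % N = r ∨ (l * x) % N = N - r) :
    ∃ e : ℤ, e ^ 2 = r ^ 2 ∧ N ∣ l * x + e := by
  rcases h with h | h
  · exact ⟨-r, by ring, (l * x) / N, by have := Int.mul_ediv_add_emod (l * x) N; linarith⟩
  · exact ⟨r, rfl, (l * x) / N + 1, by have := Int.mul_ediv_add_emod (l * x) N; linarith⟩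

theorem use {q x y z : ℤ} (hq : q = 1 + x ^ 2 + y ^ 2 + z ^ 2) (H : Hyp q x y z) (N l r s k : ℤ)
    (h1 : (l * x) % N = r ∨ (l * x) % N = N - r) (h2 : (l * y) % N = s ∨ (l * y) % N = N - s)
    (h3 : (l * z) % N = k ∨ (l * z) % N = N - k) :
    ∃ t : ℤ, t ^ 2 + (N - 2 * l) * t + (N * l - l ^ 2 - (r ^ 2 + s ^ 2 + k ^ 2)) * (q - 1) ≤
      r ^ 2 + s ^ 2 + k ^ 2 := by
  obtain ⟨e, he, h1⟩ := sgn N l x r h1
  obtain ⟨f, hf, h2⟩ := sgn N l y s h2
  obtain ⟨g, hg, h3⟩ := sgn N l z k h3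
  have := cond2 hq H N l e f g h1 h2 h3
  rwa [he, hf, hg] at this

theorem two_odd {q x y z : ℤ} (hq : q = 1 + x ^ 2 + y ^ 2 + z ^ 2) (H : Hyp q x y z)
    (hx : x % 2 = 1) (hy : y % 2 = 1) (hz : z % 2 = 0) : q ≤ 16 ∧ (z % 4 = 0 → q ≤ 4) := by
  have h4 : z % 4 = 0 → q ≤ 4 := by
    intro h
    obtain ⟨t, ht⟩ := use hq H 4 1 1 1 0 (by omega) (by omega) (by omega)
    nlinarith [sq_nonneg (t + 1)]
  refine ⟨?_, h4⟩
  by_cases h : z % 4 = 0
  · linarith [h4 h]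
  by_cases a : x % 8 = 1 ∨ x % 8 = 7 <;> by_cases b : y % 8 = 1 ∨ y % 8 = 7
  · obtain ⟨t, ht⟩ := use hq H 8 1 1 1 2 (by omega) (by omega) (by omega)
    nlinarith [sq_nonneg (t + 3)]
  · obtain ⟨t, ht⟩ := use hq H 8 3 3 1 2 (by omega) (m3 hy b) (by omega)
    nlinarith [sq_nonneg (t + 1)]
  · obtain ⟨t, ht⟩ := use hq H 8 3 1 3 2 (m3 hx a) (by omega) (by omega)
    nlinarith [sq_nonneg (t + 1)]
  · obtain ⟨t, ht⟩ := use hq H 8 3 1 1 2 (m3 hx a) (m3 hy b) (by omega)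
    nlinarith [sq_nonneg (t + 1)]

theorem fin {q x y z : ℤ} (hq : q = 1 + x ^ 2 + y ^ 2 + z ^ 2) (H : Hyp q x y z)
    (hx : x % 2 = 1) (hy : y % 2 = 1) (hz : z % 2 = 0) : q = 3 ∨ q = 7 ∨ q = 15 := by
  obtain ⟨h1, h2⟩ := two_odd hq H hx hy hz
  have bx : x ≤ 3 := by nlinarith [sq_nonneg y, sq_nonneg z]
  have bx' : -3 ≤ x := by nlinarith [sq_nonneg y, sq_nonneg z]
  have b1 : y ≤ 3 := by nlinarith [sq_nonneg x, sq_nonneg z]
  have b1' : -3 ≤ y := by nlinarith [sq_nonneg x, sq_nonneg z]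
  have bz : z ≤ 3 := by nlinarith [sq_nonneg y, sq_nonneg x]
  have bz' : -3 ≤ z := by nlinarith [sq_nonneg y, sq_nonneg x]
  interval_cases x <;> interval_cases y <;> interval_cases z <;> omega

theorem ar (q x y z : ℤ) (hq : q = 1 + x ^ 2 + y ^ 2 + z ^ 2) (hodd : Odd q)
    (H : Hyp q x y z) : q = 1 ∨ q = 3 ∨ q = 7 ∨ q = 15 := by
  have sq : ∀ w : ℤ, w ^ 2 % 2 = w % 2 := fun w => by
    rcases Int.emod_two_eq_zero_or_one w with h | h <;> simp [pow_two, Int.mul_emod, h]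
  have hx := sq x
  have hy := sq y
  have hz := sq z
  have ho := Int.odd_iff.1 hodd
  rcases Int.emod_two_eq_zero_or_one x with a | a <;> rcases Int.emod_two_eq_zero_or_one y with b | b <;>
    rcases Int.emod_two_eq_zero_or_one z with c | c
  · obtain ⟨t, ht⟩ := use hq H 2 1 0 0 0 (by omega) (by omega) (by omega)
    left
    nlinarith [sq_nonneg t, sq_nonneg x, sq_nonneg y, sq_nonneg z]
  · omega
  · omega
  · exact Or.inr (fin (x := y) (y := z) (z := x) (by linarith)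
      (fun u v w => by nlinarith [H w u v]) b c a)
  · omega
  · exact Or.inr (fin (x := x) (y := z) (z := y) (by linarith)
      (fun u v w => by nlinarith [H u w v]) a c b)
  · exact Or.inr (fin hq H a b c)
  · omega

theorem sq8 (w : ℤ) : w ^ 2 % 8 = 0 ∨ w ^ 2 % 8 = 1 ∨ w ^ 2 % 8 = 4 := by
  rcases (by omega : w % 8 = 0 ∨ w % 8 = 1 ∨ w % 8 = 2 ∨ w % 8 = 3 ∨ w % 8 = 4 ∨ w % 8 = 5 ∨
    w % 8 = 6 ∨ w % 8 = 7) with h | h | h | h | h | h | h | h <;> simp [pow_two, Int.mul_emod, h]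

theorem ar4 : Cfsg.Agent.H76.K4.Ar4Stmt := by
  rintro p n hp ⟨x, y, z, mx, my, mz, hq, hm, H, -⟩
  have h1 : p ^ n ≠ 1 := by
    intro h
    rw [h] at hq
    push_cast at hq
    have hx : x = 0 := by nlinarith [sq_nonneg x, sq_nonneg y, sq_nonneg z]
    have hy : y = 0 := by nlinarith [sq_nonneg x, sq_nonneg y, sq_nonneg z]
    have hz : z = 0 := by nlinarith [sq_nonneg x, sq_nonneg y, sq_nonneg z]
    rw [hx, hy, hz] at hm
    simp at hm
  rcases hp.eq_two_or_odd' with rfl | ho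
  · rcases n with _ | _ | _ | n
    · simp at h1
    · simp
    · simp
    · exfalso
      have e : ((2 ^ (n + 1 + 1 + 1) : ℕ) : ℤ) = 8 * 2 ^ n := by push_cast; ring
      rw [e] at hq
      have := sq8 x
      have := sq8 y
      have := sq8 z
      omega
  · have hodd : Odd ((p ^ n : ℕ) : ℤ) := by exact_mod_cast ho.pow
    rcases ar _ x y z hq hodd H with h | h | h | h
    · exact absurd (by exact_mod_cast h) h1
    · exact Or.inr (Or.inl (by exact_mod_cast h))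
    · exact Or.inr (Or.inr (Or.inr (by exact_mod_cast h)))
    · exfalso
      have h' : p ^ n = 15 := by exact_mod_cast h
      have h3 : 3 = p := (Nat.prime_dvd_prime_iff_eq Nat.prime_three hp).1
        (Nat.prime_three.dvd_of_dvd_pow (h' ▸ (by norm_num : 3 ∣ 15)))
      have h5 : 5 = p := (Nat.prime_dvd_prime_iff_eq Nat.prime_five hp).1
        (Nat.prime_five.dvd_of_dvd_pow (h' ▸ (by norm_num : 5 ∣ 15)))
      omega

end Cfsg.Agent.H75.K4Ar4
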