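import Cfsg.Agent.H44.K5Defs

/-! A neighbour lattice of `ℤ ^ 5`. -/

set_option autoImplicit false

namespace Cfsg.Agent.H75.K5Nei

open Matrix Cfsg.Agent.H44.K5

theorem sq8 (w : ℤ) : (w % 2 = 0 ∧ (w ^ 2 % 8 = 0 ∨ w ^ 2 % 8 = 4)) ∨ (w % 2 = 1 ∧ w ^ 2 % 8 = 1) := by
  have h2 : w % 2 = w % 8 % 2 := by omega
  rcases (by omega : w % 8 = 0 ∨ w % 8 = 1 ∨ w % 8 = 2 ∨ w % 8 = 3 ∨ w % 8 = 4 ∨ w % 8 = 5 ∨
    w % 8 = 6 ∨ w % 8 = 7) with h | h | h | h | h | h | h | h <;> simp [h2, pow_two, Int.mul_emod, h]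

theorem row (uni : UniStmt) (p x y z t c k r : ℤ) (hp0 : p ≠ 0) (hpo : p % 2 = 1)
    (hN : 1 + x ^ 2 + y ^ 2 + z ^ 2 + t ^ 2 = p ^ 2 * r) (hc : c * x = 1 + p * k) :
    ∃ α β γ δ ε : ℤ, (p ^ 2 * α + (c + p * k * x) * β - p * y * γ - p * z * δ - p * t * ε) % 2 = 1 ∧
      (p ^ 2 * α + (c + p * k * x) * β - p * y * γ - p * z * δ - p * t * ε) ^ 2 + β ^ 2 +
        (c * y * β + p * γ) ^ 2 + (c * z * β + p * δ) ^ 2 + (c * t * β + p * ε) ^ 2 = p ^ 2 := by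
  let B : Matrix (Fin 5) (Fin 5) ℤ := !![p ^ 2, 0, 0, 0, 0; c + p * k * x, 1, c * y, c * z, c * t;
    -(p * y), 0, p, 0, 0; -(p * z), 0, 0, p, 0; -(p * t), 0, 0, 0, p]
  let A : Matrix (Fin 5) (Fin 5) ℤ := !![p ^ 2, c + p * k * x, -(p * y), -(p * z), -(p * t);
    c + p * k * x, c ^ 2 * r + k ^ 2 * (1 + x ^ 2), -(k * x * y), -(k * x * z), -(k * x * t);
    -(p * y), -(k * x * y), y ^ 2 + 1, y * z, y * t;
    -(p * z), -(k * x * z), y * z, z ^ 2 + 1, z * t;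
    -(p * t), -(k * x * t), y * t, z * t, t ^ 2 + 1]
  have hB : B.det = p ^ 5 := by
    simp [B, Matrix.det_succ_row_zero, Fin.sum_univ_succ, Fin.succAbove]
    ring
  have hBA : B * Bᵀ = (p ^ 2) • A := by
    ext i j
    fin_cases i <;> fin_cases j <;> simp [A, B, Matrix.mul_apply, Fin.sum_univ_succ] <;>
      first
        | ring1
        | linear_combination c ^ 2 * hN - (c * x - p * k + 1) * hc
  have hAt : Aᵀ = A := by
    ext i j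
    fin_cases i <;> fin_cases j <;> simp [A]
  have hdet : A.det = 1 := by
    have h := congrArg Matrix.det hBA
    rw [det_mul, det_transpose, hB, det_smul, Fintype.card_fin] at h
    have h2 : (p ^ 2) ^ 5 * A.det = (p ^ 2) ^ 5 * 1 := by rw [← h]; ring
    exact mul_left_cancel₀ (pow_ne_zero _ (pow_ne_zero _ hp0)) h2
  have hpos : ∀ w : Fin 5 → ℤ, w ≠ 0 → 0 < w ⬝ᵥ A *ᵥ w := by
    intro w hw
    have h1 : p ^ 2 * (w ⬝ᵥ A *ᵥ w) = (Bᵀ *ᵥ w) ⬝ᵥ (Bᵀ *ᵥ w) := by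
      rw [← smul_eq_mul, ← dotProduct_smul, ← smul_mulVec, ← hBA, ← mulVec_mulVec,
        dotProduct_mulVec, ← mulVec_transpose]
    have h2 : Bᵀ *ᵥ w ≠ 0 := fun h => hw (Matrix.eq_zero_of_mulVec_eq_zero
      (by rw [det_transpose, hB]; exact pow_ne_zero _ hp0) h)
    have h3 : 0 ≤ (Bᵀ *ᵥ w) ⬝ᵥ (Bᵀ *ᵥ w) := Finset.sum_nonneg fun i _ => mul_self_nonneg _
    have h4 : (Bᵀ *ᵥ w) ⬝ᵥ (Bᵀ *ᵥ w) ≠ 0 := fun h => h2 (dotProduct_self_eq_zero.1 h)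
    have h5 : 0 < p ^ 2 * (w ⬝ᵥ A *ᵥ w) := by rw [h1]; exact lt_of_le_of_ne h3 h4.symm
    exact (mul_pos_iff_of_pos_left (by positivity)).1 h5
  obtain ⟨U, hU⟩ := uni 5 le_rfl A hAt hpos hdet
  have hW : (Uᵀ * B) * (Uᵀ * B)ᵀ = (p ^ 2) • (1 : Matrix (Fin 5) (Fin 5) ℤ) := by
    rw [transpose_mul, transpose_transpose, ← hU, Matrix.mul_assoc, ← Matrix.mul_assoc B, hBA,
      Matrix.smul_mul, Matrix.mul_smul, Matrix.mul_assoc]
  obtain ⟨i, hi⟩ : ∃ i, ¬ 2 ∣ (Uᵀ * B) i 0 := by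
    by_contra h
    push Not at h
    have h1 : (2 : ℤ) ∣ (Uᵀ * B).det := by
      rw [Matrix.det_succ_column_zero]
      exact Finset.dvd_sum fun i _ => ((h i).mul_left _).mul_right _
    have h2 := congrArg Matrix.det hW
    rw [det_mul (Uᵀ * B), det_transpose, det_smul, det_one, mul_one, ← pow_mul] at h2
    have h3 : (2 : ℤ) ∣ p := Int.prime_two.dvd_of_dvd_pow (h2 ▸ h1.mul_right _)
    omega
  have h := congrFun (congrFun hW i) i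
  rw [Matrix.mul_apply] at h
  simp only [transpose_apply] at h
  simp [B, Matrix.mul_apply, Fin.sum_univ_succ] at h hi
  refine ⟨U 0 i, U 1 i, U 2 i, U 3 i, U 4 i, ?_, by linear_combination h⟩
  rw [← hi]
  congr 1
  ring

theorem nei (uni : UniStmt) : NeiStmt := by
  intro p hp hp2 x0 y z t hx ⟨s, hs⟩
  have hP : Prime (p : ℤ) := Nat.prime_iff_prime_int.1 hp
  have hpo : (p : ℤ) % 2 = 1 := by have := hp.eq_two_or_odd.resolve_left hp2; omega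
  have h2 : ¬ (p : ℤ) ∣ 2 := fun h => hp2 ((Nat.prime_dvd_prime_iff_eq hp Nat.prime_two).1
    (by exact_mod_cast h))
  have half : ∀ m : ℤ, (p : ℤ) ∣ 2 * m → (p : ℤ) ∣ m := fun m h => (hP.dvd_or_dvd h).resolve_left h2
  obtain ⟨u, v, huv⟩ := hP.irreducible.coprime_iff_not_dvd.2 (fun h => hx (half _ h))
  obtain ⟨x, hxx⟩ : ∃ x : ℤ, x = x0 - p * (s * v) := ⟨_, rfl⟩
  have hN : 1 + x ^ 2 + y ^ 2 + z ^ 2 + t ^ 2 = (p : ℤ) ^ 2 * (s * u + (s * v) ^ 2) := by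
    rw [hxx]; linear_combination hs - p * s * huv
  have hc : (2 * v) * x = 1 + p * (-u - 2 * v * (s * v)) := by rw [hxx]; linear_combination huv
  generalize 2 * v = c at hc
  generalize -u - c * (s * v) = k at hc
  obtain ⟨α, β, γ, δ, ε, ho, hn⟩ := row uni p x y z t c k _ hP.ne_zero hpo hN hc
  obtain ⟨w0, hw0⟩ : ∃ w : ℤ, w = p ^ 2 * α + (c + p * k * x) * β - p * y * γ - p * z * δ - p * t * ε :=
    ⟨_, rfl⟩
  obtain ⟨w2, hw2⟩ : ∃ w : ℤ, w = c * y * β + p * γ := ⟨_, rfl⟩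
  obtain ⟨w3, hw3⟩ : ∃ w : ℤ, w = c * z * β + p * δ := ⟨_, rfl⟩
  obtain ⟨w4, hw4⟩ : ∃ w : ℤ, w = c * t * β + p * ε := ⟨_, rfl⟩
  rw [← hw0] at ho
  rw [← hw0, ← hw2, ← hw3, ← hw4] at hn
  have e0 := sq8 w0
  have e1 := sq8 β
  have e2 := sq8 w2
  have e3 := sq8 w3
  have e4 := sq8 w4
  have ep := sq8 p
  obtain ⟨a, ha⟩ : (2 : ℤ) ∣ p + w0 := by omega
  obtain ⟨b, hb⟩ : (2 : ℤ) ∣ β := by omega
  obtain ⟨c', hc'⟩ : (2 : ℤ) ∣ w2 := by omega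
  obtain ⟨d, hd⟩ : (2 : ℤ) ∣ w3 := by omega
  obtain ⟨e, he⟩ : (2 : ℤ) ∣ w4 := by omega
  obtain ⟨m, hm⟩ : ∃ m : ℤ, w0 = c * β + p * m :=
    ⟨p * α + k * x * β - y * γ - z * δ - t * ε, by rw [hw0]; ring⟩
  refine ⟨a, b, c', d, e, ?_, half _ ⟨-(k * β) - (1 + m) * x - 2 * a * (s * v), ?_⟩,
    half _ ⟨γ - (1 + m) * y, ?_⟩, half _ ⟨δ - (1 + m) * z, ?_⟩, half _ ⟨ε - (1 + m) * t, ?_⟩, ?_⟩
  · rintro ⟨j, hj⟩
    have h3 : w0 = p * (2 * j - 1) := by linear_combination ha + 2 * hj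
    have hne : 2 * j - 1 ≠ 0 := by omega
    have h4 : 1 ≤ (2 * j - 1) ^ 2 := (one_le_sq_iff_one_le_abs _).2 (Int.one_le_abs hne)
    have h5 : (p : ℤ) ^ 2 ≤ w0 ^ 2 := by
      rw [h3, mul_pow]; exact le_mul_of_one_le_right (sq_nonneg _) h4
    have b0 : β = 0 := pow_eq_zero_iff two_ne_zero |>.1 (le_antisymm
      (by linarith only [hn, h5, sq_nonneg β, sq_nonneg w2, sq_nonneg w3, sq_nonneg w4]) (sq_nonneg _))
    have b2 : w2 = 0 := pow_eq_zero_iff two_ne_zero |>.1 (le_antisymm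
      (by linarith only [hn, h5, sq_nonneg β, sq_nonneg w2, sq_nonneg w3, sq_nonneg w4]) (sq_nonneg _))
    have b3 : w3 = 0 := pow_eq_zero_iff two_ne_zero |>.1 (le_antisymm
      (by linarith only [hn, h5, sq_nonneg β, sq_nonneg w2, sq_nonneg w3, sq_nonneg w4]) (sq_nonneg _))
    have b4 : w4 = 0 := pow_eq_zero_iff two_ne_zero |>.1 (le_antisymm
      (by linarith only [hn, h5, sq_nonneg β, sq_nonneg w2, sq_nonneg w3, sq_nonneg w4]) (sq_nonneg _))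
    have h6 : w0 = p ^ 2 * α := by
      linear_combination hw0 + (c + p * k * x) * b0 + y * hw2 + z * hw3 + t * hw4 - y * b2 - z * b3 -
        t * b4 + c * (y ^ 2 + z ^ 2 + t ^ 2) * b0
    have h7 : (p : ℤ) ^ 2 * (p * (p * α ^ 2)) = p ^ 2 * 1 := by
      rw [b0, b2, b3, b4, h6] at hn; linear_combination hn
    exact hP.not_dvd_one ⟨_, (mul_left_cancel₀ (pow_ne_zero 2 hP.ne_zero) h7).symm⟩
  · linear_combination (-1 : ℤ) * hb + x * ha - x * hm - β * hc + 2 * a * hxx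
  · linear_combination (-1 : ℤ) * hc' + hw2 + y * ha - y * hm
  · linear_combination (-1 : ℤ) * hd + hw3 + z * ha - z * hm
  · linear_combination (-1 : ℤ) * he + hw4 + t * ha - t * hm
  · have h8 : w0 = 2 * a - p := by linarith only [ha]
    rw [h8, hb, hc', hd, he] at hn
    have h9 : 4 * ((p : ℤ) * a) = 4 * (a ^ 2 + b ^ 2 + c' ^ 2 + d ^ 2 + e ^ 2) := by
      linear_combination (-1 : ℤ) * hn
    linarith only [h9]

end Cfsg.Agent.H75.K5Nei
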