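import Cfsg.Agent.H40.L3K2

/-! Project L33: the action on `F'` modulo its centre. -/

set_option autoImplicit false
set_option linter.unusedSectionVars false

namespace Cfsg.Agent.H75.L3F

open Subgroup Cfsg.Agent.H40.L3

universe u

/-- coordinates on `F' / ⟨γ, z⟩` -/
abbrev V4 := Bool × Bool × Bool × Bool

def ad (u v : V4) : V4 := (u.1 ^^ v.1, u.2.1 ^^ v.2.1, u.2.2.1 ^^ v.2.2.1, u.2.2.2 ^^ v.2.2.2)

def cl (m : M false) : V4 := (m.t, m.b, m.d ^^ m.w, m.a)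

theorem cl_mul : ∀ m ∈ (M.sFp : Subgroup (M false)), ∀ n ∈ (M.sFp : Subgroup (M false)),
    cl (m * n) = ad (cl m) (cl n) := by decide +kernel

def φx (ty : Bool) (v : V4) : V4 :=
  (v.1 ^^ (!ty && v.2.2.1), v.2.1 ^^ v.2.2.1, v.2.2.1,
    v.2.2.2 ^^ v.1 ^^ (!ty && v.2.1) ^^ (ty && v.2.2.1))

def φq (v : V4) : V4 := (v.1, v.2.1, v.2.2.1 ^^ v.2.2.2, v.2.2.2)

def φ0 (ty : Bool) : V4 → V4 :=
  bif ty then φx ty ∘ φq ∘ φx ty ∘ φq ∘ φx ty else φx ty ∘ φq ∘ φx ty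

variable {G : Type u} [Group G] (D : D2 G false)

/-- the image of `m` under `g` has the class `v` -/
def Im (g : G) (m : M false) (v : V4) : Prop :=
  ∃ n ∈ (M.sFp : Subgroup (M false)), g * D.ι m * g⁻¹ = D.ι n ∧ cl n = v

/-- `g` acts on `F'` modulo its centre as `φ` -/
structure Ac (g : G) (φ : V4 → V4) (c : Bool) : Prop where
  z : g * D.ι .Z = D.ι .Z * g
  γ : g * D.ι .Gm * g⁻¹ = D.ι (.Gm * bp .Z c)
  im : ∀ m ∈ (M.sFp : Subgroup (M false)), Im D g m (φ (cl m))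

variable {D}

theorem cj_mul (g : G) (m n : M false) :
    g * D.ι (m * n) * g⁻¹ = g * D.ι m * g⁻¹ * (g * D.ι n * g⁻¹) := by rw [map_mul]; group

theorem cj_of {g x : G} (h : g * x = x * g) : g * x * g⁻¹ = x := by rw [h, mul_inv_cancel_right]

theorem cj_bp {g : G} (h : g * D.ι .Z = D.ι .Z * g) (c : Bool) :
    g * D.ι (bp .Z c) * g⁻¹ = D.ι (bp .Z c) := by
  cases c
  · simp [bp]
  · exact cj_of h

theorem Im.mul {g : G} {m m' : M false} {v v' : V4} (h : Im D g m v) (h' : Im D g m' v') :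
    Im D g (m * m') (ad v v') := by
  obtain ⟨n, hn, e, rfl⟩ := h
  obtain ⟨n', hn', e', rfl⟩ := h'
  exact ⟨n * n', mul_mem hn hn', by rw [cj_mul, e, e', map_mul], cl_mul n hn n' hn'⟩

theorem Im.of_ez {g : G} {m n : M false} (h : ez D.ι (g * D.ι m * g⁻¹) n)
    (hn : n ∈ (M.sFp : Subgroup (M false))) : Im D g m (cl n) := by
  rcases h with h | h
  · exact ⟨n, hn, h, rfl⟩
  · refine ⟨_, mul_mem hn (by decide +kernel), h, ?_⟩
    clear h
    revert n
    decide +kernel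

theorem Im.of_comm {g : G} {m : M false} (h : g * D.ι m = D.ι m * g)
    (hn : m ∈ (M.sFp : Subgroup (M false))) : Im D g m (cl m) := ⟨m, hn, cj_of h, rfl⟩

theorem Ac.mul {g h : G} {φ ψ : V4 → V4} {c c' : Bool} (a : Ac D g φ c) (b : Ac D h ψ c') :
    Ac D (g * h) (φ ∘ ψ) (c ^^ c') where
  z := by rw [mul_assoc, b.z, ← mul_assoc, a.z, mul_assoc]
  γ := by
    rw [show g * h * D.ι .Gm * (g * h)⁻¹ = g * (h * D.ι .Gm * h⁻¹) * g⁻¹ by group, b.γ, cj_mul, a.γ,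
      cj_bp a.z, ← map_mul]
    congr 1
    cases c <;> cases c' <;> decide +kernel
  im m hm := by
    obtain ⟨n, hn, e, k⟩ := b.im m hm
    obtain ⟨n', hn', e', k'⟩ := a.im n hn
    exact ⟨n', hn', by rw [← e', ← e]; group, by rw [k', k]; rfl⟩

theorem Ac.of_gen {g : G} {φ : V4 → V4} (hφ : ∀ u v, φ (ad u v) = ad (φ u) (φ v))
    (h0 : φ (cl 1) = cl 1) (z : g * D.ι .Z = D.ι .Z * g) (γ : g * D.ι .Gm = D.ι .Gm * g)
    (ht : Im D g .T (φ (cl .T))) (hb : Im D g .B (φ (cl .B))) (hw : Im D g .W (φ (cl .W)))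
    (ha : Im D g .A (φ (cl .A))) : Ac D g φ false := by
  let P : M false → Prop := fun m => m ∈ (M.sFp : Subgroup (M false)) ∧ Im D g m (φ (cl m))
  have mul : ∀ {m n}, P m → P n → P (m * n) := fun hm hn =>
    ⟨mul_mem hm.1 hn.1, by rw [cl_mul _ hm.1 _ hn.1, hφ]; exact hm.2.mul hn.2⟩
  have one : P 1 := ⟨one_mem _, 1, one_mem _, by simp, h0.symm⟩
  have pb : ∀ {m} c, P m → P (bp m c) := fun c h => by cases c; exacts [one, h]
  have pz : P .Z := ⟨by decide +kernel, by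
    rw [show cl .Z = cl 1 by decide +kernel, h0]
    exact ⟨_, by decide +kernel, cj_of z, by decide +kernel⟩⟩
  have pg : P .Gm := ⟨by decide +kernel, by
    rw [show cl .Gm = cl 1 by decide +kernel, h0]
    exact ⟨_, by decide +kernel, cj_of γ, by decide +kernel⟩⟩
  refine ⟨z, by rw [cj_of γ]; simp [bp], fun m hm => ?_⟩
  have e : ∀ m ∈ (M.sFp : Subgroup (M false)), ∃ i, m = bp .T m.t * bp .B m.b * bp .Gm m.d *
      bp .W (m.d ^^ m.w) * bp .A m.a * bp .Z i := by decide +kernel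
  obtain ⟨i, e⟩ := e m hm
  exact (e ▸ mul (mul (mul (mul (mul (pb _ ⟨by decide +kernel, ht⟩) (pb _ ⟨by decide +kernel, hb⟩))
    (pb _ pg)) (pb _ ⟨by decide +kernel, hw⟩)) (pb _ ⟨by decide +kernel, ha⟩)) (pb i pz) : P m).2

theorem ac_x (X : X2 D) : Ac D X.x (φx X.ty) false := by
  obtain ⟨i, hb⟩ := X.xb
  obtain ⟨j, hw⟩ := X.xw
  refine .of_gen ?_ ?_ X.xz X.xg ?_ ?_ ?_ ?_
  · generalize X.ty = ty; revert ty; decide +kernel
  · generalize X.ty = ty; revert ty; decide +kernel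
  · convert Im.of_ez X.xt (by decide +kernel) using 1
    generalize X.ty = ty; revert ty; decide +kernel
  · convert Im.of_ez hb (by cases X.ty <;> cases i <;> decide +kernel) using 1
    cases X.ty <;> cases i <;> decide +kernel
  · convert Im.of_ez hw (by cases X.ty <;> cases j <;> decide +kernel) using 1
    cases X.ty <;> cases j <;> decide +kernel
  · convert Im.of_comm X.xa (by decide +kernel) using 1
    generalize X.ty = ty; revert ty; decide +kernel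

theorem ac_q : Ac D (D.ι .Q) φq true where
  z := by rw [← map_mul, ← map_mul]; exact congrArg _ (by decide +kernel)
  γ := by rw [← map_inv, ← map_mul, ← map_mul]; exact congrArg _ (by decide +kernel)
  im m hm := ⟨.Q * m * (M.Q)⁻¹, by revert m; decide +kernel, by simp, by revert m; decide +kernel⟩

theorem ac_r {ty : Bool} {r : G} (h : RP D ty r) : Ac D r id false := by
  have ht := Im.of_ez h.rt (by decide +kernel)
  rw [show cl (.T * .Gm) = cl .T by decide +kernel] at ht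
  have hd := Im.of_comm h.rd (by decide +kernel)
  refine .of_gen (fun _ _ => rfl) rfl h.rz ?_ ht ?_ (.of_comm h.rw (by decide +kernel))
    (.of_comm h.ra (by decide +kernel))
  · rw [M.Gm, map_mul, ← mul_assoc, h.rd, mul_assoc, h.rw, mul_assoc]
  · cases ty
    · convert ((((Im.of_comm h.re (by decide +kernel)).mul hd).mul hd).mul hd).mul ht using 1 <;>
        decide +kernel
    · exact .of_comm h.re (by decide +kernel)

theorem ac_0 (X : X2 D) : ∃ g, Ac D g (φ0 X.ty) (!X.ty) := by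
  have h := ac_x X
  revert h
  cases X.ty <;> intro h
  · exact ⟨_, h.mul (ac_q.mul h)⟩
  · exact ⟨_, h.mul (ac_q.mul (h.mul (ac_q.mul h)))⟩

theorem ac_1 (X : X2 D) {f : G} (hz : f * D.ι .Z = D.ι .Z * f)
    (ht : ez D.ι (f * D.ι .T * f⁻¹) (.T * .Ep X.ty)) :
    ∃ g, Ac D g (φ0 X.ty) (!X.ty) ∧ ez D.ι (g⁻¹ * f * D.ι .T * (g⁻¹ * f)⁻¹) .T := by
  have key : ∀ g, Ac D g (φ0 X.ty) (!X.ty) → ez D.ι (g * D.ι .T * g⁻¹) (.T * .Ep X.ty) →
      ez D.ι (g⁻¹ * f * D.ι .T * (g⁻¹ * f)⁻¹) .T := fun g a h => by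
    have e : g⁻¹ * f * D.ι .T * (g⁻¹ * f)⁻¹ = g⁻¹ * (f * D.ι .T * f⁻¹) * g := by group
    have : f * D.ι .T * f⁻¹ = g * D.ι .T * g⁻¹ ∨ f * D.ι .T * f⁻¹ = g * D.ι (.T * .Z) * g⁻¹ := by
      rw [cj_mul, cj_of a.z]
      rcases ht with ht | ht <;> rcases h with h | h <;> rw [ht, h, ← map_mul]
      · exact .inl rfl
      · right; congr 1; generalize X.ty = ty; revert ty; decide +kernel
      · exact .inr rfl
      · exact .inl rfl
    rw [e]
    exact this.imp (fun h => by rw [h]; group) fun h => by rw [h]; group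
  obtain ⟨g, a⟩ := ac_0 X
  obtain ⟨n, hn, e, k⟩ := a.im .T (by decide +kernel)
  have : ∀ ty, ∀ n ∈ (M.sFp : Subgroup (M false)), cl n = φ0 ty (cl .T) →
      (n = .T * .Ep ty ∨ n = .T * .Ep ty * .Z) ∨ ∀ i j, (n * (.Gm * bp .Z (!ty)) * bp .Z i =
        .T * .Ep ty * bp .Z j ∨ n * (.Gm * bp .Z (!ty)) * (bp .Z i * .Z) = .T * .Ep ty * bp .Z j) := by
    decide +kernel
  rcases this _ n hn k with h | h
  · exact ⟨g, a, key g a (h.imp (fun h => e.trans (congrArg _ h)) fun h => e.trans (congrArg _ h))⟩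
  have cg : ∀ m, g * D.ι (.T * .Gm * m) * g⁻¹ = D.ι (n * (.Gm * bp .Z (!X.ty))) * (g * D.ι m * g⁻¹) :=
    fun m => by rw [cj_mul, cj_mul, e, a.γ, ← map_mul]
  have bz : IsConj (D.ι (.T * .Gm * .Z)) (D.ι (.T * .Gm)) := isConj_iff.2 ⟨D.ι .B, by
    rw [← map_inv, ← map_mul, ← map_mul]; exact congrArg _ (by decide +kernel)⟩
  have ct : D.ct (.T * .Gm) := by
    obtain ⟨j, hj⟩ : ∃ j, f * D.ι .T * f⁻¹ = D.ι (.T * .Ep X.ty * bp .Z j) :=
      ht.elim (fun h => ⟨false, by simpa [bp] using h⟩) fun h => ⟨true, h⟩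
    have c1 : IsConj (D.ι (.T * .Ep X.ty * bp .Z j)) (D.ι .T) := (isConj_iff.2 ⟨f, hj⟩).symm
    rcases h false j with h | h
    · refine (isConj_iff.2 ⟨g, ?_⟩).trans c1
      have := cg 1
      rw [mul_one] at this
      rw [this, ← h]; simp [bp]
    · refine bz.symm.trans ((isConj_iff.2 ⟨g, ?_⟩).trans c1)
      rw [cg, cj_of a.z, ← h, ← map_mul]; simp [bp]
  obtain ⟨r, hr⟩ := X.r8 ct
  have b : Ac D (g * r) (φ0 X.ty) (!X.ty) := by simpa using a.mul (ac_r hr)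
  refine ⟨g * r, b, key _ b ?_⟩
  obtain ⟨i, hi⟩ : ∃ i, r * D.ι .T * r⁻¹ = D.ι (.T * .Gm * bp .Z i) :=
    hr.rt.elim (fun h => ⟨false, by simpa [bp] using h⟩) fun h => ⟨true, h⟩
  rw [show g * r * D.ι .T * (g * r)⁻¹ = g * (r * D.ι .T * r⁻¹) * g⁻¹ by group, hi, cg, cj_bp a.z,
    ← map_mul]
  rcases h i true with h' | -
  · exact .inr (congrArg D.ι h')
  rcases h i false with h' | h'
  · exact .inl (by rw [h']; simp [bp])
  · right
    congr 1
    rw [show (M.T * M.Ep X.ty * .Z : M false) = .T * .Ep X.ty * bp .Z false * .Z by simp [bp], ← h',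
      mul_assoc _ (_ * M.Z), mul_assoc (bp M.Z i), show (M.Z * M.Z : M false) = 1 by decide +kernel,
      mul_one]

theorem fin (X : X2 D) {f g : G} (a : Ac D g (φ0 X.ty) (!X.ty)) (hw : f * D.ι .W = D.ι .W * f)
    (hq : f * D.ι .Q = D.ι .Q * f) {u : M false}
    (h : ∀ m ∈ (M.sFp : Subgroup (M false)), g⁻¹ * f * D.ι m * (g⁻¹ * f)⁻¹ = D.ι (u * m * u⁻¹)) :
    (ez D.ι (f * D.ι .A * f⁻¹) (.A * (bif X.ty then .D else .T * .B)) ∧ f * D.ι .D = D.ι .D * f) ∨
    (ez D.ι (f * D.ι .A * f⁻¹) (.A * (bif X.ty then 1 else .Bp)) ∧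
      f * D.ι .D * f⁻¹ = D.ι (.D * .Z)) := by
  have h' : ∀ m ∈ (M.sFp : Subgroup (M false)), f * D.ι m * f⁻¹ = g * D.ι (u * m * u⁻¹) * g⁻¹ :=
    fun m hm => by rw [← h m hm]; group
  have k1 : ∀ u : M false, u * .A * u⁻¹ ∈ (M.sFp : Subgroup (M false)) ∧
      cl (u * .A * u⁻¹) = (false, false, u.q, true) ∧ u * .Gm * u⁻¹ = .Gm * bp .Z u.q := by
    decide +kernel
  obtain ⟨n, hn, e, k⟩ := a.im _ (k1 u).1
  rw [← h' _ (by decide +kernel)] at e
  rw [(k1 u).2.1] at k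
  have act : ∀ m m' : M false, f * D.ι m = D.ι m * f → f * D.ι m' = D.ι m' * f →
      .A * m = m' * .A → n * m = m' * n := fun m m' h1 h2 h3 => D.inj (by
    rw [map_mul, map_mul, ← e, ← cj_of h1, ← cj_of h2, ← cj_mul, ← cj_mul, h3])
  have hz : f * D.ι .Z = D.ι .Z * f := by
    rw [show (M.Z : M false) = .W * .W by decide +kernel, map_mul]
    exact (Commute.mul_right hw hw :)
  have n1 := act .Q (.W * .Q) hq (by rw [map_mul]; exact (Commute.mul_right hw hq :))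
    (by decide +kernel)
  have hd : f * D.ι .D * f⁻¹ = D.ι (.D * bp .Z ((!X.ty) ^^ u.q)) := by
    have := h' .Gm (by decide +kernel)
    rw [(k1 u).2.2, cj_mul g, a.γ, cj_bp a.z, M.Gm, cj_mul, cj_of hw, ← map_mul,
      ← eq_mul_inv_iff_mul_eq, ← map_inv, ← map_mul] at this
    rw [this]
    congr 1
    generalize X.ty = ty
    generalize u.q = c
    revert ty c
    decide +kernel
  have : ∀ ty c, ∀ n ∈ (M.sFp : Subgroup (M false)), cl n = φ0 ty (false, false, c, true) →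
      n * .Q = .W * .Q * n → (((!ty) ^^ c) = false ∧ (n = .A * (bif ty then .D else .T * .B) ∨
        n = .A * (bif ty then .D else .T * .B) * .Z)) ∨ (((!ty) ^^ c) = true ∧
        (n = .A * (bif ty then 1 else .Bp) ∨ n = .A * (bif ty then 1 else .Bp) * .Z)) := by
    decide +kernel
  rcases this _ _ n hn k n1 with ⟨c, h⟩ | ⟨c, h⟩ <;> rw [c] at hd
  · exact .inl ⟨h.imp (fun h => e.trans (congrArg _ h)) fun h => e.trans (congrArg _ h),
      mul_inv_eq_iff_eq_mul.1 (by simpa [bp] using hd)⟩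
  · exact .inr ⟨h.imp (fun h => e.trans (congrArg _ h)) fun h => e.trans (congrArg _ h), hd⟩

theorem Ac.nm [Finite G] {g : G} {φ : V4 → V4} {c : Bool} (a : Ac D g φ c) :
    g ∈ normalizer (D.Fp : Set G) := by
  refine mem_normalizer_fintype ?_
  rintro _ ⟨m, hm, rfl⟩
  obtain ⟨n, hn, e, -⟩ := a.im m hm
  exact ⟨n, hn, e.symm⟩

/-- Lemma f0 -/
theorem f0 : F0S.{u} := by
  intro G _ _ D X f hz hn hw hq ht
  obtain ⟨g, a, h⟩ := ac_1 X hz ht
  obtain ⟨u, hu⟩ := D.ST (mul_mem (inv_mem a.nm) (D.nFp_of_nT1 hn))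
    ((Commute.inv_left a.z).mul_left hz :) h
  exact fin X a hw hq hu

end Cfsg.Agent.H75.L3F
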