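import Cfsg.Agent.H75.L3TrC

/-! Project L33, piece Tr. -/

set_option autoImplicit false
set_option linter.unusedSectionVars false

noncomputable section

namespace Cfsg.Agent.H75.L3T

open Subgroup Cfsg.Agent.H83 Cfsg.Agent.H40.L3 Cfsg.Agent.H40

universe u

/-- `ζ = δ ε` -/
abbrev ζ : Mf := .D * ε
/-- `⟨z, ζ⟩` -/
abbrev sZ : Subgroup Mf :=
  M.sub (fun m => !m.d && !m.w && !m.q && !m.a && (m.t == m.b)) (by decide +kernel)

namespace Cx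
variable {G : Type*} [Group G] [Finite G] (Y : Cx G)

theorem cW {g c : G} (hg : g ∈ Y.C.T) (hc : c ∈ Y.W) : g * c * g⁻¹ ∈ Y.W := conj_mem Y.nW hg hc

theorem sq_D {c : G} (hc : c ∈ Y.W) {m : Mf} (hm : m ∈ E) :
    c * Y.ι m * (c * Y.ι m) = c * c * Y.ι (m * m) := by
  have := (Y.mem_W.1 hc).2 m hm
  rw [map_mul]
  calc _ = c * (Y.ι m * c) * Y.ι m := by group
    _ = _ := by rw [← this]; group

theorem r_aux : (Y.r * Y.r = 1 ∨ Y.r * Y.r = Y.ι .Z) ∧ Y.r * Y.h = Y.h * Y.r := by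
  have rz := Y.R.rz
  obtain ⟨m, hm, e⟩ := Y.diff (mul_mem Y.rW Y.rW) (one_mem _) (Y.bv_r.mul rz Y.bv_r) (bv_F (one_mem _))
  rw [one_mul] at e
  obtain ⟨d, hd, e2⟩ := Y.diff (Y.cW Y.sT' Y.rW) Y.rW (Y.bv_s Y.bv_r) Y.bv_r
  have c1 : m * .A = .A * m := by
    rw [← Y.D.comm_iff, ← e, mul_assoc, Y.R.ra, ← mul_assoc, Y.R.ra, mul_assoc]
  have c2 : m * .T = .T * m := by
    have g1 := D2.cj1 ((Y.mem_W.1 Y.rW).2 .Gm (by decide +kernel))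
    have z1 := D2.cj1 rz
    rw [← Y.D.comm_iff, ← e, ← mul_inv_eq_iff_eq_mul,
      show Y.r * Y.r * Y.D.ι .T * (Y.r * Y.r)⁻¹ = Y.r * (Y.r * Y.D.ι .T * Y.r⁻¹) * Y.r⁻¹ by group]
    rcases Y.R.rt with t1 | t1 <;> rw [t1]
    · rw [D2.cjm t1 g1, Y.D.inj.eq_iff]; decide +kernel
    · rw [D2.cjm (D2.cjm t1 g1) z1, Y.D.inj.eq_iff]; decide +kernel
  have e3 : Y.s * Y.ι m * Y.s⁻¹ = Y.ι (m * (d * d)) := by
    rw [map_mul, ← e, ← Y.sq_D Y.rW hd, ← e2]; group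
  have z1 := D2.cj1 (Y.C.cz Y.sT')
  have g1 : ez Y.ι (Y.s * Y.ι .Gm * Y.s⁻¹) (.D * η) := Y.sd.cmul Y.sw
  have key : ∀ m : Mf, m ∈ E → m * .A = .A * m → m * .T = .T * m →
      m = 1 ∨ m = .Z ∨ m = .Gm ∨ m = .Gm * .Z := by decide +kernel
  have k2 : ∀ d : Mf, d ∈ E → d * d = 1 ∨ d * d = .Z := by decide +kernel
  have h1 : (m = 1 ∨ m = .Z) ∧ d * d = 1 := by
    rcases key m hm c1 c2 with rfl | rfl | rfl | rfl
    · exact ⟨Or.inl rfl, by simpa using Y.D.inj (e3.symm.trans (by simp))⟩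
    · exact ⟨Or.inr rfl, by simpa using Y.D.inj (e3.symm.trans z1)⟩
    · have := Y.D.ez_uniq g1 (ez.of_eq e3)
      rcases k2 d hd with k | k <;> rw [k] at this <;> exact absurd this (by decide +kernel)
    · have := Y.D.ez_uniq (g1.cmul (ez.of_eq z1)) (ez.of_eq e3)
      rcases k2 d hd with k | k <;> rw [k] at this <;> exact absurd this (by decide +kernel)
  refine ⟨by rcases h1.1 with rfl | rfl <;> simp [e], ?_⟩
  have b1 : Y.s * Y.r * Y.s⁻¹ ∈ centralizer {Y.b} := by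
    rw [mem_centralizer_singleton_iff, b]
    calc _ = Y.s * (Y.r * Y.ι .A) * Y.s⁻¹ := by group
      _ = _ := by rw [Y.R.ra]; group
  have b2 : Y.ι d ∈ centralizer {Y.b} := by
    rw [mem_centralizer_singleton_iff, eq_comm, ← mul_inv_eq_iff_eq_mul, Y.b_inv hd]
    exact inv_eq_of_mul_eq_one_right (by rw [← map_mul, h1.2, map_one])
  have b3 := mem_centralizer_singleton_iff.1 ((mul_mem_cancel_right b2).1 (e2 ▸ b1))
  rw [h, ← mul_assoc, Y.R.ra, mul_assoc, b3, mul_assoc]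

theorem h2 : ez Y.ι (Y.h * Y.h) ζ := by
  obtain ⟨u, hu, e⟩ := Y.C.bar_eq Y.fT Y.bT Y.bv_f Y.bv_b
  have e1 : Y.b = Y.f * Y.ι u := by rw [e]; group
  have k1 : ∀ u : Mf, u ∈ sF → u⁻¹ * (.A * u * .A⁻¹) = 1 ∨ u⁻¹ * (.A * u * .A⁻¹) = .Z ∨
      u⁻¹ * (.A * u * .A⁻¹) = .W ∨ u⁻¹ * (.A * u * .A⁻¹) = .W * .Z := by decide +kernel
  set v : Mf := u⁻¹ * (.A * u * .A⁻¹) with hv
  have vE : v ∈ E := by rcases k1 u hu with k | k | k | k <;> rw [hv, k] <;> decide +kernel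
  have ai : (Y.ι .A)⁻¹ = Y.ι .A := inv_eq_of_mul_eq_one_right Y.a2
  have bi : Y.b⁻¹ = Y.b := inv_eq_of_mul_eq_one_right Y.b2
  have e2 : Y.h * Y.h = Y.ι .A * (Y.f * Y.ι .A * Y.f⁻¹) * Y.ι v⁻¹ := by
    calc _ = Y.ι .A * Y.b * (Y.ι .A)⁻¹ * Y.b⁻¹ := by rw [ai, bi, h]; group
      _ = Y.ι .A * (Y.f * (Y.ι .A)⁻¹ * Y.f⁻¹) * (Y.b * Y.ι v * Y.b⁻¹) := by
        rw [hv, e1]; simp only [map_mul, map_inv]; group
      _ = _ := by rw [ai, Y.b_inv vE, map_inv]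
  have e3 : ez Y.ι (Y.h * Y.h) (.A * (.A * η) * v⁻¹) := e2 ▸ ((ez.rfl' _).mul Y.fa).mul (ez.rfl' _)
  have e4 : ez Y.ι (Y.h * Y.h) η ∨ ez Y.ι (Y.h * Y.h) ζ := by
    rcases k1 u hu with k | k | k | k <;> rw [hv, k] at e3
    exacts [Or.inl (e3.congr (by decide +kernel)), Or.inl (e3.congr (by decide +kernel)),
      Or.inr (e3.congr (by decide +kernel)), Or.inr (e3.congr (by decide +kernel))]
  refine e4.resolve_left fun e5 => ?_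
  obtain ⟨d, hd, e6⟩ := Y.diff (Y.cW Y.sT' Y.hW) Y.hW (Y.bv_s Y.bv_h) Y.bv_h
  have e7 := ez.conj (Y.C.cz Y.sT') e5 Y.sh
  rw [show Y.s * (Y.h * Y.h) * Y.s⁻¹ = Y.s * Y.h * Y.s⁻¹ * (Y.s * Y.h * Y.s⁻¹) by group, e6,
    Y.sq_D Y.hW hd] at e7
  have := Y.D.ez_uniq e7 (e5.mul (ez.rfl' _))
  have k2 : ∀ d : Mf, d ∈ E → ¬ (η * (d * d) = .W ∨ η * (d * d) = .W * .Z) := by decide +kernel
  exact k2 d hd this

theorem bpc {x y : G} (h : Commute x y) (i : Bool) : Commute (bp x i) y := by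
  cases i; exacts [Commute.one_left _, h]

theorem ab {x y : G} (hx : x ∈ Y.W) (hy : y ∈ Y.W) : Commute x y := by
  have key : ∀ {x c : G}, x ∈ Y.W → c ∈ Y.W → Commute Y.r c → Commute Y.h c → Commute x c := by
    intro x c hx hc h1 h2
    obtain ⟨i, j, m, hm, rfl⟩ := Y.cover hx
    exact ((bpc h1 i).mul_left (bpc h2 j)).mul_left (Commute.symm ((Y.mem_W.1 hc).2 m hm))
  exact key hx hy (key hy Y.rW (Commute.refl _) (Commute.symm Y.r_aux.2)).symm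
    (key hy Y.hW Y.r_aux.2 (Commute.refl _)).symm

theorem sq {x : G} (hx : x ∈ Y.W) : x * x ∈ sZ.map Y.ι := by
  obtain ⟨i, j, m, hm, rfl⟩ := Y.cover hx
  have h1 := Y.bpW Y.rW i
  have h2 := Y.bpW Y.hW j
  rw [Y.sq_D (mul_mem h1 h2) hm, (Y.ab h1 h2).symm.mul_mul_mul_comm]
  have k2 : ∀ d : Mf, d ∈ E → d * d ∈ sZ := by decide +kernel
  refine mul_mem (mul_mem ?_ ?_) (Y.D.mem_map.2 (k2 m hm))
  · cases i
    · exact mul_mem (one_mem _) (one_mem _)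
    · rcases Y.r_aux.1 with e | e <;> rw [bp, cond_true, e]
      exacts [one_mem _, Y.D.mem_map.2 (by decide +kernel)]
  · cases j
    · exact mul_mem (one_mem _) (one_mem _)
    · exact Y.h2.mem_map (by decide +kernel) (by decide +kernel)

theorem sZ_cases : ∀ m : Mf, m ∈ sZ → m = 1 ∨ m = .Z ∨ m = ζ ∨ m = ζ * .Z := by decide +kernel

theorem fx {g : G} (hg : g ∈ Y.C.T) : ez Y.ι (g * Y.ι ζ * g⁻¹) ζ := by
  obtain ⟨m, hm, e⟩ := Y.sq (Y.cW hg Y.hW)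
  rw [show g * Y.h * g⁻¹ * (g * Y.h * g⁻¹) = g * (Y.h * Y.h) * g⁻¹ by group] at e
  have z1 := D2.cj1 (Y.C.cz hg)
  have o1 : g * Y.ι 1 * g⁻¹ = Y.ι 1 := by simp
  have e1 : ∃ n, (n = ζ ∨ n = ζ * .Z) ∧ g * Y.ι n * g⁻¹ = Y.ι m := by
    rcases Y.h2 with k | k <;> rw [k] at e
    exacts [⟨_, Or.inl rfl, e.symm⟩, ⟨_, Or.inr rfl, e.symm⟩]
  obtain ⟨n, hn, e2⟩ := e1
  have n1 : m ≠ 1 := (D2.cje e2 o1).not.1 (by rcases hn with rfl | rfl <;> decide +kernel)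
  have n2 : m ≠ .Z := (D2.cje e2 z1).not.1 (by rcases hn with rfl | rfl <;> decide +kernel)
  refine ez.conj (Y.C.cz hg) (m := n) (Y.D.ez_iff.2 (by rcases hn with rfl | rfl <;> decide +kernel)) ?_
  rw [e2, Y.D.ez_iff]
  exact ((sZ_cases m hm).resolve_left n1).resolve_left n2

include Y in
theorem idx : ∃ H : Subgroup G, H.index = 2 :=
  fin Y.D Y.C (ζ := Y.ι ζ) Y.W_le Y.nW (fun _ hx _ hy => Y.ab hx hy) Y.card_W (fun x hx => by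
    obtain ⟨m, hm, e⟩ := Y.sq hx
    rw [← e, ← map_mul, ← map_one Y.ι]
    simpa only [Y.D.inj.eq_iff] using sZ_cases m hm) (fun g hg => ez.iff_mul.1 (Y.fx hg))
    (Y.D.comm_iff.not.2 (by decide +kernel))

end Cx

theorem tr : TrS.{u} := fun G _ _ Y n f s ty nT nN n2 K cov sT sw ct => by
  obtain ⟨r, rT, R⟩ := Y.r8 ct
  rw [ty] at R
  exact Cx.idx ⟨Y.D, Y.C, n, f, s, r, nT, nN, n2, K, cov, sT, sw, rT, R⟩

end Cfsg.Agent.H75.L3T
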