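import Cfsg.Agent.H40.L3K2
import Cfsg.Agent.H81.Four

/-! Project L33, piece Tr: the transfer argument. -/

set_option autoImplicit false
set_option linter.unusedSectionVars false

noncomputable section

namespace Cfsg.Agent.H75.L3T

open Subgroup Cfsg.Agent.H83 Cfsg.Agent.H40.L3 Cfsg.Agent.H40

variable {G : Type*} [Group G] [Finite G]

/-- Thompson's transfer lemma, extremal form, in a group without subgroup of index 2 -/
theorem thT (hG : ∀ H : Subgroup G, H.index ≠ 2) {S U : Subgroup G} (hS : IsSylowIn 2 S ⊤) {a : G}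
    (ha : a ∈ S) (haM : a ∉ U) (h : ∀ b ∈ S, b ∈ U ∨ b * a⁻¹ ∈ U) {y : G} (h2 : y * y = 1) :
    ∃ g, g * y * g⁻¹ ∈ U ∧ ∀ x ∈ S, x * y = y * x → g * x * g⁻¹ ∈ S := by
  obtain ⟨P, rfl⟩ := hS.exists_sylow_top
  have hi : (U.subgroupOf (P : Subgroup G)).index = 2 := AA.relIndex_two ha haM h
  have triv : ∀ (f : G →* ℤˣ) (x : G), f x = 1 := fun f x => by
    by_contra hx
    have hx' : f x = -1 := (Int.units_eq_one_or _).resolve_left hx
    refine hG f.ker (index_eq_two_iff.2 ⟨x, fun b => ?_⟩)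
    simp only [MonoidHom.mem_ker, map_mul, hx']
    rcases Int.units_eq_one_or (f b) with e | e <;> rw [e] <;> decide
  obtain ⟨g, hg, h3, -, h4⟩ := H82.exists_extremal_conj P (H87.signOfIndexTwo _ hi)
    (τ := -1) (fun u _ => Int.units_eq_one_or u) (by decide) (by decide) h2 (triv _ _)
  refine ⟨g, ?_, fun x hx e => (h4 ⟨x, ⟨hx, mem_centralizer_singleton_iff.2 e⟩, rfl⟩).1⟩
  by_contra hc
  rw [H87.signOfIndexTwo_of_not_mem hi hc] at h3
  exact absurd h3 (by decide)

/-- `⟨t, z, γ⟩` -/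
abbrev sI : Subgroup (M false) :=
  M.sub (fun m => !m.b && !m.q && !m.a && (m.d == m.w)) (by decide +kernel)

theorem fin (D : D2 G false) (C : Cx2 D) {W : Subgroup G} {ζ : G} (hW : W ≤ C.T)
    (hn : C.T ≤ normalizer (W : Set G)) (ab : ∀ x ∈ W, ∀ y ∈ W, x * y = y * x)
    (hc : 64 ≤ Nat.card W)
    (sq : ∀ x ∈ W, x * x = 1 ∨ x * x = D.ι .Z ∨ x * x = ζ ∨ x * x = ζ * D.ι .Z)
    (fx : ∀ g ∈ C.T, g * ζ * g⁻¹ = ζ ∨ g * ζ * g⁻¹ = ζ * D.ι .Z)
    (ht : D.ι .T * ζ ≠ ζ * D.ι .T) : ∃ H : Subgroup G, H.index = 2 := by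
  by_contra! hG
  have tT := C.ι_T .T
  have t3 : D.ι .T * ζ * (D.ι .T)⁻¹ = ζ * D.ι .Z :=
    (fx _ tT).resolve_left fun e => ht (mul_inv_eq_iff_eq_mul.1 e)
  obtain ⟨g, ⟨uT, uζ⟩, hg⟩ := thT hG (U := C.T ⊓ centralizer {ζ}) C.sT tT
    (fun e => ht (mem_centralizer_singleton_iff.1 e.2)) (fun b hb => by
      rcases fx b hb with e | e
      · exact Or.inl ⟨hb, mem_centralizer_singleton_iff.2 (mul_inv_eq_iff_eq_mul.1 e)⟩
      · refine Or.inr ⟨C.T.mul_mem hb (C.T.inv_mem tT), mem_centralizer_singleton_iff.2 ?_⟩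
        have e1 : (D.ι .T)⁻¹ = D.ι .T := inv_eq_of_mul_eq_one_right D.t2
        rw [← mul_inv_eq_iff_eq_mul, e1]
        calc b * D.ι .T * ζ * (b * D.ι .T)⁻¹ = b * (D.ι .T * ζ * (D.ι .T)⁻¹) * b⁻¹ := by group
          _ = b * ζ * b⁻¹ * (b * D.ι .Z) * b⁻¹ := by rw [t3]; group
          _ = ζ * (D.ι .Z * D.ι .Z) := by rw [e, C.cz hb]; group
          _ = ζ := by rw [D.z2, mul_one]) D.t2
  set u := g * D.ι .T * g⁻¹ with hu
  have uζ' : u * ζ = ζ * u := mem_centralizer_singleton_iff.1 uζ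
  have cu : IsConj u (D.ι .T) := (isConj_iff.2 ⟨g, rfl⟩).symm
  have u2 : u * u = 1 := by
    calc u * u = g * (D.ι .T * D.ι .T) * g⁻¹ := by rw [hu]; group
      _ = 1 := by rw [D.t2]; group
  have uW : u ∉ W := fun h => by
    have := D.no_ab32 cu (C.pT.to_le hW) (fun x hx => ab x hx u h) ab
    omega
  have cW : ∀ {y x : G}, y ∈ C.T → x ∈ W → y * x * y⁻¹ ∈ W := fun a b => conj_mem hn a b
  let φ : W →* G := MonoidHom.mk' (fun x => x * (u * (x : G)⁻¹ * u⁻¹)) (fun x y => by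
    have e1 := ab _ y.2 _ (cW uT (inv_mem x.2))
    have e2 := ab _ (cW uT (inv_mem y.2)) _ (cW uT (inv_mem x.2))
    simp only [coe_mul]
    calc (x : G) * y * (u * ((x : G) * y)⁻¹ * u⁻¹)
        = x * y * (u * (y : G)⁻¹ * u⁻¹ * (u * (x : G)⁻¹ * u⁻¹)) := by group
      _ = x * (y * (u * (x : G)⁻¹ * u⁻¹)) * (u * (y : G)⁻¹ * u⁻¹) := by rw [e2]; group
      _ = _ := by rw [e1]; group)
  have φe : ∀ x : W, φ x = x * (u * (x : G)⁻¹ * u⁻¹) := fun _ => rfl
  have φW : ∀ x : W, φ x ∈ W := fun x => mul_mem x.2 (cW uT (inv_mem x.2))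
  have φ2 : ∀ x : W, φ x * φ x = 1 := fun x => by
    rw [← map_mul, φe]
    have : u * ((x * x : W) : G) = (x * x : W) * u := by
      have z := C.cz uT
      rcases sq x x.2 with e | e | e | e <;> rw [coe_mul, e]
      · simp
      · exact z
      · exact uζ'
      · rw [← mul_assoc, uζ', mul_assoc, z, mul_assoc]
    calc _ = ((x * x : W) : G) * (((x * x : W) : G)⁻¹ * ((x * x : W) * u) * ((x * x : W) : G)⁻¹) * u⁻¹ := by
          group
      _ = 1 := by rw [← this]; group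
  have φu : ∀ x : W, φ x * u = u * φ x := fun x => by
    have e : (φ x)⁻¹ = φ x := inv_eq_of_mul_eq_one_right (φ2 x)
    have e1 : u⁻¹ = u := inv_eq_of_mul_eq_one_right u2
    conv_rhs => rw [← e]
    rw [φe, e1]
    calc _ = x * u * (x : G)⁻¹ * (u * u) := by group
      _ = x * u⁻¹ * (x : G)⁻¹ := by rw [u2, e1]; group
      _ = _ := by group
  have S0 : M.sS.map D.ι ≤ cj g⁻¹ C.T := by
    rintro _ ⟨m, hm, rfl⟩
    rw [mem_cj, inv_inv]
    exact hg _ (C.ι_T m) (mem_centralizer_singleton_iff.1 (D.syl.le ⟨m, hm, rfl⟩))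
  have rI : φ.range ≤ cj g (sI.map D.ι) := by
    rintro _ ⟨x, rfl⟩
    have h1 : g⁻¹ * φ x * g ∈ cj g⁻¹ C.T := by
      have := conj_mem_cj (g := g⁻¹) (hW (φW x))
      rwa [inv_inv] at this
    obtain ⟨m, hm, e⟩ := D.mem_S (isPGroup_cj C.pT _) S0 h1 (by
      calc g⁻¹ * φ x * g * D.ι .T = g⁻¹ * (φ x * u) * g := by rw [hu]; group
        _ = _ := by rw [φu, hu]; group)
    rw [mem_cj, ← e, D.mem_map]
    have key : ∀ m : M false, m ∈ (M.sS : Subgroup (M false)) → m * m = 1 →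
        (∀ n : M false, n ∈ (M.sS : Subgroup (M false)) → n * m * n⁻¹ * m = m * (n * m * n⁻¹)) →
        m ∈ sI := by decide +kernel
    have e' : φ x = g * D.ι m * g⁻¹ := by rw [e]; group
    refine key m hm (D.inj ?_) fun n hn' => D.inj ?_
    · rw [map_mul, e, map_one]
      calc _ = g⁻¹ * (φ x * φ x) * g := by group
        _ = 1 := by rw [φ2]; group
    · have y1 : g * D.ι n * g⁻¹ ∈ C.T := by
        have := S0 ⟨n, hn', rfl⟩
        rwa [mem_cj, inv_inv] at this
      have := ab _ (cW y1 (φW x)) _ (φW x)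
      rw [e'] at this
      simp only [map_mul, map_inv]
      calc _ = g⁻¹ * (g * D.ι n * g⁻¹ * (g * D.ι m * g⁻¹) * (g * D.ι n * g⁻¹)⁻¹ *
            (g * D.ι m * g⁻¹)) * g := by group
        _ = _ := by rw [this]; group
  have c8 : Nat.card (cj g (sI.map D.ι)) = 8 := by
    rw [card_cj, D.card_map, M.card_sub]; decide +kernel
  have c4 : Nat.card φ.range ≤ 4 := by
    have d := card_dvd_of_le rI
    have ne : Nat.card φ.range ≠ 8 := fun e => by
      have := eq_of_le_of_card_ge rI (by omega)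
      have h1 : u ∈ φ.range := this ▸ conj_mem_cj (D.mem_map.2 (by decide +kernel))
      obtain ⟨x, hx⟩ := h1
      exact uW (hx ▸ φW x)
    rw [c8] at d
    have := Nat.le_of_dvd (by norm_num) d
    obtain ⟨k, hk⟩ := d
    rcases (by omega : Nat.card φ.range ≤ 4 ∨ Nat.card φ.range = 5 ∨ Nat.card φ.range = 6 ∨
      Nat.card φ.range = 7) with h | h | h | h
    · exact h
    all_goals rw [h] at hk; omega
  have ck : Nat.card W = Nat.card φ.range * Nat.card φ.ker := by
    rw [card_eq_card_quotient_mul_card_subgroup φ.ker,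
      Nat.card_congr (QuotientGroup.quotientKerEquivRange φ).toEquiv]
  set K := φ.ker.map W.subtype with hK
  have cK : 16 ≤ Nat.card K := by
    rw [hK, card_map_of_injective W.subtype_injective]; nlinarith
  have KW : K ≤ W := map_subtype_le _
  have Ku : ∀ x ∈ K, x * u = u * x := by
    rintro _ ⟨x, hx, rfl⟩
    have : (x : G) * (u * (x : G)⁻¹ * u⁻¹) = 1 := hx
    calc (x : G) * u = x * (u * (x : G)⁻¹ * u⁻¹) * u * x := by group
      _ = _ := by rw [this]; simp
  have uK : u ∈ normalizer (K : Set G) :=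
    le_norm_of_le_cent (H := zpowers u) (zpowers_le.2 fun x hx => Ku x hx) (mem_zpowers u)
  have cP := H81.card_sup_zpowers (p := 2) (by rw [pow_two, u2]) (fun h => uW (KW h)) uK
  have Pu : K ⊔ zpowers u ≤ centralizer {u} := sup_le
    (fun x hx => mem_centralizer_singleton_iff.2 (Ku x hx))
    (zpowers_le.2 (mem_centralizer_singleton_iff.2 rfl))
  have := D.no_ab32 (P := K ⊔ zpowers u) cu (C.pT.to_le (sup_le (KW.trans hW) (zpowers_le.2 uT)))
    (fun x hx => mem_centralizer_singleton_iff.1 (Pu hx)) fun x hx y hy => by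
      have h1 : K ⊔ zpowers u ≤ centralizer {y} := sup_le (fun v hv => by
        have h2 : K ⊔ zpowers u ≤ centralizer {v} := sup_le
          (fun v' hv' => mem_centralizer_singleton_iff.2 (ab _ (KW hv') _ (KW hv)))
          (zpowers_le.2 (mem_centralizer_singleton_iff.2 (Ku v hv).symm))
        exact mem_centralizer_singleton_iff.2 (mem_centralizer_singleton_iff.1 (h2 hy)).symm)
        (zpowers_le.2 (mem_centralizer_singleton_iff.2 (mem_centralizer_singleton_iff.1 (Pu hy)).symm))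
      exact mem_centralizer_singleton_iff.1 (h1 hx)
  omega

end Cfsg.Agent.H75.L3T
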