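import Cfsg.Agent.H75.L3TrA

/-! Project L33, piece Tr: the action of `C_T(D)` on `F / ⟨z⟩`. -/

set_option autoImplicit false
set_option linter.unusedSectionVars false

noncomputable section

namespace Cfsg.Agent.H75.L3T

open Subgroup Cfsg.Agent.H83 Cfsg.Agent.H40.L3 Cfsg.Agent.H40

abbrev Mf := M false
abbrev sF : Subgroup Mf := M.sF
abbrev E : Subgroup Mf := M.sE false
abbrev ε : Mf := M.Ep false
abbrev η : Mf := M.Et false
abbrev tw (i j k : Bool) : Mf → Mf := M.tvs false (i, j, k)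

theorem k_bar : ∀ t : Mf, t ∈ sF → t * t = 1 → t * .W = .W * t → t * ε ≠ ε * t → ∀ q : Mf, q ∈ sF →
    q * q = .Z → q * .W ≠ .W * q → q * ε = ε * q → t * q = q * t → ∃ i j k : Bool,
    (tw i j k .T = t ∨ tw i j k .T = t * .Z) ∧ (tw i j k .Q = q ∨ tw i j k .Q = q * .Z) := by
  decide +kernel
theorem k_lin : ∀ i j k : Bool, ∀ m : Mf, m ∈ sF →
    tw i j k m = M.lin (tw i j k .T) (ε * .D * tw i j k .T) .D .W (tw i j k .Q) m ∨
    tw i j k m = M.lin (tw i j k .T) (ε * .D * tw i j k .T) .D .W (tw i j k .Q) m * .Z := by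
  decide +kernel
theorem k_mem : ∀ i j k : Bool, ∀ m : Mf, m ∈ sF → tw i j k m ∈ sF := by decide +kernel
theorem k_mul : ∀ i j k i' j' k' : Bool, ∀ m : Mf, m ∈ sF →
    tw (i ^^ i') (j ^^ j') (k ^^ k') m = tw i j k (tw i' j' k' m) ∨
    tw (i ^^ i') (j ^^ j') (k ^^ k') m = tw i j k (tw i' j' k' m) * .Z := by decide +kernel
theorem k_uq : ∀ i j k i' j' k' : Bool,
    (tw i' j' k' .T = tw i j k .T ∨ tw i' j' k' .T = tw i j k .T * .Z) →
    (tw i' j' k' .Q = tw i j k .Q ∨ tw i' j' k' .Q = tw i j k .Q * .Z) → i = i' ∧ j = j' ∧ k = k' := by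
  decide +kernel
theorem k_sw : ∀ i j k : Bool, ∀ m : Mf, m ∈ sF →
    tw j i k m = (bif i then M.tv η else id) ((bif j then M.tv .W else id) ((bif k then M.tv ε else id) m)) ∨
    tw j i k m = (bif i then M.tv η else id) ((bif j then M.tv .W else id) ((bif k then M.tv ε else id) m)) * .Z := by
  decide +kernel
theorem E_le : E ≤ sF := by
  have : ∀ m : Mf, m ∈ E → m ∈ sF := by decide +kernel
  exact this
theorem E_ind {H : Subgroup Mf} (hw : .W ∈ H) (hd : .D ∈ H) (he : ε ∈ H) : E ≤ H := fun m hm => by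
  have key : ∀ m : Mf, m ∈ E → ∃ i j k l : Bool, m = bp .W i * bp .D j * bp ε k * bp (.W * .W) l := by
    decide +kernel
  obtain ⟨i, j, k, l, rfl⟩ := key m hm
  have b : ∀ {x : Mf} (c : Bool), x ∈ H → bp x c ∈ H := fun c h => by
    cases c; exacts [H.one_mem, h]
  exact mul_mem (mul_mem (mul_mem (b _ hw) (b _ hd)) (b _ he)) (b _ (mul_mem hw hw))

variable {G : Type*} [Group G] [Finite G]

/-- `c` acts on `F / ⟨z⟩` as `τ_w^i τ_η^j τ_ε^k` -/
def Bv (D : D2 G false) (c : G) (i j k : Bool) : Prop := D.Bar c (tw i j k)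

variable {D : D2 G false}

theorem barD {c : G} (hn : c ∈ normalizer (D.F : Set G)) (hz : c * D.ι .Z = D.ι .Z * c)
    (hw : c * D.ι .W = D.ι .W * c) (hd : c * D.ι .D = D.ι .D * c) (he : c * D.ι ε = D.ι ε * c) :
    ∃ i j k, Bv D c i j k := by
  obtain ⟨t, t0, t1⟩ := D.exists_im hn (m := .T) (by decide +kernel)
  obtain ⟨q, q0, q1⟩ := D.exists_im hn (m := .Q) (by decide +kernel)
  have w1 := D2.cj1 hw
  have e1 := D2.cj1 he
  have o1 : c * D.ι 1 * c⁻¹ = D.ι 1 := by simp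
  obtain ⟨i, j, k, h1, h2⟩ := k_bar t t0 ((D2.cje (D2.cjm t1 t1) o1).1 (by decide +kernel))
    ((D2.cjc t1 w1).1 (by decide +kernel)) ((D2.cjc t1 e1).not.1 (by decide +kernel)) q q0
    ((D2.cje (D2.cjm q1 q1) (D2.cj1 hz)).1 (by decide +kernel))
    ((D2.cjc q1 w1).not.1 (by decide +kernel)) ((D2.cjc q1 e1).1 (by decide +kernel))
    ((D2.cjc t1 q1).1 (by decide +kernel))
  have t2 := (ez.of_eq t1).congr h1
  have d2 := ez.of_eq (D2.cj1 hd)
  refine ⟨i, j, k, (D.bar_gens hz t2 ?_ d2 (ez.of_eq w1) ((ez.of_eq q1).congr h2)).congr (k_lin i j k)⟩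
  exact ez.conj hz (m := ε * .D * .T) (D.ez_iff.2 (by decide +kernel)) (((ez.of_eq e1).cmul d2).cmul t2)

theorem Bv.mul {c c' : G} {i j k i' j' k' : Bool} (hz : c * D.ι .Z = D.ι .Z * c) (h : Bv D c i j k)
    (h' : Bv D c' i' j' k') : Bv D (c * c') (i ^^ i') (j ^^ j') (k ^^ k') :=
  (D2.Bar.mul hz h h' (k_mem _ _ _)).congr (k_mul _ _ _ _ _ _)
theorem Bv.uq {c : G} {i j k i' j' k' : Bool} (h : Bv D c i j k) (h' : Bv D c i' j' k') :
    i = i' ∧ j = j' ∧ k = k' :=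
  k_uq _ _ _ _ _ _ (D2.Bar.uniq h h' (by decide +kernel)) (D2.Bar.uniq h h' (by decide +kernel))
theorem bv_F {c : G} (h : c ∈ D.F) : Bv D c false false false := D.bar_F h
theorem bv_A : Bv D (D.ι .A) true false false := (D.bar_ι .A).congr (by decide +kernel)
theorem Bv.bp {c : G} {i j k : Bool} (h : Bv D c i j k) (b : Bool) :
    Bv D (bp c b) (b && i) (b && j) (b && k) := by
  cases b
  · exact bv_F (one_mem _)
  · exact h

theorem ezc {g : G} {m n e e' : Mf} (h : ez D.ι (g * D.ι m * g⁻¹) n) (k : ez D.ι (g * D.ι e * g⁻¹) e') :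
    m * e = e * m ↔ n * e' = e' * n := by
  have z1 : ∀ u v : Mf, u * .Z * v = v * (u * .Z) ↔ u * v = v * u := fun u v => by
    rw [mul_assoc, ← M.zc, ← mul_assoc, ← mul_assoc, mul_left_inj]
  have z2 : ∀ u v : Mf, u * (v * .Z) = v * .Z * u ↔ u * v = v * u := fun u v => by
    rw [eq_comm, z1, eq_comm]
  rcases h with h | h <;> rcases k with k | k <;> rw [D2.cjc h k]
  · rw [z2]
  · rw [z1]
  · rw [z1, z2]

theorem ez_tv {g : G} {m n e e' : Mf} (k : ez D.ι (g * D.ι e * g⁻¹) e') (c : Bool)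
    (h : ez D.ι (g * D.ι m * g⁻¹) n) :
    ez D.ι (g * D.ι ((bif c then M.tv e else id) m) * g⁻¹) ((bif c then M.tv e' else id) n) := by
  cases c
  · exact h
  · show ez D.ι (g * D.ι (M.tv e m) * g⁻¹) (M.tv e' n)
    unfold M.tv
    by_cases a : m * e = e * m
    · rw [if_pos a, if_pos ((ezc h k).1 a)]; exact h
    · rw [if_neg a, if_neg ((ezc h k).not.1 a)]; exact h.cmul k

/-- conjugation by an element interchanging `w` and `η` -/
theorem Bv.sw {s c : G} {i j k : Bool} (hn : s ∈ normalizer (D.F : Set G)) (hz : s * D.ι .Z = D.ι .Z * s)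
    (hw : ez D.ι (s * D.ι .W * s⁻¹) η) (hh : ez D.ι (s * D.ι η * s⁻¹) .W) (he : ez D.ι (s * D.ι ε * s⁻¹) ε)
    (h : Bv D c i j k) : Bv D (s * c * s⁻¹) j i k := fun m hm => by
  obtain ⟨u, hu, e⟩ := D.exists_im (inv_mem hn) hm
  have e' : s * D.ι u * s⁻¹ = D.ι m := by rw [← e]; group
  have := ez.conj hz (h u hu) (ez_tv hw i (ez_tv hh j (ez_tv he k (ez.of_eq e'))))
  rw [show s * (c * D.ι u * c⁻¹) * s⁻¹ = s * c * s⁻¹ * D.ι m * (s * c * s⁻¹)⁻¹ by rw [← e']; group] at this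
  exact this.congr (k_sw i j k m hm)

end Cfsg.Agent.H75.L3T
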