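import Cfsg.Agent.H75.L3TrB

/-! Project L33, piece Tr: the subgroup `C_T(D)`. -/

set_option autoImplicit false
set_option linter.unusedSectionVars false

noncomputable section

namespace Cfsg.Agent.H75.L3T

open Subgroup Cfsg.Agent.H83 Cfsg.Agent.H40.L3 Cfsg.Agent.H40

structure Cx (G : Type*) [Group G] where
  D : D2 G false
  C : Cx2 D
  n : G
  f : G
  s : G
  r : G
  nT : n ∈ C.T
  nN : n ∈ normalizer (C.Ts : Set G)
  n2 : n * n ∈ C.Ts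
  K : Kind D false (cj n D.F) f true
  cov : ∀ x ∈ C.T, x ∈ C.Ts ∨ x * n⁻¹ ∈ C.Ts
  sT : s ∈ C.Ts
  sw : ez D.ι (s * D.ι .W * s⁻¹) η
  rT : r ∈ C.Ts
  R : RP D false r

namespace Cx
variable {G : Type*} [Group G] [Finite G] (Y : Cx G)

abbrev ι : Mf →* G := Y.D.ι
abbrev F1 : Subgroup G := cj Y.n Y.D.F
abbrev D' : Subgroup G := E.map Y.D.ι
def W : Subgroup G := Y.C.T ⊓ centralizer (Y.D' : Set G)

theorem D'_eq : Y.D' = Y.D.F ⊓ Y.F1 := by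
  ext x
  constructor
  · rintro ⟨m, hm, rfl⟩
    exact ⟨Y.D.mem_map.2 (E_le hm), (Y.K.inter m (E_le hm)).2 hm⟩
  · rintro ⟨⟨m, hm, rfl⟩, h⟩
    exact Y.D.mem_map.2 ((Y.K.inter m hm).1 h)

theorem nD {g : G} (hg : g ∈ Y.C.T) : g ∈ normalizer (Y.D' : Set G) := by
  have h1 : Y.C.Ts ≤ normalizer (Y.D' : Set G) := by
    rw [Y.D'_eq]
    exact le_norm_inf (fun _ h => Y.C.nF h) fun _ h => Y.C.nF1 Y.nN h
  have h2 : Y.n ∈ normalizer (Y.D' : Set G) := by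
    rw [← cj_eq_self_iff, Y.D'_eq, cj_inf, Y.C.swap Y.n2, inf_comm]
  rcases Y.cov g hg with h | h
  · exact h1 h
  · simpa using mul_mem (h1 h) h2

theorem W_le : Y.W ≤ Y.C.T := inf_le_left
theorem nW : Y.C.T ≤ normalizer (Y.W : Set G) :=
  le_norm_inf le_normalizer (le_norm_cent fun _ h => Y.nD h)
theorem mem_W {c : G} : c ∈ Y.W ↔ c ∈ Y.C.T ∧ ∀ m ∈ E, c * Y.ι m = Y.ι m * c :=
  ⟨fun h => ⟨h.1, fun m hm => (h.2 _ ⟨m, hm, rfl⟩).symm⟩,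
    fun h => ⟨h.1, by rintro _ ⟨m, hm, rfl⟩; exact (h.2 m hm).symm⟩⟩
theorem ι_W {m : Mf} (h : m ∈ E) : Y.ι m ∈ Y.W := Y.mem_W.2 ⟨Y.C.ι_T m, fun u hu => by
  have key : ∀ m : Mf, m ∈ E → ∀ u : Mf, u ∈ E → m * u = u * m := by decide +kernel
  exact Y.D.comm_iff.2 (key m h u hu)⟩
theorem fTs : Y.f ∈ Y.C.Ts := Y.C.F1_le Y.nN Y.K.fF
theorem fT : Y.f ∈ Y.C.T := Y.C.l2 Y.fTs
theorem sT' : Y.s ∈ Y.C.T := Y.C.l2 Y.sT
theorem rT' : Y.r ∈ Y.C.T := Y.C.l2 Y.rT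

theorem W_Ts {c : G} (h : c ∈ Y.W) : c ∈ Y.C.Ts := by
  refine (Y.cov c h.1).resolve_right fun e => ?_
  have e1 : cj c Y.D.F = Y.F1 := by
    have := cj_eq_self (Y.C.nF1 Y.nN e)
    rwa [← cj_mul, inv_mul_cancel_right] at this
  obtain ⟨m, hm, e2⟩ := mem_cj.1 (e1 ▸ Y.K.fF : Y.f ∈ cj c Y.D.F)
  have key : ∀ m : Mf, m ∈ sF → m * .D = .D * m := by decide +kernel
  have c1 := Y.D.comm_iff.2 (key m hm)
  have c2 := (Y.mem_W.1 h).2 .D (by decide +kernel)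
  have c3 : Y.f * Y.ι .D * Y.f⁻¹ = Y.ι .D := by
    have : Y.f = c * Y.ι m * c⁻¹ := by rw [e2]; group
    rw [this]
    calc _ = c * Y.ι m * c⁻¹ * (Y.ι .D * c) * (Y.ι m)⁻¹ * c⁻¹ := by group
      _ = c * (Y.ι m * Y.ι .D) * (Y.ι m)⁻¹ * c⁻¹ := by rw [← c2]; group
      _ = _ := by rw [c1, mul_assoc c, mul_inv_cancel_right, c2]; group
  exact absurd (Y.D.inj (Y.K.fd.symm.trans c3)) (by decide +kernel)

theorem bv_W {c : G} (h : c ∈ Y.W) : ∃ i j k, Bv Y.D c i j k :=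
  have := (Y.mem_W.1 h).2
  barD (Y.C.nF (Y.W_Ts h)) (Y.C.cz h.1) (this _ (by decide +kernel)) (this _ (by decide +kernel))
    (this _ (by decide +kernel))

theorem bv_f : Bv Y.D Y.f false true false := Y.K.bar

theorem rW : Y.r ∈ Y.W := Y.mem_W.2 ⟨Y.rT', fun m hm =>
  (mem_centralizer_singleton_iff.1 (E_ind (H := (centralizer {Y.r}).comap Y.ι)
    (mem_centralizer_singleton_iff.2 Y.R.rw.symm) (mem_centralizer_singleton_iff.2 Y.R.rd.symm)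
    (mem_centralizer_singleton_iff.2 Y.R.re.symm) hm)).symm⟩

theorem fa : ez Y.ι (Y.f * Y.ι .A * Y.f⁻¹) (.A * η) := by
  have h1 : ez Y.ι (Y.f * Y.ι .Ap * Y.f⁻¹) .Ap :=
    ez.iff_mul.2 (Y.D.cjF_cj (Y.C.cz Y.nT) Y.K.ap Y.K.fF)
  have h2 := h1.cmul (Y.K.bar .B (by decide +kernel))
  rw [show (.Ap * .B : Mf) = .A by decide +kernel] at h2
  exact h2.congr (by decide +kernel)

theorem bv_r : Bv Y.D Y.r true true true := by
  obtain ⟨i, j, k, h⟩ := Y.bv_W Y.rW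
  have key : ∀ i j k : Bool, (tw i j k .T = .T * .Gm ∨ tw i j k .T = .T * .Gm * .Z) →
      j = true ∧ k = true := by decide +kernel
  obtain ⟨rfl, rfl⟩ := key i j k (Y.D.ez_uniq Y.R.rt (h .T (by decide +kernel)))
  cases i
  · exfalso
    have rz := Y.R.rz
    have q1 : ez Y.ι (Y.r * Y.f * Y.ι .Q * (Y.r * Y.f)⁻¹) .Q :=
      (h.mul rz Y.bv_f .Q (by decide +kernel)).congr (by decide +kernel)
    have w1 : Y.r * Y.f * Y.ι .W * (Y.r * Y.f)⁻¹ = Y.ι .W :=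
      D2.cj1 (by rw [mul_assoc, Y.K.fw, ← mul_assoc, Y.R.rw, mul_assoc])
    have a1 : ez Y.ι (Y.r * Y.f * Y.ι .A * (Y.r * Y.f)⁻¹) (.A * η) :=
      ez.comp rz (ez.of_eq (D2.cjm (D2.cj1 Y.R.ra)
        (D2.cj1 ((Y.mem_W.1 Y.rW).2 η (by decide +kernel))))) Y.fa
    rcases q1 with q1 | q1 <;> rcases a1 with a1 | a1 <;>
      exact absurd ((D2.cje (D2.cjm a1 q1) (D2.cjm (D2.cjm w1 q1) a1)).1 (by decide +kernel))
        (by decide +kernel)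
  · exact h

theorem cen_ε {x : G} (h : x ∈ Y.F1) : x * Y.ι ε = Y.ι ε * x := by
  have fe : Y.f ∈ centralizer {Y.ι ε} := mem_centralizer_singleton_iff.2 Y.K.fe
  have key : ∀ m : Mf, m ∈ E → m * ε = ε * m ∧ m * .Ap * ε = ε * (m * .Ap) := by decide +kernel
  obtain ⟨m, hm, e⟩ := Y.K.cov x h
  have h1 : Y.ι m ∈ centralizer {Y.ι ε} :=
    mem_centralizer_singleton_iff.2 (Y.D.comm_iff.2 (key m hm).1)
  have h2 : Y.ι (m * .Ap) ∈ centralizer {Y.ι ε} :=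
    mem_centralizer_singleton_iff.2 (Y.D.comm_iff.2 (key m hm).2)
  rw [← mem_centralizer_singleton_iff]
  rcases e with rfl | rfl | rfl | rfl
  exacts [h1, h2, mul_mem h1 fe, mul_mem h2 fe]

theorem sd : ez Y.ι (Y.s * Y.ι .D * Y.s⁻¹) .D := by
  have hn := Y.C.nF Y.sT
  obtain ⟨d, d0, d1⟩ := Y.D.exists_im hn (m := .D) (by decide +kernel)
  have c : ∀ m ∈ sF, d * m = m * d := fun m hm => by
    obtain ⟨u, hu, e⟩ := Y.D.exists_im (inv_mem hn) hm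
    have e' : Y.s * Y.ι u * Y.s⁻¹ = Y.ι m := by rw [← e]; group
    have key : ∀ u : Mf, u ∈ sF → .D * u = u * .D := by decide +kernel
    exact (D2.cjc d1 e').1 (key u hu)
  have key : ∀ d : Mf, d ∈ sF → d * .T = .T * d → d * .B = .B * d → d * .W = .W * d →
      d * .Q = .Q * d → d * d = .Z → d = .D ∨ d = .D * .Z := by decide +kernel
  rw [d1, Y.D.ez_iff]
  exact key d d0 (c _ (by decide +kernel)) (c _ (by decide +kernel)) (c _ (by decide +kernel))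
    (c _ (by decide +kernel))
    ((D2.cje (D2.cjm d1 d1) (D2.cj1 (Y.C.cz Y.sT'))).1 (by decide +kernel))

theorem se : ez Y.ι (Y.s * Y.ι ε * Y.s⁻¹) ε := by
  obtain ⟨d, d0, d1⟩ := Y.D.exists_im (Y.nD Y.sT') (m := ε) (by decide +kernel)
  have c : d * .Ap = .Ap * d := by
    have := Y.cen_ε ((mem_normalizer_iff''.1 (Y.C.nF1 Y.nN Y.sT) _).1 Y.K.ap)
    rw [← Y.D.comm_iff, ← d1]
    calc _ = Y.s * (Y.ι ε * (Y.s⁻¹ * Y.ι .Ap * Y.s)) * Y.s⁻¹ := by group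
      _ = _ := by rw [← this]; group
  have key : ∀ d : Mf, d ∈ E → d * .Ap = .Ap * d → d * d = .Z → d ≠ η → d ≠ η * .Z →
      d = ε ∨ d = ε * .Z := by decide +kernel
  have z1 := D2.cj1 (Y.C.cz Y.sT')
  rw [d1, Y.D.ez_iff]
  refine key d d0 c ((D2.cje (D2.cjm d1 d1) z1).1 (by decide +kernel)) ?_ ?_
  · rcases Y.sw with w | w
    · exact (D2.cje d1 w).not.1 (by decide +kernel)
    · have := D2.cjm w z1
      rw [M.mzz] at this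
      exact (D2.cje d1 this).not.1 (by decide +kernel)
  · rcases Y.sw with w | w
    · exact (D2.cje d1 (D2.cjm w z1)).not.1 (by decide +kernel)
    · exact (D2.cje d1 w).not.1 (by decide +kernel)

theorem sh : ez Y.ι (Y.s * Y.ι η * Y.s⁻¹) .W :=
  ((Y.sd.cmul Y.sw).cmul Y.se).congr (by decide +kernel)

theorem bv_s {c : G} {i j k : Bool} (h : Bv Y.D c i j k) : Bv Y.D (Y.s * c * Y.s⁻¹) j i k :=
  h.sw (Y.C.nF Y.sT) (Y.C.cz Y.sT') Y.sw Y.sh Y.se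

/-- `b = a^s` -/
def b : G := Y.s * Y.ι .A * Y.s⁻¹
/-- `h = a a^s` -/
def h : G := Y.ι .A * Y.b

theorem bT : Y.b ∈ Y.C.T := mul_mem (mul_mem Y.sT' (Y.C.ι_T _)) (inv_mem Y.sT')
theorem bv_b : Bv Y.D Y.b false true false := Y.bv_s bv_A
theorem bv_h : Bv Y.D Y.h true true false := Bv.mul (Y.D.zc _) bv_A Y.bv_b
theorem a_inv {m : Mf} (hm : m ∈ E) : Y.ι .A * Y.ι m * (Y.ι .A)⁻¹ = (Y.ι m)⁻¹ := by
  have key : ∀ m : Mf, m ∈ E → .A * m * .A⁻¹ = m⁻¹ := by decide +kernel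
  rw [← map_inv, ← map_inv, ← map_mul, ← map_mul, key m hm]
theorem b_inv {m : Mf} (hm : m ∈ E) : Y.b * Y.ι m * Y.b⁻¹ = (Y.ι m)⁻¹ := by
  obtain ⟨u, hu, e⟩ := Y.D.exists_im (inv_mem (Y.nD Y.sT')) hm
  have e' : Y.ι m = Y.s * Y.ι u * Y.s⁻¹ := by rw [← e]; group
  rw [e', b]
  calc _ = Y.s * (Y.ι .A * Y.ι u * (Y.ι .A)⁻¹) * Y.s⁻¹ := by group
    _ = _ := by rw [Y.a_inv hu]; group
theorem a2 : Y.ι .A * Y.ι .A = 1 := by
  rw [← map_mul, ← map_one Y.ι, Y.D.inj.eq_iff]; decide +kernel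
theorem b2 : Y.b * Y.b = 1 := by
  calc Y.b * Y.b = Y.s * (Y.ι .A * Y.ι .A) * Y.s⁻¹ := by rw [b]; group
    _ = 1 := by rw [Y.a2]; group
theorem hW : Y.h ∈ Y.W := Y.mem_W.2 ⟨mul_mem (Y.C.ι_T _) Y.bT, fun m hm => by
  rw [← mul_inv_eq_iff_eq_mul, h]
  calc _ = Y.ι .A * (Y.b * Y.ι m * Y.b⁻¹) * (Y.ι .A)⁻¹ := by group
    _ = (Y.ι .A * Y.ι m * (Y.ι .A)⁻¹)⁻¹ := by rw [Y.b_inv hm]; group
    _ = _ := by rw [Y.a_inv hm, inv_inv]⟩

/-- elements of `W` with the same action differ by an element of `D` -/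
theorem diff {c y : G} {i j k : Bool} (hc : c ∈ Y.W) (hy : y ∈ Y.W) (h1 : Bv Y.D c i j k)
    (h2 : Bv Y.D y i j k) : ∃ m ∈ E, c = y * Y.ι m := by
  obtain ⟨m, hm, e⟩ := Y.C.bar_eq hy.1 hc.1 h2 h1
  have h3 := (Y.mem_W.1 (e ▸ mul_mem (inv_mem hy) hc : Y.ι m ∈ Y.W)).2
  have key : ∀ m : Mf, m ∈ sF → m * .W = .W * m → m * ε = ε * m → m ∈ E := by decide +kernel
  exact ⟨m, key m hm (Y.D.comm_iff.1 (h3 _ (by decide +kernel)))
    (Y.D.comm_iff.1 (h3 _ (by decide +kernel))), by rw [e]; group⟩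

theorem bpW {c : G} (h : c ∈ Y.W) (i : Bool) : bp c i ∈ Y.W := by
  cases i; exacts [one_mem _, h]

theorem bv_y (i j : Bool) : Bv Y.D (bp Y.r i * bp Y.h j) (i ^^ j) (i ^^ j) i := by
  have := Bv.mul (Y.C.cz (Y.bpW Y.rW i).1) (Y.bv_r.bp i) (Y.bv_h.bp j)
  simpa using this

theorem cover {c : G} (hc : c ∈ Y.W) : ∃ i j : Bool, ∃ m ∈ E, c = bp Y.r i * bp Y.h j * Y.ι m := by
  obtain ⟨i, j, k, h⟩ := Y.bv_W hc
  have y1 := Y.bv_y k (k ^^ j)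
  have y2 : bp Y.r k * bp Y.h (k ^^ j) ∈ Y.W := mul_mem (Y.bpW Y.rW _) (Y.bpW Y.hW _)
  rw [← Bool.xor_assoc, Bool.xor_self, Bool.false_xor] at y1
  by_cases e : i = j
  · subst e
    exact ⟨_, _, Y.diff hc y2 h y1⟩
  · exfalso
    have y3 := Bv.mul (Y.D.zc _) bv_A y1
    have e' : (true ^^ j) = i := by revert e; cases i <;> cases j <;> simp
    rw [e', Bool.false_xor, Bool.false_xor] at y3
    obtain ⟨m, hm, e1⟩ := Y.C.bar_eq (mul_mem (Y.C.ι_T _) y2.1) hc.1 y3 h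
    have key : ∀ m : Mf, m ∈ sF → m * .D = .D * m := by decide +kernel
    have c1 : Y.ι m ∈ centralizer {Y.ι .D} :=
      mem_centralizer_singleton_iff.2 (Y.D.comm_iff.2 (key m hm))
    have c2 : ∀ {x : G}, x ∈ Y.W → x ∈ centralizer {Y.ι .D} := fun hx =>
      mem_centralizer_singleton_iff.2 ((Y.mem_W.1 hx).2 _ (by decide +kernel))
    have c3 := mul_mem (mul_mem (c2 hc) (inv_mem c1)) (inv_mem (c2 y2))
    rw [e1, show c * ((Y.D.ι .A * (bp Y.r k * bp Y.h (k ^^ j)))⁻¹ * c)⁻¹ *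
      (bp Y.r k * bp Y.h (k ^^ j))⁻¹ = Y.D.ι .A by group] at c3
    exact absurd (Y.D.comm_iff.1 (mem_centralizer_singleton_iff.1 c3)) (by decide +kernel)

theorem card_W : 64 ≤ Nat.card Y.W := by
  have c : Nat.card (E × Bool × Bool) = 64 := by
    rw [Nat.card_prod, M.card_sub, Nat.card_prod, Nat.card_eq_fintype_card (α := Bool)]
    decide +kernel
  rw [← c]
  refine Nat.card_le_card_of_injective (fun x => ⟨bp Y.r x.2.1 * bp Y.h x.2.2 * Y.ι x.1,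
    mul_mem (mul_mem (Y.bpW Y.rW _) (Y.bpW Y.hW _)) (Y.ι_W x.1.2)⟩) ?_
  rintro ⟨m, i, j⟩ ⟨m', i', j'⟩ e
  have e1 : bp Y.r i * bp Y.h j * Y.ι m = bp Y.r i' * bp Y.h j' * Y.ι m' := congrArg Subtype.val e
  have y : ∀ (i j : Bool) (m : E), Bv Y.D (bp Y.r i * bp Y.h j * Y.ι m) (i ^^ j) (i ^^ j) i :=
    fun i j m => by
      have := Bv.mul (Y.C.cz (mul_mem (Y.bpW Y.rW i) (Y.bpW Y.hW j)).1) (Y.bv_y i j)
        (bv_F (Y.D.mem_map.2 (E_le m.2)))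
      simpa using this
  obtain ⟨h1, -, rfl⟩ := (y i j m).uq (e1 ▸ y i' j' m')
  obtain rfl : j = j' := by simpa using h1
  rw [Subtype.ext (Y.D.inj (mul_left_cancel e1))]

end Cx

end Cfsg.Agent.H75.L3T
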