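import Mathlib
import Cfsg.Agent.H75.Weights
import Cfsg.Agent.H11.PermChar

/-!
# Decomposing a character into as many summands as its norm
-/

namespace Cfsg.Agent.H75

open Module

theorem irr_of_sum_of_classInner_le {G : Type*} [Group G] [Fintype G] {ι : Type*} [Fintype ι]
    (φ : ι → G → ℂ) (hφ : ∀ i, IsCharacter G (φ i)) (h0 : ∀ i, φ i ≠ 0) {n : ℕ}
    (hn : classInner (∑ i, φ i) (∑ i, φ i) = n) (hle : n ≤ Fintype.card ι) :
    (∀ i, IsIrrCharacter G (φ i)) ∧ Function.Injective φ := by
  classical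
  choose m hm using fun i j => H11.exists_nat_classInner (hφ i) (hφ j)
  have h1 : ∀ i, 1 ≤ m i i := by
    intro i
    rw [Nat.one_le_iff_ne_zero]
    intro h
    have := hm i i
    rw [h, Nat.cast_zero, H11.classInner_self_eq_zero] at this
    exact h0 i this
  have h2 : ∑ i, ∑ j, m i j = n := by
    rw [H11.classInner_sum_left] at hn
    simp only [H11.classInner_sum_right, hm] at hn
    exact_mod_cast hn
  have h3 : ∀ i, ∑ j, m i j = 1 := by
    have h4 : ∀ i ∈ Finset.univ, 1 ≤ ∑ j, m i j := fun i _ =>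
      (h1 i).trans (Finset.single_le_sum (f := m i) (fun _ _ => Nat.zero_le _) (Finset.mem_univ i))
    have h5 := (Finset.sum_eq_sum_iff_of_le h4).mp (le_antisymm (Finset.sum_le_sum h4) (by
      rw [h2]; simpa using hle))
    exact fun i => (h5 i (Finset.mem_univ i)).symm
  have h6 : ∀ i, m i i = 1 ∧ ∀ j, j ≠ i → m i j = 0 := by
    intro i
    have h7 := h3 i
    rw [← Finset.add_sum_erase _ _ (Finset.mem_univ i)] at h7
    have h8 := h1 i
    refine ⟨by omega, fun j hj => ?_⟩
    have h9 : ∑ j ∈ Finset.univ.erase i, m i j = 0 := by omega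
    exact Finset.sum_eq_zero_iff.mp h9 j (by simp [hj])
  refine ⟨fun i => H11.isIrrCharacter_of_classInner_self (hφ i) (by rw [hm, (h6 i).1]; simp), ?_⟩
  intro i j hij
  by_contra hne
  have h7 := hm i j
  rw [← hij, hm, (h6 i).1, (h6 i).2 j (Ne.symm hne)] at h7
  simp at h7

theorem character_eq_sum_of_isInternal {K : Type*} [Field K] {G : Type*} [Group G] {V : Type*}
    [AddCommGroup V] [Module K V] [FiniteDimensional K V] (ρ : Representation K G V)
    {ι : Type*} [Fintype ι] [DecidableEq ι] (p : ι → Submodule K V) (hp : DirectSum.IsInternal p)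
    (hinv : ∀ i g, p i ≤ (p i).comap (ρ g)) :
    ρ.character = ∑ i, (ρ.subrepresentation (p i) (hinv i)).character := by
  ext g
  rw [Finset.sum_apply]
  exact LinearMap.trace_eq_sum_trace_restrict hp (fun i => hinv i g)

section Wt

variable {K : Type*} [Field K] {V : Type*} [AddCommGroup V] [Module K V] {G : Type*} [Group G]
  {A : Type*} [AddCommGroup A]

theorem iSup_wt_eq_top [Finite A] (ρ : Representation K G V) (x : A → G)
    (hx : ∀ a b, x (a + b) = x a * x b) {M : Type*} [AddCommGroup M] [Finite M]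
    (hK : (Nat.card M : K) ≠ 0) (χ : M →+ AddChar A K) (hA : ∀ a ≠ 0, ∃ m, χ m a ≠ 1) :
    ⨆ m, wt ρ x (χ m) = ⊤ := by
  classical
  have := Fintype.ofFinite A
  have := Fintype.ofFinite M
  have hx0 : x 0 = 1 := by
    have := hx 0 0
    rw [add_zero] at this
    exact left_eq_mul.mp this
  rw [eq_top_iff]
  rintro v -
  let P : M → V := fun m => ∑ a, χ m (-a) • ρ (x a) v
  have hP : ∀ m, P m ∈ wt ρ x (χ m) := by
    intro m b
    simp only [P, map_sum, map_smul, Finset.smul_sum]
    refine Fintype.sum_equiv (Equiv.addLeft b) _ _ fun a => ?_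
    rw [Equiv.coe_addLeft, hx, map_mul, Module.End.mul_apply, smul_smul, ← AddChar.map_add_eq_mul]
    congr 2
    rw [neg_add, add_neg_cancel_left]
  have hsum : ∑ m, P m = (Fintype.card M : K) • v := by
    simp only [P]
    rw [Finset.sum_comm]
    rw [Finset.sum_eq_single 0]
    · simp [hx0, Nat.cast_smul_eq_nsmul]
    · intro a _ ha
      rw [← Finset.sum_smul]
      obtain ⟨m, hm⟩ := hA (-a) (neg_ne_zero.mpr ha)
      let ψ : AddChar M K :=
        { toFun := fun m => χ m (-a)
          map_zero_eq_one' := by simp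
          map_add_eq_mul' := fun m m' => by simp }
      have hψ : ψ ≠ 0 := AddChar.ne_zero_iff.mpr ⟨m, hm⟩
      have : ∑ m, ψ m = 0 := by
        rw [AddChar.sum_eq_ite, if_neg hψ]
      rw [show (∑ m, χ m (-a)) = 0 from this, zero_smul]
    · simp
  rw [Nat.card_eq_fintype_card] at hK
  have : v = (Fintype.card M : K)⁻¹ • ∑ m, P m := by
    rw [hsum, smul_smul, inv_mul_cancel₀ hK, one_smul]
  rw [this]
  exact Submodule.smul_mem _ _ (Submodule.sum_mem _ fun m _ => Submodule.mem_iSup_of_mem m (hP m))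

theorem isInternal_wt_complex [Finite A] [DecidableEq (AddChar A ℂ)] {V : Type*} [AddCommGroup V]
    [Module ℂ V] (ρ : Representation ℂ G V) (x : A → G) (hx : ∀ a b, x (a + b) = x a * x b) :
    DirectSum.IsInternal (wt ρ x) :=
  DirectSum.isInternal_submodule_of_iSupIndep_of_iSup_eq_top (wt_iSupIndep ρ x)
    (iSup_wt_eq_top ρ x hx (M := AddChar A ℂ) (by exact_mod_cast Nat.card_pos.ne')
      (AddMonoidHom.id _) (fun _ ha => AddChar.exists_apply_ne_zero.mpr ha))

end Wt

end Cfsg.Agent.H75
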