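import Cfsg.Agent.H75.T3Good

/-!
# Coxeter matrices of signed systems from the Cartan numbers
-/

set_option autoImplicit false

namespace Cfsg.Agent.H75.T3G

open Equiv H34 H78 Lead.T3

section

variable {ι Φ : Type*} [Fintype ι] [DecidableEq ι] {S : SignedSys ι Φ} (L : Coord S)

theorem κ_self (i : ι) : L.κ i (Pi.single i 1) = 2 := by
  have h := congrFun (L.c_s i (S.α i)) i
  rw [S.s_α, L.c_neg, L.c_α] at h
  simp at h
  linarith

theorem eq_one_of_c {w : Perm Φ} (hw : w ∈ S.W) (h : ∀ r, L.c (w r) = L.c r) : w = 1 :=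
  S.eq_one_of_pos hw fun k => L.pos_of_y_pos (l := 1) zero_le_one (by
    rw [Coord.y, h, ← Coord.y, L.y_α]; exact one_pos)

theorem c_step (i j : ι) {r r' : Φ} {a b : ℝ} (a' b' : ℝ)
    (h : L.c r' = L.c r + a • Pi.single i 1 + b • Pi.single j 1)
    (hb : b' = -b - L.κ j (L.c r) - L.κ j (Pi.single i 1) * a)
    (ha : a' = -a - L.κ i (L.c r) - L.κ i (Pi.single j 1) * b') :
    L.c ((S.s i * S.s j) r') = L.c r + a' • Pi.single i 1 + b' • Pi.single j 1 := by
  simp only [Perm.mul_apply, L.c_s, h, ha, hb, map_add, map_sub, map_smul, κ_self, smul_eq_mul]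
  module

variable {i j : ι}

omit [Fintype ι] [DecidableEq ι] in
theorem ss_ne_one (h : i ≠ j) : S.s i * S.s j ≠ 1 := fun e =>
  h (S.s_injective (by rw [eq_inv_of_mul_eq_one_left e, S.s_inv]))

theorem c_step1 (i j : ι) (r : Φ) : L.c ((S.s i * S.s j) r) = L.c r +
    (L.κ i (Pi.single j 1) * L.κ j (L.c r) - L.κ i (L.c r)) • Pi.single i 1 +
      (-L.κ j (L.c r)) • Pi.single j 1 :=
  c_step L i j (a := 0) (b := 0) _ _ (by simp) (by ring) (by ring)

theorem order_two (h : i ≠ j) (h1 : L.κ i (Pi.single j 1) = 0) (h2 : L.κ j (Pi.single i 1) = 0) :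
    orderOf (S.s i * S.s j) = 2 := by
  refine orderOf_eq_prime (eq_one_of_c L (pow_mem (mul_mem (S.s_mem_W _) (S.s_mem_W _)) _)
    fun r => ?_) (ss_ne_one h)
  simpa [pow_two] using c_step L i j 0 0 (c_step1 L i j r) (by rw [h2]; ring) (by rw [h1]; ring)

theorem order_three (h : i ≠ j) (h1 : L.κ i (Pi.single j 1) * L.κ j (Pi.single i 1) = 1) :
    orderOf (S.s i * S.s j) = 3 := by
  haveI : Fact (Nat.Prime 3) := ⟨Nat.prime_three⟩
  refine orderOf_eq_prime (eq_one_of_c L (pow_mem (mul_mem (S.s_mem_W _) (S.s_mem_W _)) _)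
    fun r => ?_) (ss_ne_one h)
  simpa [pow_three] using c_step L i j 0 0 (c_step L i j (-L.κ i (L.c r))
    (L.κ j (Pi.single i 1) * L.κ i (L.c r) - L.κ j (L.c r)) (c_step1 L i j r)
    (by linear_combination L.κ j (L.c r) * h1) (by linear_combination L.κ i (L.c r) * h1))
    (by ring) (by ring)

theorem order_four (h1 : L.κ i (Pi.single j 1) * L.κ j (Pi.single i 1) = 2) :
    orderOf (S.s i * S.s j) = 4 := by
  have k := fun r => c_step L i j (L.κ i (Pi.single j 1) * L.κ j (L.c r) - 2 * L.κ i (L.c r))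
    (L.κ j (Pi.single i 1) * L.κ i (L.c r) - 2 * L.κ j (L.c r)) (c_step1 L i j r)
    (by linear_combination L.κ j (L.c r) * h1) (by linear_combination L.κ i (L.c r) * h1)
  refine orderOf_eq_prime_pow (p := 2) (n := 1) (fun e => ?_)
    (eq_one_of_c L (pow_mem (mul_mem (S.s_mem_W _) (S.s_mem_W _)) _) fun r => ?_)
  · have := k (S.α i)
    rw [← Perm.mul_apply, ← pow_two, show (S.s i * S.s j) ^ 2 = 1 from e, Perm.one_apply, L.c_α,
      κ_self, h1, mul_comm (L.κ j _) (2 : ℝ), sub_self] at this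
    have := congrFun this i
    norm_num at this
  · simpa [pow_succ] using c_step L i j 0 0 (c_step L i j (-L.κ i (L.c r))
      (L.κ j (Pi.single i 1) * L.κ i (L.c r) - L.κ j (L.c r)) (k r)
      (by linear_combination L.κ j (L.c r) * h1) (by linear_combination L.κ i (L.c r) * h1))
      (by ring) (by linear_combination 0 * h1)

/-- The Coxeter matrix from the Cartan numbers. -/
theorem order_eq (i j : ι) {k : ℕ} (h : (i = j ∧ k = 1) ∨ (i ≠ j ∧
    ((L.κ i (Pi.single j 1) = 0 ∧ L.κ j (Pi.single i 1) = 0 ∧ k = 2) ∨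
      (L.κ i (Pi.single j 1) * L.κ j (Pi.single i 1) = 1 ∧ k = 3) ∨
      (L.κ i (Pi.single j 1) * L.κ j (Pi.single i 1) = 2 ∧ k = 4)))) :
    orderOf (S.s i * S.s j) = k := by
  rcases h with ⟨rfl, rfl⟩ | ⟨h, ⟨h1, h2, rfl⟩ | ⟨h1, rfl⟩ | ⟨h1, rfl⟩⟩
  exacts [by rw [S.s_mul_self, orderOf_one], order_two L h h1 h2, order_three L h h1,
    order_four L h1]

end

theorem tm_cases {n : ℕ} (par : ℕ → ℕ) (sp : ℕ) {a b : Fin n} (h : a ≠ b) :
    (((b.1 ≠ 0 ∧ par b = a) ∨ (a.1 ≠ 0 ∧ par a = b)) ∧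
      ((max a.1 b.1 = sp ∧ tm n par sp a b = 4) ∨ (max a.1 b.1 ≠ sp ∧ tm n par sp a b = 3))) ∨
    (¬ ((b.1 ≠ 0 ∧ par b = a) ∨ (a.1 ≠ 0 ∧ par a = b)) ∧ tm n par sp a b = 2) := by
  rw [tm, if_neg h]
  split_ifs <;> simp only [*, not_false_eq_true, and_self, true_or, or_true, ne_eq]

/-- Type `A`. -/
theorem order_A {m : ℕ} (i j : Fin m) :
    orderOf ((H80.sysA m).s i * (H80.sysA m).s j) = tm m parA 0 i j := by
  refine order_eq (coordA m) i j ?_
  by_cases h : i = j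
  · exact Or.inl ⟨h, if_pos h⟩
  refine Or.inr ⟨h, ?_⟩
  have k := tm_cases parA 0 h
  rw [coordA_κ, coordA_κ, if_neg h, if_neg (Ne.symm h)]
  rw [Fin.ext_iff] at h
  simp only [parA] at k
  split_ifs <;> first | omega | (norm_num; omega)

/-- The integral inner product. -/
def dz (x y : ℤ) : ℤ := if x = y then 1 else if x = -y then -1 else 0

theorem dz_cases (x y : ℤ) : (x = y ∧ dz x y = 1) ∨ (x ≠ y ∧ x = -y ∧ dz x y = -1) ∨
    (x ≠ y ∧ x ≠ -y ∧ dz x y = 0) := by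
  unfold dz; split_ifs <;> omega

theorem order_BC {n : ℕ} {d : Prop} (hn : d ∨ 2 ≤ n) {i j : Fin n} (h : i ≠ j) {D : ℤ}
    (hD : D = dz (j + 1) (i + 1) + dz (j + 1) (ht (sB hn i)) + dz (ht (sB hn j)) (i + 1) +
      dz (ht (sB hn j)) (ht (sB hn i))) :
    (D = 0 → orderOf ((bcSys hn).s i * (bcSys hn).s j) = 2) ∧
    (D = -1 → i + 1 ≠ ht (sB hn i) → j + 1 ≠ ht (sB hn j) →
      orderOf ((bcSys hn).s i * (bcSys hn).s j) = 3) ∧
    (D = -2 → i + 1 = ht (sB hn i) → j + 1 ≠ ht (sB hn j) →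
      orderOf ((bcSys hn).s i * (bcSys hn).s j) = 4) ∧
    (D = -2 → i + 1 ≠ ht (sB hn i) → j + 1 = ht (sB hn j) →
      orderOf ((bcSys hn).s i * (bcSys hn).s j) = 4) := by
  have e : ∀ c a : BI n, vI c ⬝ᵥ vI a = dz (ht c) (ht a) := fun c a => by
    simp only [vI_dot, dz, ← ht_inj, ht_ng]
    split_ifs <;> simp
  have e1 : (vI (j, false) + vI (sB hn j)) ⬝ᵥ (vI (i, false) + vI (sB hn i)) = D := by
    simp only [add_dotProduct, dotProduct_add, e, hD, ht_false]
    push_cast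
    ring
  have k1 := coordBC_κ (hn := hn) (hk := one_pos) i j
  have k2 := coordBC_κ (hn := hn) (hk := one_pos) j i
  rw [dotProduct_comm] at k2
  simp only [e1, ite_self, ← ht_inj, ht_false] at k1 k2
  refine ⟨fun h0 => order_two _ h (by rw [k1, h0]; simp) (by rw [k2, h0]; simp),
    fun h0 h1 h2 => order_three (coordBC hn 1 one_pos) h ?_,
    fun h0 h1 h2 => order_four (coordBC hn 1 one_pos) ?_,
    fun h0 h1 h2 => order_four (coordBC hn 1 one_pos) ?_⟩
  · rw [k1, k2, h0, if_neg h1, if_neg h2]; norm_num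
  · rw [k1, k2, h0, if_pos h1, if_neg h2]; norm_num
  · rw [k1, k2, h0, if_neg h1, if_pos h2]; norm_num

theorem order_C' {n : ℕ} {d : Prop} (hn : d ∨ 2 ≤ n) (hd : d) {i j : Fin n} (h : i ≠ j) :
    orderOf ((bcSys hn).s i * (bcSys hn).s j) =
      if i.val + 1 = j ∨ j.val + 1 = i then (if i.val + j = 1 then 4 else 3) else 2 := by
  have k : ∀ i : Fin n, (i.val ≠ 0 ∧ ht (sB hn i) = -i.val) ∨ (i.val = 0 ∧ ht (sB hn i) = 1) :=
    fun i => by have := ht_sB hn i; tauto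
  have k1 := k i
  have k2 := k j
  clear k
  have h' : i.val ≠ j := fun e => h (Fin.ext e)
  have := dz_cases (j + 1) (i + 1)
  have := dz_cases (j + 1) (ht (sB hn i))
  have := dz_cases (ht (sB hn j)) (i + 1)
  have := dz_cases (ht (sB hn j)) (ht (sB hn i))
  split_ifs
  · by_cases h0 : i.val = 0
    exacts [(order_BC hn h rfl).2.2.1 (by omega) (by omega) (by omega),
      (order_BC hn h rfl).2.2.2 (by omega) (by omega) (by omega)]
  exacts [(order_BC hn h rfl).2.1 (by omega) (by omega) (by omega),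
    (order_BC hn h rfl).1 (by omega)]

/-- Type `C`. -/
theorem order_C {n : ℕ} {d : Prop} (hn : d ∨ 2 ≤ n) (hd : d) (a b : Fin n) :
    orderOf ((bcSys hn).s a.rev * (bcSys hn).s b.rev) = tm n parA (n - 1) a b := by
  by_cases h : a = b
  · rw [h, SignedSys.s_mul_self, orderOf_one, tm, if_pos rfl]
  have k0 := tm_cases parA (n - 1) h
  have := a.2
  have := b.2
  rw [order_C' hn hd (by simpa using h)]
  simp only [parA, Fin.val_rev] at k0 ⊢
  split_ifs <;> omega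

theorem order_D' {n : ℕ} {d : Prop} (hn : d ∨ 2 ≤ n) (hd : ¬ d) {i j : Fin n} (h : i ≠ j) :
    orderOf ((bcSys hn).s i * (bcSys hn).s j) =
      if (i.val + 1 = j ∧ i.val ≠ 0) ∨ (j.val + 1 = i ∧ j.val ≠ 0) ∨ (i.val = 0 ∧ j.val = 2) ∨
        (j.val = 0 ∧ i.val = 2) then 3 else 2 := by
  have k : ∀ i : Fin n, (i.val ≠ 0 ∧ ht (sB hn i) = -i.val) ∨ (i.val = 0 ∧ ht (sB hn i) = 2) :=
    fun i => by have := ht_sB hn i; tauto
  have h' : i.val ≠ j := fun e => h (Fin.ext e)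
  obtain ⟨o2, o3, -⟩ := order_BC hn h rfl
  rcases k i with ⟨h1, e1⟩ | ⟨h1, e1⟩ <;> rcases k j with ⟨h2, e2⟩ | ⟨h2, e2⟩ <;>
    rw [e1, e2] at o2 o3 <;> clear k e1 e2 <;> split_ifs <;>
    first
      | refine o3 ?_ (by omega) (by omega)
      | refine o2 ?_
  all_goals
    clear o2 o3
    unfold dz
    split_ifs <;> omega

/-- Type `D`. -/
theorem order_D {n : ℕ} {d : Prop} (hn : d ∨ 2 ≤ n) (hd : ¬ d) (h3 : 3 ≤ n) (a b : Fin n) :
    orderOf ((bcSys hn).s a.rev * (bcSys hn).s b.rev) = tm n (parD n) 0 a b := by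
  by_cases h : a = b
  · rw [h, SignedSys.s_mul_self, orderOf_one, tm, if_pos rfl]
  have k0 := tm_cases (parD n) 0 h
  have := a.2
  have := b.2
  have e : ∀ k, (k = n - 1 ∧ parD n k = n - 3) ∨ (k ≠ n - 1 ∧ parD n k = k - 1) := fun k => by
    unfold parD; split_ifs <;> omega
  have := e a
  have := e b
  clear e
  rw [order_D' hn hd (by simpa using h)]
  simp only [Fin.val_rev]
  split_ifs <;> omega

end Cfsg.Agent.H75.T3G
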