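import Cfsg.Agent.H97.U5Defs

/-! Project U5F, piece W4. -/

set_option autoImplicit false

namespace Cfsg.Agent.H75.U5W

open Cfsg.Agent.H97 Cfsg.Agent.H97.U5 Subgroup

universe u

variable {K : Type u} [Field K] {T : Hm K}

theorem tau_u (s r c : K) {u : Equiv.Perm (W K)} (hu : u ∈ AW T) (x : W K) :
    tauW T s r c (u x) = u (tauW T s r c x) := by
  obtain ⟨a, b, -, rfl⟩ := hu
  simp only [tauW_apply, uW_apply, map_sub, map_mul]
  ext <;> simp only <;> ring

theorem tau_add (s r c : K) (x y : W K) : tauW T s r c (x + y) = tauW T s r c x + tauW T s r c y := by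
  simp only [tauW_apply, Prod.fst_add, Prod.snd_add, map_add, Prod.mk_add_mk]
  ext <;> simp only <;> ring

theorem tau_perp {s r c : K} (h1 : 2 * s = 0) (h2 : c + T.σ c = s * T.σ s) (x y : W K) :
    Perp T (tauW T s r c x) (tauW T s r c y) ↔ Perp T x y := by
  have h3 : 2 * T.σ s = 0 := by have := congrArg T.σ h1; rwa [map_mul, map_ofNat, map_zero] at this
  have : hm T (tauW T s r c x) (tauW T s r c y) - hm T (tauW T s r c y) (tauW T s r c x) =
      hm T x y - hm T y x := by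
    simp only [hm, tauW_apply, map_add, map_sub, map_mul, T.inv]
    linear_combination (x.2.1 * y.1 - x.1 * y.2.1) * h3 +
      (T.σ x.1 * T.σ y.2.1 - T.σ x.2.1 * T.σ y.1) * h1 + (x.1 * T.σ y.1 - y.1 * T.σ x.1) * h2
  rw [Perp, Perp, ← sub_eq_zero, this, sub_eq_zero]

theorem tau_P (s r c x : K) : tauW T s r c (0, 0, x) = (0, 0, x) := by simp [tauW_apply]

theorem tau_inv (s r c : K) (x : W K) : (tauW T s r c).symm x = (x.1, x.2.1 - s * T.σ x.1,
    x.2.2 + s * T.σ (x.2.1 - s * T.σ x.1) - r * T.σ x.1 - c * x.1) := rfl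

variable [Finite K] {p : ℕ} [Fact p.Prime] [CharP K p]

omit [Finite K] [Fact p.Prime] [CharP K p] in
theorem main (h2 : W2Stmt T p) (h3 : W3Stmt T) {Γ : Subgroup (Equiv.Perm (W K))} (w : WG T p Γ)
    (o : Opp T Γ) (sem : ∀ g ∈ Γ, g ∈ normalizer (AW T : Set (Equiv.Perm (W K))) →
      ∃ φ : RingAut K, ∀ (c : K) (w : W K), g (c • w) = φ c • g w)
    (ex : ∃ g ∈ Γ, g ∉ normalizer (AW T : Set (Equiv.Perm (W K)))) :
    (nW K ∈ Γ ∧ ∀ l, hW T l ∈ Γ) ∧ ∀ g ∈ Γ, g ∉ normalizer (AW T : Set (Equiv.Perm (W K))) →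
      ∃ u ∈ AW T, ∃ y, g (0, 0, 1) = u (y, 0, 0) := by
  obtain ⟨s, r, c, s2, sc, k⟩ := h2 Γ w o ex
  set τ := tauW T s r c with hτ
  have e : ∀ (g : Equiv.Perm (W K)) x, τ (g x) = (τ * g * τ⁻¹) (τ x) := fun g x => by simp
  obtain ⟨n1, n2⟩ := h3 (Γ.comap (MulAut.conj τ).toMonoidHom) (fun u hu => by
      have : τ * u * τ⁻¹ = u := mul_inv_eq_iff_eq_mul.2 (Equiv.ext (tau_u s r c hu))
      show τ * u * τ⁻¹ ∈ Γ
      rw [this]; exact w.le hu)
    (fun g hg x y => τ.injective (by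
      rw [e, tau_add, w.add (τ * g * τ⁻¹) hg, ← e, ← e, tau_add]))
    (fun g hg x y h => by
      rw [← tau_perp s2 sc, e, e]
      exact w.perp _ hg _ _ ((tau_perp s2 sc x y).2 h))
    (fun g hg => by
      by_cases n : τ * g * τ⁻¹ ∈ normalizer (AW T : Set (Equiv.Perm (W K)))
      · refine Or.inl fun x => ?_
        obtain ⟨y, hy⟩ := nor_AW T n x
        exact ⟨y, τ.injective (by rw [e, tau_P, tau_P, hy])⟩
      · obtain ⟨u, hu, f⟩ := k _ hg n
        refine Or.inr ⟨u, hu, fun v => ?_⟩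
        have := f (τ v)
        refine (exists_congr fun x => ?_).trans (this.trans (exists_congr fun y => ?_))
        · rw [← τ.apply_eq_iff_eq, e, tau_P]; rfl
        · rw [← tau_u s r c hu, Equiv.apply_eq_iff_eq])
    (by
      obtain ⟨g, hg, n⟩ := ex
      refine ⟨τ⁻¹ * g * τ, by simpa [mul_assoc] using hg, 1, ?_⟩
      simpa [hτ, tau_P, tau_inv] using o g hg n 1 one_ne_zero)
  have om0 : T.om ≠ 0 := fun h => T.om_ne (by simp [h])
  have om1 : T.om ≠ 1 := fun h => T.om_ne (by simp [h])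
  have om2 : T.om ≠ -1 := fun h => T.om_ne (by simp [h])
  have os := T.σ_ne_zero om0
  have g1 : τ * hW T (Units.mk0 _ om0) * τ⁻¹ ∈ Γ := n2 _
  obtain ⟨φ, hφ⟩ := sem _ g1 (by
    by_contra n
    exact o _ g1 n 1 one_ne_zero (by simp [hτ, tau_inv, hW_apply, tauW_apply]))
  have φ1 : φ T.om = T.om := by
    have := congrArg (fun x => x.2.2) (hφ T.om (0, 0, 1))
    simp [hτ, tau_inv, hW_apply, tauW_apply] at this
    exact mul_left_cancel₀ os (by rw [this, mul_comm])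
  have k1 := hφ T.om (1, 0, 0)
  rw [φ1] at k1
  have d := sub_ne_zero.2 T.om_ne
  have s0 : s = 0 := by
    have := congrArg (fun x => x.2.1) k1
    simp [hτ, tau_inv, hW_apply, tauW_apply] at this
    field_simp at this
    have e1 : s * ((1 - T.om) * (T.σ T.om - T.om)) = 0 := by linear_combination this
    exact (mul_eq_zero.1 e1).resolve_right (mul_ne_zero (sub_ne_zero.2 om1.symm) d)
  have r0 : r = 0 := by
    have := congrArg (fun x => x.2.2) k1
    simp [hτ, s0, tau_inv, hW_apply, tauW_apply] at this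
    field_simp at this
    have e1 : r * (T.σ (T.om - 1) * T.σ (T.om - -1) * (T.σ T.om - T.om)) = 0 := by
      simp only [map_sub, map_neg, map_one]; linear_combination -this
    exact (mul_eq_zero.1 e1).resolve_right (mul_ne_zero (mul_ne_zero
      (T.σ_ne_zero (sub_ne_zero.2 om1)) (T.σ_ne_zero (sub_ne_zero.2 om2))) d)
  have tA : τ ∈ AW T := ⟨0, T.σ c, by rw [T.inv, add_comm (T.σ c), sc, s0]; simp,
    Equiv.ext fun x => by simp [hτ, s0, r0, tauW_apply, uW_apply]⟩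
  have back : ∀ {g : Equiv.Perm (W K)}, τ * g * τ⁻¹ ∈ Γ → g ∈ Γ := fun h =>
    (mul_mem_cancel_left (w.le tA)).1 ((mul_mem_cancel_right (inv_mem (w.le tA))).1 h)
  refine ⟨⟨back n1, fun l => back (n2 l)⟩, fun g hg n => ?_⟩
  obtain ⟨u, hu, f⟩ := k g hg n
  obtain ⟨y, hy⟩ := (f _).1 ⟨1, rfl⟩
  exact ⟨u * τ, mul_mem hu tA, y, hy⟩

theorem w4 (h1 : W1Stmt T p) (h2 : W2Stmt T p) (h3 : W3Stmt T) : WStmt T p := by
  intro Γ w sem
  have o := h1 Γ w
  refine ⟨fun n g hg => or_iff_not_imp_left.2 fun k => ?_, fun ex => (main h2 h3 w o sem ex).1⟩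
  obtain ⟨u, hu, y, e⟩ := (main h2 h3 w o sem ⟨g, hg, k⟩).2 g hg k
  refine ⟨u⁻¹, inv_mem hu, by_contra fun c => o _ (mul_mem (mul_mem n (inv_mem (w.le hu))) hg) c 1
    one_ne_zero ?_⟩
  simp [e, nW_apply]

end Cfsg.Agent.H75.U5W
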