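import Cfsg.Agent.H96.VbDefs
import Cfsg.Agent.H92.UL2

/-! Commutators and squares in the unipotent group of the large Ree group, in coordinates. -/

set_option autoImplicit false
set_option linter.unusedSimpArgs false
set_option linter.unnecessarySeqFocus false
set_option maxRecDepth 20000

namespace Cfsg.Agent.H75.VB

open Cfsg.Agent.H39 Cfsg.Agent.H15.O8 Cfsg.Agent.H92.UL Cfsg.Agent.H96.VB Subgroup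
open scoped commutatorElement

variable {K : Type*} [Field K] {T : Tits K}

theorem cm_a1 (g k : U T) : ⁅g, k⁆.a1 =
    0 := by
  have h := congrArg U.a1 (comm_rel g k)
  simp only [U.mul_a1, U.mul_b2, U.mul_a2, U.mul_a3, U.mul_b4, U.mul_a4, U.mul_a5, U.mul_b6, U.mul_a6, U.mul_a7, U.mul_b8, U.mul_a8,
    map_zero, mul_zero, zero_mul, add_zero, zero_add, ne_eq, OfNat.ofNat_ne_zero, not_false_eq_true, zero_pow] at h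
  generalize ⁅g, k⁆.a1 = c at h ⊢
  revert h; o8ring T

theorem cm_b8 (g k : U T) : ⁅g, k⁆.b8 =
    0 := by
  have h := congrArg U.b8 (comm_rel g k)
  simp only [U.mul_a1, U.mul_b2, U.mul_a2, U.mul_a3, U.mul_b4, U.mul_a4, U.mul_a5, U.mul_b6, U.mul_a6, U.mul_a7, U.mul_b8, U.mul_a8, cm_a1,
    map_zero, mul_zero, zero_mul, add_zero, zero_add, ne_eq, OfNat.ofNat_ne_zero, not_false_eq_true, zero_pow] at h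
  generalize ⁅g, k⁆.b8 = c at h ⊢
  revert h; o8ring T

theorem cm_a8 (g k : U T) : ⁅g, k⁆.a8 =
    g.b8 * T.θ k.b8 + T.θ g.b8 * k.b8 := by
  have h := congrArg U.a8 (comm_rel g k)
  simp only [U.mul_a1, U.mul_b2, U.mul_a2, U.mul_a3, U.mul_b4, U.mul_a4, U.mul_a5, U.mul_b6, U.mul_a6, U.mul_a7, U.mul_b8, U.mul_a8, cm_a1, cm_b8,
    map_zero, mul_zero, zero_mul, add_zero, zero_add, ne_eq, OfNat.ofNat_ne_zero, not_false_eq_true, zero_pow] at h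
  generalize ⁅g, k⁆.a8 = c at h ⊢
  revert h; o8ring T

theorem cm_b2 (g k : U T) : ⁅g, k⁆.b2 =
    g.a1 * k.b8 + g.b8 * k.a1 := by
  have h := congrArg U.b2 (comm_rel g k)
  simp only [U.mul_a1, U.mul_b2, U.mul_a2, U.mul_a3, U.mul_b4, U.mul_a4, U.mul_a5, U.mul_b6, U.mul_a6, U.mul_a7, U.mul_b8, U.mul_a8, cm_a1, cm_b8, cm_a8,
    map_zero, mul_zero, zero_mul, add_zero, zero_add, ne_eq, OfNat.ofNat_ne_zero, not_false_eq_true, zero_pow] at h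
  generalize ⁅g, k⁆.b2 = c at h ⊢
  revert h; o8ring T

theorem cm_b6 (g k : U T) : ⁅g, k⁆.b6 =
    g.a1 * k.a8 + g.a8 * k.a1 + g.b2 * T.θ k.b8 + T.θ g.b8 * k.b2 + g.a1 * g.b8 * T.θ k.b8 +
    g.a1 * T.θ g.b8 * k.b8 + g.a1 * k.b8 * T.θ k.b8 + g.b8 * T.θ g.b8 * k.a1 +
    g.b8 * k.a1 * T.θ k.b8 + T.θ g.b8 * k.a1 * k.b8 := by
  have h := congrArg U.b6 (comm_rel g k)
  simp only [U.mul_a1, U.mul_b2, U.mul_a2, U.mul_a3, U.mul_b4, U.mul_a4, U.mul_a5, U.mul_b6, U.mul_a6, U.mul_a7, U.mul_b8, U.mul_a8, cm_a1, cm_b8, cm_a8, cm_b2,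
    map_zero, mul_zero, zero_mul, add_zero, zero_add, ne_eq, OfNat.ofNat_ne_zero, not_false_eq_true, zero_pow] at h
  generalize ⁅g, k⁆.b6 = c at h ⊢
  revert h; o8ring T

theorem cm_b4 (g k : U T) : ⁅g, k⁆.b4 =
    T.θ g.a1 * k.a8 + g.a8 * T.θ k.a1 + T.θ g.b2 * k.b8 + g.b8 * T.θ k.b2 +
    T.θ g.a1 * g.b8 * T.θ k.b8 + T.θ g.a1 * T.θ g.b8 * k.b8 + g.b8 * T.θ k.a1 * T.θ k.b8 +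
    T.θ g.b8 * T.θ k.a1 * k.b8 := by
  have h := congrArg U.b4 (comm_rel g k)
  simp only [U.mul_a1, U.mul_b2, U.mul_a2, U.mul_a3, U.mul_b4, U.mul_a4, U.mul_a5, U.mul_b6, U.mul_a6, U.mul_a7, U.mul_b8, U.mul_a8, cm_a1, cm_b8, cm_a8, cm_b2, cm_b6,
    map_zero, mul_zero, zero_mul, add_zero, zero_add, ne_eq, OfNat.ofNat_ne_zero, not_false_eq_true, zero_pow] at h
  generalize ⁅g, k⁆.b4 = c at h ⊢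
  revert h; o8ring T

theorem cm_a7 (g k : U T) : ⁅g, k⁆.a7 =
    (g.a1 * T.θ k.a8 + g.a8 * k.b2 + T.θ g.a8 * k.a1 + g.b2 * k.a8 + g.b6 * k.b8 + g.b8 * k.b6 +
     g.a1 * k.a8 * k.b8 + g.a8 * g.b8 * k.a1 + g.b2 * g.b8 * T.θ k.b8 + g.b2 * T.θ g.b8 * k.b8 +
     g.b8 * k.b2 * T.θ k.b8 + T.θ g.b8 * k.b2 * k.b8 : K) +
    (g.a1 * g.b8 * k.b8 * T.θ k.b8 + g.a1 * g.b8 ^ 2 * T.θ k.b8 + g.a1 * k.b8 ^ 2 * T.θ k.b8 +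
     g.b8 ^ 2 * T.θ g.b8 * k.a1 + g.b8 ^ 2 * k.a1 * T.θ k.b8 + T.θ g.b8 * k.a1 * k.b8 ^ 2 : K) := by
  have h := congrArg U.a7 (comm_rel g k)
  simp only [U.mul_a1, U.mul_b2, U.mul_a2, U.mul_a3, U.mul_b4, U.mul_a4, U.mul_a5, U.mul_b6, U.mul_a6, U.mul_a7, U.mul_b8, U.mul_a8, cm_a1, cm_b8, cm_a8, cm_b2, cm_b6, cm_b4,
    map_zero, mul_zero, zero_mul, add_zero, zero_add, ne_eq, OfNat.ofNat_ne_zero, not_false_eq_true, zero_pow] at h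
  generalize ⁅g, k⁆.a7 = c at h ⊢
  revert h; o8ring T

theorem cm_a2 (g k : U T) : ⁅g, k⁆.a2 =
    (g.a1 * k.b4 + T.θ g.a1 * k.b6 + g.b2 * T.θ k.b2 + T.θ g.b2 * k.b2 + g.b4 * k.a1 +
     g.b6 * T.θ k.a1 + g.a1 * T.θ g.a1 * k.a8 + g.a1 * g.a8 * T.θ k.a1 + g.a1 * T.θ g.b2 * k.b8 +
     g.a1 * g.b8 * T.θ k.b2 + g.a1 * T.θ k.a1 * k.a8 + g.a1 * T.θ k.b2 * k.b8 : K) +
    (T.θ g.a1 * g.a8 * k.a1 + T.θ g.a1 * g.b2 * T.θ k.b8 + T.θ g.a1 * T.θ g.b8 * k.b2 +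
     T.θ g.a1 * k.a1 * k.a8 + T.θ g.a1 * k.b2 * T.θ k.b8 + g.a8 * k.a1 * T.θ k.a1 +
     g.b2 * T.θ g.b8 * T.θ k.a1 + g.b2 * T.θ k.a1 * T.θ k.b8 + T.θ g.b2 * g.b8 * k.a1 +
     T.θ g.b2 * k.a1 * k.b8 + g.b8 * k.a1 * T.θ k.b2 + T.θ g.b8 * T.θ k.a1 * k.b2 : K) +
    (g.a1 * T.θ g.a1 * g.b8 * T.θ k.b8 + g.a1 * T.θ g.a1 * T.θ g.b8 * k.b8 +
     g.a1 * g.b8 * T.θ k.a1 * T.θ k.b8 + g.a1 * T.θ g.b8 * T.θ k.a1 * k.b8 +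
     g.a1 * T.θ k.a1 * k.b8 * T.θ k.b8 + T.θ g.a1 * g.b8 * T.θ g.b8 * k.a1 +
     T.θ g.a1 * T.θ g.b8 * k.a1 * k.b8 + g.b8 * T.θ g.b8 * k.a1 * T.θ k.a1 +
     g.b8 * k.a1 * T.θ k.a1 * T.θ k.b8 + T.θ g.b8 * k.a1 * T.θ k.a1 * k.b8 : K) := by
  have h := congrArg U.a2 (comm_rel g k)
  simp only [U.mul_a1, U.mul_b2, U.mul_a2, U.mul_a3, U.mul_b4, U.mul_a4, U.mul_a5, U.mul_b6, U.mul_a6, U.mul_a7, U.mul_b8, U.mul_a8, cm_a1, cm_b8, cm_a8, cm_b2, cm_b6, cm_b4, cm_a7,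
    map_zero, mul_zero, zero_mul, add_zero, zero_add, ne_eq, OfNat.ofNat_ne_zero, not_false_eq_true, zero_pow] at h
  generalize ⁅g, k⁆.a2 = c at h ⊢
  revert h; o8ring T

theorem cm_a3 (g k : U T) : ⁅g, k⁆.a3 =
    (g.a1 * T.θ k.b6 + T.θ g.a1 * k.a7 + g.a2 * k.b8 + g.a7 * T.θ k.a1 + g.b2 * k.b4 +
     g.b4 * k.b2 + T.θ g.b6 * k.a1 + g.b8 * k.a2 + g.a1 * T.θ g.a1 * T.θ k.a8 +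
     g.a1 * T.θ g.a8 * T.θ k.a1 + g.a1 * T.θ k.a1 * T.θ k.a8 + g.a1 * k.b4 * k.b8 : K) +
    (T.θ g.a1 * g.a8 * k.b2 + T.θ g.a1 * T.θ g.a8 * k.a1 + T.θ g.a1 * g.b2 * k.a8 +
     T.θ g.a1 * g.b6 * k.b8 + T.θ g.a1 * g.b8 * k.b6 + T.θ g.a1 * k.a1 * T.θ k.a8 +
     T.θ g.a1 * k.a8 * k.b2 + g.a8 * g.b2 * T.θ k.a1 + g.a8 * T.θ k.a1 * k.b2 +
     T.θ g.a8 * k.a1 * T.θ k.a1 + g.b2 * g.b8 * T.θ k.b2 + g.b2 * T.θ k.a1 * k.a8 : K) +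
    (T.θ g.b2 * k.b2 * k.b8 + g.b4 * g.b8 * k.a1 + g.b6 * T.θ k.a1 * k.b8 +
     g.b8 * T.θ k.a1 * k.b6 + g.a1 * T.θ g.a1 * k.a8 * k.b8 + g.a1 * g.a8 * T.θ k.a1 * k.b8 +
     g.a1 * g.b8 * T.θ k.b2 * k.b8 + g.a1 * g.b8 ^ 2 * T.θ k.b2 + g.a1 * T.θ k.a1 * k.a8 * k.b8 +
     T.θ g.a1 * g.a8 * g.b8 * k.a1 + T.θ g.a1 * g.b2 * g.b8 * T.θ k.b8 +
     T.θ g.a1 * g.b2 * T.θ g.b8 * k.b8 : K) +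
    (T.θ g.a1 * g.b8 * k.b2 * T.θ k.b8 + T.θ g.a1 * T.θ g.b8 * k.b2 * k.b8 +
     g.b2 * g.b8 * T.θ k.a1 * T.θ k.b8 + g.b2 * T.θ g.b8 * T.θ k.a1 * k.b8 +
     T.θ g.b2 * k.a1 * k.b8 ^ 2 + g.b8 * T.θ k.a1 * k.b2 * T.θ k.b8 +
     g.b8 ^ 2 * k.a1 * T.θ k.b2 + T.θ g.b8 * T.θ k.a1 * k.b2 * k.b8 +
     g.a1 * T.θ g.a1 * g.b8 * k.b8 * T.θ k.b8 + g.a1 * T.θ g.a1 * g.b8 ^ 2 * T.θ k.b8 +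
     g.a1 * T.θ g.a1 * k.b8 ^ 2 * T.θ k.b8 + g.a1 * g.b8 * T.θ k.a1 * k.b8 * T.θ k.b8 : K) +
    (g.a1 * g.b8 ^ 2 * T.θ g.b8 * T.θ k.a1 + g.a1 * g.b8 ^ 2 * T.θ k.a1 * T.θ k.b8 +
     g.a1 * T.θ k.a1 * k.b8 ^ 2 * T.θ k.b8 + T.θ g.a1 * g.b8 ^ 2 * T.θ g.b8 * k.a1 +
     T.θ g.a1 * g.b8 ^ 2 * k.a1 * T.θ k.b8 + T.θ g.a1 * T.θ g.b8 * k.a1 * k.b8 ^ 2 +
     T.θ g.a1 * k.a1 * k.b8 ^ 2 * T.θ k.b8 + g.b8 ^ 2 * T.θ g.b8 * k.a1 * T.θ k.a1 +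
     g.b8 ^ 2 * k.a1 * T.θ k.a1 * T.θ k.b8 + T.θ g.b8 * k.a1 * T.θ k.a1 * k.b8 ^ 2 : K) := by
  have h := congrArg U.a3 (comm_rel g k)
  simp only [U.mul_a1, U.mul_b2, U.mul_a2, U.mul_a3, U.mul_b4, U.mul_a4, U.mul_a5, U.mul_b6, U.mul_a6, U.mul_a7, U.mul_b8, U.mul_a8, cm_a1, cm_b8, cm_a8, cm_b2, cm_b6, cm_b4, cm_a7, cm_a2,
    map_zero, mul_zero, zero_mul, add_zero, zero_add, ne_eq, OfNat.ofNat_ne_zero, not_false_eq_true, zero_pow] at h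
  generalize ⁅g, k⁆.a3 = c at h ⊢
  revert h; o8ring T

theorem cm_a5 (g k : U T) : ⁅g, k⁆.a5 =
    (g.a1 * T.θ k.a7 + g.a2 * k.a8 + g.a3 * T.θ k.b8 + g.a7 * T.θ k.b2 + T.θ g.a7 * k.a1 +
     g.a8 * k.a2 + T.θ g.b2 * k.a7 + g.b4 * k.b6 + g.b6 * k.b4 + T.θ g.b8 * k.a3 +
     g.a1 * T.θ g.a8 * T.θ k.b2 + g.a1 * T.θ g.b2 * T.θ k.a8 : K) +
    (g.a1 * T.θ g.b6 * T.θ k.b8 + g.a1 * T.θ g.b8 * T.θ k.b6 + g.a1 * k.a8 * k.b4 +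
     g.a1 * T.θ k.a8 * T.θ k.b2 + T.θ g.a1 * k.a7 * T.θ k.b8 + T.θ g.a1 * k.a8 * k.b6 +
     g.a2 * g.b8 * T.θ k.b8 + g.a2 * T.θ g.b8 * k.b8 + g.a2 * k.b8 * T.θ k.b8 +
     g.a7 * T.θ g.b8 * T.θ k.a1 + g.a8 * T.θ g.b2 * k.b2 + g.a8 * g.b4 * k.a1 : K) +
    (g.a8 * g.b6 * T.θ k.a1 + g.a8 * k.b2 * T.θ k.b2 + T.θ g.a8 * T.θ g.b2 * k.a1 +
     T.θ g.a8 * k.a1 * T.θ k.b2 + g.b2 * T.θ g.b2 * k.a8 + g.b2 * k.a8 * T.θ k.b2 +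
     g.b2 * k.b4 * T.θ k.b8 + T.θ g.b2 * g.b6 * k.b8 + T.θ g.b2 * g.b8 * k.b6 +
     T.θ g.b2 * k.a1 * T.θ k.a8 + T.θ g.b2 * k.b6 * k.b8 + g.b4 * T.θ g.b8 * k.b2 : K) +
    (g.b6 * g.b8 * T.θ k.b2 + g.b6 * T.θ k.b2 * k.b8 + T.θ g.b6 * k.a1 * T.θ k.b8 +
     g.b8 * T.θ g.b8 * k.a2 + g.b8 * k.a2 * T.θ k.b8 + g.b8 * T.θ k.b2 * k.b6 +
     T.θ g.b8 * k.a1 * T.θ k.b6 + T.θ g.b8 * k.a2 * k.b8 + g.a1 * T.θ g.a1 * k.a8 ^ 2 +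
     g.a1 * T.θ g.a1 * T.θ k.a8 * T.θ k.b8 + g.a1 * g.a8 ^ 2 * T.θ k.a1 +
     g.a1 * T.θ g.a8 * T.θ g.b8 * T.θ k.a1 : K) +
    (g.a1 * g.b8 * k.b4 * T.θ k.b8 + g.a1 * T.θ g.b8 * k.b4 * k.b8 +
     g.a1 * k.a8 * T.θ k.b2 * k.b8 + g.a1 * k.b4 * k.b8 * T.θ k.b8 +
     T.θ g.a1 * g.a8 * k.a1 * k.a8 + T.θ g.a1 * g.a8 * k.b2 * T.θ k.b8 +
     T.θ g.a1 * T.θ g.a8 * k.a1 * T.θ k.b8 + T.θ g.a1 * g.b6 * k.b8 * T.θ k.b8 +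
     T.θ g.a1 * T.θ g.b8 * k.a8 * k.b2 + T.θ g.a1 * T.θ g.b8 * k.b6 * k.b8 +
     T.θ g.a1 * k.a1 * k.a8 ^ 2 + T.θ g.a1 * k.a1 * T.θ k.a8 * T.θ k.b8 : K) +
    (g.a8 * T.θ g.b2 * g.b8 * k.a1 + g.a8 * T.θ g.b2 * k.a1 * k.b8 +
     g.a8 * g.b8 * k.a1 * T.θ k.b2 + g.b2 * T.θ g.b2 * g.b8 * T.θ k.b8 +
     g.b2 * T.θ g.b2 * T.θ g.b8 * k.b8 + g.b2 * T.θ g.b2 * k.b8 * T.θ k.b8 +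
     g.b2 * g.b8 * T.θ k.b2 * T.θ k.b8 + g.b2 * T.θ g.b8 * T.θ k.b2 * k.b8 +
     T.θ g.b2 * T.θ g.b8 * k.b2 * k.b8 + g.b4 * g.b8 * T.θ g.b8 * k.a1 +
     g.b8 * k.b2 * T.θ k.b2 * T.θ k.b8 + T.θ g.b8 * k.b2 * T.θ k.b2 * k.b8 : K) +
    (g.a1 * T.θ g.b2 * g.b8 ^ 2 * T.θ k.b8 + g.a1 * T.θ g.b2 * T.θ g.b8 * k.b8 ^ 2 +
     g.a1 * g.b8 * T.θ k.a1 * k.a8 * T.θ k.b8 + g.a1 * g.b8 * T.θ k.b2 * k.b8 * T.θ k.b8 +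
     g.a1 * g.b8 ^ 2 * T.θ k.b2 * T.θ k.b8 + g.a1 * T.θ g.b8 * T.θ k.a1 * k.a8 * k.b8 +
     g.a1 * T.θ k.b2 * k.b8 ^ 2 * T.θ k.b8 + T.θ g.a1 * g.a8 * T.θ g.b8 * k.a1 * k.b8 +
     T.θ g.a1 * g.b8 * T.θ g.b8 * k.a1 * k.a8 + T.θ g.a1 * g.b8 * T.θ g.b8 * k.b2 * T.θ k.b8 +
     T.θ g.a1 * T.θ g.b8 ^ 2 * k.b2 * k.b8 + g.a8 * g.b8 * k.a1 * T.θ k.a1 * T.θ k.b8 : K) +
    (g.a8 * T.θ g.b8 * k.a1 * T.θ k.a1 * k.b8 + g.b2 * g.b8 * T.θ k.a1 * T.θ k.b8 ^ 2 +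
     g.b2 * T.θ g.b8 * T.θ k.a1 * k.b8 * T.θ k.b8 + T.θ g.b2 * g.b8 * T.θ g.b8 * k.a1 * k.b8 +
     T.θ g.b2 * g.b8 ^ 2 * T.θ g.b8 * k.a1 + T.θ g.b2 * g.b8 ^ 2 * k.a1 * T.θ k.b8 +
     T.θ g.b2 * T.θ g.b8 * k.a1 * k.b8 ^ 2 + g.b8 * T.θ g.b8 * T.θ k.a1 * k.b2 * T.θ k.b8 +
     g.b8 ^ 2 * T.θ g.b8 * k.a1 * T.θ k.b2 + g.b8 ^ 2 * k.a1 * T.θ k.b2 * T.θ k.b8 +
     T.θ g.b8 * k.a1 * T.θ k.b2 * k.b8 ^ 2 + T.θ g.b8 ^ 2 * T.θ k.a1 * k.b2 * k.b8 : K) +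
    (g.a1 * T.θ g.a1 * T.θ g.b8 * k.b8 ^ 2 * T.θ k.b8 +
     g.a1 * T.θ g.a1 * T.θ g.b8 ^ 2 * k.b8 ^ 2 + g.a1 * T.θ g.a1 * k.b8 ^ 2 * T.θ k.b8 ^ 2 +
     g.a1 * g.b8 * T.θ k.a1 * k.b8 * T.θ k.b8 ^ 2 + g.a1 * g.b8 ^ 2 * T.θ g.b8 ^ 2 * T.θ k.a1 +
     g.a1 * g.b8 ^ 2 * T.θ k.a1 * T.θ k.b8 ^ 2 +
     g.a1 * T.θ g.b8 * T.θ k.a1 * k.b8 ^ 2 * T.θ k.b8 +
     g.a1 * T.θ g.b8 ^ 2 * T.θ k.a1 * k.b8 ^ 2 + T.θ g.a1 * g.b8 * T.θ g.b8 ^ 2 * k.a1 * k.b8 +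
     T.θ g.a1 * T.θ g.b8 * k.a1 * k.b8 ^ 2 * T.θ k.b8 +
     T.θ g.a1 * T.θ g.b8 ^ 2 * k.a1 * k.b8 ^ 2 + T.θ g.a1 * k.a1 * k.b8 ^ 2 * T.θ k.b8 ^ 2 : K) +
    (g.b8 * T.θ g.b8 ^ 2 * k.a1 * T.θ k.a1 * k.b8 +
     g.b8 ^ 2 * T.θ g.b8 * k.a1 * T.θ k.a1 * T.θ k.b8 +
     g.b8 ^ 2 * k.a1 * T.θ k.a1 * T.θ k.b8 ^ 2 + T.θ g.b8 ^ 2 * k.a1 * T.θ k.a1 * k.b8 ^ 2 : K) := by
  have h := congrArg U.a5 (comm_rel g k)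
  simp only [U.mul_a1, U.mul_b2, U.mul_a2, U.mul_a3, U.mul_b4, U.mul_a4, U.mul_a5, U.mul_b6, U.mul_a6, U.mul_a7, U.mul_b8, U.mul_a8, cm_a1, cm_b8, cm_a8, cm_b2, cm_b6, cm_b4, cm_a7, cm_a2, cm_a3,
    map_zero, mul_zero, zero_mul, add_zero, zero_add, ne_eq, OfNat.ofNat_ne_zero, not_false_eq_true, zero_pow] at h
  generalize ⁅g, k⁆.a5 = c at h ⊢
  revert h; o8ring T

theorem cm_a6 (g k : U T) : ⁅g, k⁆.a6 =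
    (g.a2 * T.θ k.a8 + g.a3 * k.a8 + g.a5 * k.b8 + g.a7 * k.b4 + T.θ g.a7 * k.b2 + g.a8 * k.a3 +
     T.θ g.a8 * k.a2 + g.b2 * T.θ k.a7 + g.b4 * k.a7 + g.b6 * T.θ k.b6 + T.θ g.b6 * k.b6 +
     g.b8 * k.a5 : K) +
    (g.a1 * T.θ k.a7 * k.b8 + g.a1 * k.a8 * T.θ k.b6 + g.a1 * T.θ k.a8 * k.b4 +
     T.θ g.a1 * k.a7 * k.a8 + T.θ g.a1 * T.θ k.a8 * k.b6 + g.a2 * k.a8 * k.b8 +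
     g.a3 * g.b8 * T.θ k.b8 + g.a3 * T.θ g.b8 * k.b8 + g.a7 * g.a8 * T.θ k.a1 +
     g.a7 * g.b8 * T.θ k.b2 + T.θ g.a7 * g.b8 * k.a1 + g.a8 * g.b4 * k.b2 : K) +
    (g.a8 * T.θ g.b6 * k.a1 + g.a8 * g.b8 * k.a2 + T.θ g.a8 * g.b2 * T.θ k.b2 +
     T.θ g.a8 * g.b4 * k.a1 + T.θ g.a8 * g.b6 * T.θ k.a1 + g.b2 * T.θ g.b6 * T.θ k.b8 +
     g.b2 * T.θ g.b8 * T.θ k.b6 + g.b2 * k.a8 * k.b4 + g.b2 * T.θ k.b6 * T.θ k.b8 +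
     T.θ g.b2 * k.a7 * k.b8 + T.θ g.b2 * T.θ k.a8 * k.b2 + g.b4 * g.b6 * k.b8 : K) +
    (g.b4 * g.b8 * k.b6 + g.b6 * k.b4 * k.b8 + T.θ g.b6 * T.θ g.b8 * k.b2 +
     T.θ g.b6 * k.b2 * T.θ k.b8 + g.b8 * k.a3 * T.θ k.b8 + g.b8 * k.b4 * k.b6 +
     T.θ g.b8 * k.a3 * k.b8 + T.θ g.b8 * k.b2 * T.θ k.b6 + g.a1 * T.θ g.a8 * T.θ k.b2 * k.b8 +
     g.a1 * T.θ g.b2 * T.θ k.a8 * k.b8 + g.a1 * T.θ g.b6 * k.b8 * T.θ k.b8 +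
     g.a1 * g.b8 * T.θ k.b6 * T.θ k.b8 : K) +
    (g.a1 * k.a8 * k.b4 * k.b8 + g.a1 * T.θ k.b6 * k.b8 * T.θ k.b8 +
     T.θ g.a1 * g.a8 * k.a1 * T.θ k.a8 + T.θ g.a1 * g.a8 * k.a8 * k.b2 +
     T.θ g.a1 * T.θ g.a8 * k.a1 * k.a8 + T.θ g.a1 * g.b2 * k.a8 ^ 2 +
     T.θ g.a1 * g.b2 * T.θ k.a8 * T.θ k.b8 + T.θ g.a1 * g.b6 * k.a8 * k.b8 +
     T.θ g.a1 * g.b8 * k.a7 * T.θ k.b8 + T.θ g.a1 * g.b8 * k.a8 * k.b6 +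
     T.θ g.a1 * T.θ g.b8 * k.a7 * k.b8 + T.θ g.a1 * T.θ g.b8 * T.θ k.a8 * k.b2 : K) +
    (T.θ g.a1 * k.a8 ^ 2 * k.b2 + T.θ g.a1 * T.θ k.a8 * k.b2 * T.θ k.b8 +
     g.a2 * g.b8 * k.b8 * T.θ k.b8 + g.a2 * g.b8 ^ 2 * T.θ k.b8 + g.a2 * k.b8 ^ 2 * T.θ k.b8 +
     g.a8 * T.θ g.b2 * k.b2 * k.b8 + g.a8 * g.b4 * g.b8 * k.a1 + g.a8 ^ 2 * g.b2 * T.θ k.a1 +
     T.θ g.a8 * g.b2 * T.θ g.b8 * T.θ k.a1 + T.θ g.a8 * T.θ g.b2 * k.a1 * k.b8 +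
     T.θ g.a8 * g.b8 * k.a1 * T.θ k.b2 + g.b2 * T.θ g.b2 * k.a8 * k.b8 : K) +
    (g.b2 * g.b8 * k.b4 * T.θ k.b8 + g.b2 * T.θ g.b8 * k.b4 * k.b8 + T.θ g.b2 * g.b6 * k.b8 ^ 2 +
     T.θ g.b2 * g.b8 * k.b6 * k.b8 + T.θ g.b2 * k.b6 * k.b8 ^ 2 + g.b6 * g.b8 ^ 2 * T.θ k.b2 +
     T.θ g.b6 * g.b8 * T.θ g.b8 * k.a1 + g.b8 ^ 2 * T.θ g.b8 * k.a2 +
     g.b8 ^ 2 * k.a2 * T.θ k.b8 + T.θ g.b8 * k.a2 * k.b8 ^ 2 +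
     g.a1 * T.θ g.a1 * k.a8 ^ 2 * k.b8 + g.a1 * T.θ g.a1 * T.θ k.a8 * k.b8 * T.θ k.b8 : K) +
    (g.a1 * g.a8 ^ 2 * T.θ k.a1 * k.b8 + g.a1 * T.θ g.a8 * T.θ g.b8 * T.θ k.a1 * k.b8 +
     g.a1 * g.b8 * T.θ k.a1 * T.θ k.a8 * T.θ k.b8 + g.a1 * g.b8 * k.b4 * k.b8 * T.θ k.b8 +
     g.a1 * g.b8 ^ 2 * k.b4 * T.θ k.b8 + g.a1 * T.θ g.b8 * T.θ k.a1 * T.θ k.a8 * k.b8 +
     g.a1 * k.b4 * k.b8 ^ 2 * T.θ k.b8 + T.θ g.a1 * g.a8 * g.b8 * k.a1 * k.a8 +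
     T.θ g.a1 * g.a8 * g.b8 * k.b2 * T.θ k.b8 + T.θ g.a1 * g.a8 * T.θ g.b8 * k.b2 * k.b8 +
     T.θ g.a1 * T.θ g.a8 * g.b8 * k.a1 * T.θ k.b8 + T.θ g.a1 * T.θ g.a8 * T.θ g.b8 * k.a1 * k.b8 : K) +
    (T.θ g.a1 * g.b6 * g.b8 * k.b8 * T.θ k.b8 + T.θ g.a1 * g.b6 * T.θ g.b8 * k.b8 ^ 2 +
     T.θ g.a1 * g.b8 * T.θ g.b8 * k.a1 * T.θ k.a8 + T.θ g.a1 * g.b8 * T.θ g.b8 * k.b6 * k.b8 +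
     T.θ g.a1 * T.θ g.b8 * k.b6 * k.b8 ^ 2 + T.θ g.a1 * k.b6 * k.b8 ^ 2 * T.θ k.b8 +
     g.a8 * T.θ g.b2 * g.b8 * k.a1 * k.b8 + g.a8 * T.θ g.b2 * k.a1 * k.b8 ^ 2 +
     g.a8 * g.b8 * T.θ k.a1 * k.b2 * T.θ k.b8 + g.a8 * T.θ g.b8 * T.θ k.a1 * k.b2 * k.b8 +
     g.a8 ^ 2 * g.b8 * k.a1 * T.θ k.a1 + T.θ g.a8 * g.b8 * T.θ g.b8 * k.a1 * T.θ k.a1 : K) +
    (T.θ g.a8 * g.b8 * k.a1 * T.θ k.a1 * T.θ k.b8 +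
     T.θ g.a8 * T.θ g.b8 * k.a1 * T.θ k.a1 * k.b8 + g.b2 * T.θ g.b2 * g.b8 * k.b8 * T.θ k.b8 +
     g.b2 * T.θ g.b2 * T.θ g.b8 * k.b8 ^ 2 + g.b2 * T.θ g.b2 * k.b8 ^ 2 * T.θ k.b8 +
     g.b2 * g.b8 * T.θ k.a1 * k.a8 * T.θ k.b8 + g.b2 * T.θ g.b8 * T.θ k.a1 * k.a8 * k.b8 +
     T.θ g.b2 * g.b8 ^ 2 * k.b2 * T.θ k.b8 + g.b4 * g.b8 ^ 2 * T.θ g.b8 * k.a1 +
     g.b6 * g.b8 * T.θ k.a1 * k.b8 * T.θ k.b8 + g.b6 * g.b8 ^ 2 * T.θ g.b8 * T.θ k.a1 +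
     g.b6 * T.θ g.b8 * T.θ k.a1 * k.b8 ^ 2 : K) +
    (g.b8 * T.θ g.b8 * T.θ k.a1 * k.b6 * k.b8 + g.b8 ^ 2 * T.θ k.a1 * k.b6 * T.θ k.b8 +
     g.a1 * T.θ g.b2 * g.b8 ^ 2 * k.b8 * T.θ k.b8 + g.a1 * T.θ g.b2 * T.θ g.b8 * k.b8 ^ 3 +
     g.a1 * g.b8 * T.θ k.a1 * k.a8 * k.b8 * T.θ k.b8 +
     g.a1 * g.b8 ^ 2 * T.θ k.a1 * k.a8 * T.θ k.b8 +
     T.θ g.a1 * g.a8 * g.b8 * T.θ g.b8 * k.a1 * k.b8 +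
     T.θ g.a1 * g.a8 * T.θ g.b8 * k.a1 * k.b8 ^ 2 +
     T.θ g.a1 * g.a8 * k.a1 * k.b8 ^ 2 * T.θ k.b8 +
     T.θ g.a1 * g.b2 * T.θ g.b8 * k.b8 ^ 2 * T.θ k.b8 +
     T.θ g.a1 * g.b2 * T.θ g.b8 ^ 2 * k.b8 ^ 2 + T.θ g.a1 * g.b2 * k.b8 ^ 2 * T.θ k.b8 ^ 2 : K) +
    (T.θ g.a1 * g.b8 ^ 2 * T.θ g.b8 * k.a1 * k.a8 +
     T.θ g.a1 * g.b8 ^ 2 * T.θ g.b8 * k.b2 * T.θ k.b8 +
     T.θ g.a1 * k.b2 * k.b8 ^ 2 * T.θ k.b8 ^ 2 +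
     g.a8 * g.b8 * T.θ g.b8 * k.a1 * T.θ k.a1 * k.b8 +
     g.a8 * T.θ g.b8 * k.a1 * T.θ k.a1 * k.b8 ^ 2 + g.b2 * g.b8 ^ 2 * T.θ g.b8 ^ 2 * T.θ k.a1 +
     g.b2 * T.θ g.b8 * T.θ k.a1 * k.b8 ^ 2 * T.θ k.b8 +
     g.b2 * T.θ g.b8 ^ 2 * T.θ k.a1 * k.b8 ^ 2 + T.θ g.b2 * g.b8 * T.θ g.b8 * k.a1 * k.b8 ^ 2 +
     T.θ g.b2 * g.b8 ^ 2 * T.θ g.b8 * k.a1 * k.b8 +
     g.b8 ^ 2 * T.θ g.b8 * T.θ k.a1 * k.b2 * T.θ k.b8 + g.b8 ^ 2 * T.θ k.a1 * k.b2 * T.θ k.b8 ^ 2 : K) +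
    (g.a1 * T.θ g.a1 * T.θ g.b8 * k.b8 ^ 3 * T.θ k.b8 +
     g.a1 * T.θ g.a1 * T.θ g.b8 ^ 2 * k.b8 ^ 3 + g.a1 * T.θ g.a1 * k.b8 ^ 3 * T.θ k.b8 ^ 2 +
     g.a1 * g.b8 * T.θ k.a1 * k.b8 ^ 2 * T.θ k.b8 ^ 2 +
     g.a1 * g.b8 ^ 2 * T.θ g.b8 ^ 2 * T.θ k.a1 * k.b8 +
     g.a1 * T.θ g.b8 ^ 2 * T.θ k.a1 * k.b8 ^ 3 +
     T.θ g.a1 * g.b8 * T.θ g.b8 * k.a1 * k.b8 ^ 2 * T.θ k.b8 +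
     T.θ g.a1 * g.b8 * T.θ g.b8 ^ 2 * k.a1 * k.b8 ^ 2 +
     T.θ g.a1 * g.b8 ^ 2 * T.θ g.b8 ^ 2 * k.a1 * k.b8 +
     g.b8 * T.θ g.b8 ^ 2 * k.a1 * T.θ k.a1 * k.b8 ^ 2 +
     g.b8 ^ 2 * T.θ g.b8 ^ 2 * k.a1 * T.θ k.a1 * k.b8 + g.b8 ^ 3 * T.θ g.b8 ^ 2 * k.a1 * T.θ k.a1 : K) := by
  have h := congrArg U.a6 (comm_rel g k)
  simp only [U.mul_a1, U.mul_b2, U.mul_a2, U.mul_a3, U.mul_b4, U.mul_a4, U.mul_a5, U.mul_b6, U.mul_a6, U.mul_a7, U.mul_b8, U.mul_a8, cm_a1, cm_b8, cm_a8, cm_b2, cm_b6, cm_b4, cm_a7, cm_a2, cm_a3, cm_a5,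
    map_zero, mul_zero, zero_mul, add_zero, zero_add, ne_eq, OfNat.ofNat_ne_zero, not_false_eq_true, zero_pow] at h
  generalize ⁅g, k⁆.a6 = c at h ⊢
  revert h; o8ring T

theorem cm_a4_7 {g k : U T} (ga1 : g.a1 = 0) (gb8 : g.b8 = 0) : ⁅g, k⁆.a4 =
    (g.a2 * k.a7 + T.θ g.a2 * k.a8 + g.a3 * k.b6 + T.θ g.a3 * k.b8 + g.a5 * k.b2 + g.a6 * k.a1 +
     g.a7 * k.a2 + g.a8 * T.θ k.a2 + g.b2 * k.a5 + g.b4 * T.θ k.b4 + T.θ g.b4 * k.b4 +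
     g.b6 * k.a3 : K) +
    (g.a2 * g.a8 * k.b2 + g.a2 * T.θ g.a8 * k.a1 + g.a2 * g.b2 * k.a8 + g.a2 * g.b6 * k.b8 +
     g.a2 * k.a1 * T.θ k.a8 + g.a2 * k.a8 * k.b2 + g.a2 * k.b6 * k.b8 + g.a3 * g.a8 * k.a1 +
     g.a3 * g.b2 * T.θ k.b8 + g.a3 * k.a1 * k.a8 + g.a3 * k.b2 * T.θ k.b8 + g.a5 * k.a1 * k.b8 : K) +
    (g.a7 * g.b2 * T.θ k.b2 + g.a7 * g.b6 * T.θ k.a1 + g.a7 * k.a1 * k.b4 +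
     T.θ g.a7 * g.b2 * k.a1 + T.θ g.a7 * k.a1 * k.b2 + g.a8 * g.b2 * k.a2 +
     g.a8 * T.θ g.b4 * T.θ k.a1 + g.a8 * k.a1 * k.a3 + g.a8 * k.a2 * k.b2 +
     T.θ g.a8 * k.a1 * k.a2 + g.b2 * g.b4 * k.b6 + g.b2 * g.b6 * k.b4 : K) +
    (g.b2 * k.a1 * T.θ k.a7 + g.b2 * k.a2 * k.a8 + g.b2 * k.a3 * T.θ k.b8 +
     T.θ g.b2 * k.a7 * k.b2 + T.θ g.b2 * T.θ k.b4 * k.b8 + g.b4 * k.a1 * k.a7 +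
     g.b4 * k.b2 * k.b6 + g.b6 * k.a1 * T.θ k.b6 + g.b6 * k.a2 * k.b8 + g.b6 * k.b2 * k.b4 +
     T.θ g.b6 * k.a1 * k.b6 + g.a2 * g.a8 * k.a1 * k.b8 : K) +
    (g.a2 * g.b2 * k.b8 * T.θ k.b8 + g.a2 * k.a1 * k.a8 * k.b8 + g.a2 * k.b2 * k.b8 * T.θ k.b8 +
     g.a8 * g.b2 * g.b4 * k.a1 + g.a8 * g.b2 * g.b6 * T.θ k.a1 + g.a8 * g.b2 * k.a1 * k.b4 +
     g.a8 * T.θ g.b2 * k.b2 ^ 2 + g.a8 * T.θ g.b6 * k.a1 ^ 2 + g.a8 * k.b2 ^ 2 * T.θ k.b2 +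
     T.θ g.a8 * T.θ g.b2 * k.a1 * k.b2 + g.b2 * T.θ g.b2 * k.a8 * k.b2 +
     g.b2 * T.θ g.b6 * k.a1 * T.θ k.b8 : K) +
    (g.b2 * k.a1 * k.a8 * k.b4 + g.b2 * k.a1 * T.θ k.b6 * T.θ k.b8 +
     g.b2 * k.b2 * k.b4 * T.θ k.b8 + g.b2 ^ 2 * T.θ g.b2 * k.a8 + g.b2 ^ 2 * k.b4 * T.θ k.b8 +
     T.θ g.b2 * g.b6 * k.b2 * k.b8 + T.θ g.b2 * k.a1 * k.a7 * k.b8 +
     T.θ g.b2 * k.a1 * T.θ k.a8 * k.b2 + T.θ g.b2 * k.b2 * k.b6 * k.b8 +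
     g.b4 * g.b6 * k.a1 * k.b8 + g.b6 * k.a1 * k.b4 * k.b8 + T.θ g.b6 * k.a1 * k.b2 * T.θ k.b8 : K) +
    (g.a2 * k.a1 * k.b8 ^ 2 * T.θ k.b8 + g.a8 * g.b2 * k.a1 * T.θ k.a1 * k.a8 +
     g.a8 * g.b2 * T.θ k.a1 * k.b2 * T.θ k.b8 + g.a8 * g.b2 ^ 2 * T.θ k.a1 * T.θ k.b8 +
     g.a8 * g.b6 * k.a1 * T.θ k.a1 * k.b8 + g.a8 ^ 2 * k.a1 * T.θ k.a1 * k.b2 +
     T.θ g.a8 * g.b2 * k.a1 * T.θ k.a1 * T.θ k.b8 + T.θ g.a8 * T.θ g.b2 * k.a1 ^ 2 * k.b8 +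
     g.b2 * T.θ g.b2 * k.a1 * k.a8 * k.b8 + g.b2 * T.θ g.b2 * k.b2 * k.b8 * T.θ k.b8 +
     g.b2 * g.b6 * T.θ k.a1 * k.b8 * T.θ k.b8 + g.b2 ^ 2 * T.θ k.a1 * k.a8 * T.θ k.b8 : K) +
    (T.θ g.b2 * g.b6 * k.a1 * k.b8 ^ 2 + T.θ g.b2 * k.a1 * k.b6 * k.b8 ^ 2 +
     g.a8 * T.θ g.b2 * k.a1 ^ 2 * k.b8 ^ 2 + g.b2 * T.θ g.b2 * k.a1 * k.b8 ^ 2 * T.θ k.b8 : K) := by
  have h := congrArg U.a4 (comm_rel g k)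
  simp only [U.mul_a1, U.mul_b2, U.mul_a2, U.mul_a3, U.mul_b4, U.mul_a4, U.mul_a5, U.mul_b6, U.mul_a6, U.mul_a7, U.mul_b8, U.mul_a8, ga1, gb8,
    cm_a1, cm_b8, cm_a8, cm_b2, cm_b6, cm_b4, cm_a7, cm_a2, cm_a3, cm_a5, cm_a6,
    map_zero, mul_zero, zero_mul, add_zero, zero_add, ne_eq, OfNat.ofNat_ne_zero, not_false_eq_true, zero_pow] at h
  generalize ⁅g, k⁆.a4 = c at h ⊢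
  revert h; o8ring T

theorem cm_a4_E {g k : U T} (ga1 : g.a1 = 0) (ka1 : k.a1 = 0) : ⁅g, k⁆.a4 =
    (g.a2 * k.a7 + T.θ g.a2 * k.a8 + g.a3 * k.b6 + T.θ g.a3 * k.b8 + g.a5 * k.b2 + g.a7 * k.a2 +
     g.a8 * T.θ k.a2 + g.b2 * k.a5 + g.b4 * T.θ k.b4 + T.θ g.b4 * k.b4 + g.b6 * k.a3 +
     g.b8 * T.θ k.a3 : K) +
    (g.a2 * g.a8 * k.b2 + g.a2 * g.b2 * k.a8 + g.a2 * g.b6 * k.b8 + g.a2 * g.b8 * k.b6 +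
     g.a2 * k.a8 * k.b2 + g.a2 * k.b6 * k.b8 + T.θ g.a2 * g.b8 * T.θ k.b8 +
     T.θ g.a2 * T.θ g.b8 * k.b8 + g.a3 * g.b2 * T.θ k.b8 + g.a3 * T.θ g.b8 * k.b2 +
     g.a3 * k.b2 * T.θ k.b8 + g.a7 * g.b2 * T.θ k.b2 : K) +
    (g.a8 * g.b2 * k.a2 + g.a8 * k.a2 * k.b2 + g.b2 * g.b4 * k.b6 + g.b2 * g.b6 * k.b4 +
     g.b2 * T.θ g.b8 * k.a3 + g.b2 * k.a2 * k.a8 + g.b2 * k.a3 * T.θ k.b8 +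
     T.θ g.b2 * k.a7 * k.b2 + T.θ g.b2 * T.θ k.b4 * k.b8 + g.b4 * k.b2 * k.b6 +
     T.θ g.b4 * g.b8 * T.θ k.b2 + g.b6 * g.b8 * k.a2 : K) +
    (g.b6 * k.a2 * k.b8 + g.b6 * k.b2 * k.b4 + g.b8 * k.a2 * k.b6 + g.b8 * T.θ k.a2 * T.θ k.b8 +
     T.θ g.b8 * T.θ k.a2 * k.b8 + T.θ g.b8 * k.a3 * k.b2 + g.a2 * g.b2 * g.b8 * T.θ k.b8 +
     g.a2 * g.b2 * T.θ g.b8 * k.b8 + g.a2 * g.b2 * k.b8 * T.θ k.b8 +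
     g.a2 * g.b8 * k.b2 * T.θ k.b8 + g.a2 * k.b2 * k.b8 * T.θ k.b8 + g.a8 * T.θ g.b2 * k.b2 ^ 2 : K) +
    (g.a8 * k.b2 ^ 2 * T.θ k.b2 + g.b2 * T.θ g.b2 * k.a8 * k.b2 + g.b2 * g.b4 * T.θ g.b8 * k.b2 +
     g.b2 * g.b6 * g.b8 * T.θ k.b2 + g.b2 * g.b8 * T.θ g.b8 * k.a2 +
     g.b2 * g.b8 * k.a2 * T.θ k.b8 + g.b2 * T.θ g.b8 * k.a2 * k.b8 +
     g.b2 * T.θ g.b8 * k.b2 * k.b4 + g.b2 * k.b2 * k.b4 * T.θ k.b8 + g.b2 ^ 2 * T.θ g.b2 * k.a8 +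
     g.b2 ^ 2 * k.b4 * T.θ k.b8 + T.θ g.b2 * g.b6 * k.b2 * k.b8 : K) +
    (T.θ g.b2 * g.b8 * k.b2 * k.b6 + T.θ g.b2 * k.b2 * k.b6 * k.b8 +
     g.b8 * k.a2 * k.b2 * T.θ k.b8 + T.θ g.b8 * k.a2 * k.b2 * k.b8 +
     g.b2 * T.θ g.b2 * g.b8 * k.b2 * T.θ k.b8 + g.b2 * T.θ g.b2 * T.θ g.b8 * k.b2 * k.b8 +
     g.b2 * T.θ g.b2 * k.b2 * k.b8 * T.θ k.b8 + g.b2 ^ 2 * T.θ g.b2 * g.b8 * T.θ k.b8 +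
     g.b2 ^ 2 * T.θ g.b2 * T.θ g.b8 * k.b8 + g.b2 ^ 2 * g.b8 * T.θ k.b2 * T.θ k.b8 +
     T.θ g.b2 * T.θ g.b8 * k.b2 ^ 2 * k.b8 + g.b8 * T.θ g.b8 * k.b2 ^ 2 * T.θ k.b2 : K) +
    (g.b8 * k.b2 ^ 2 * T.θ k.b2 * T.θ k.b8 + T.θ g.b8 * k.b2 ^ 2 * T.θ k.b2 * k.b8 : K) := by
  have h := congrArg U.a4 (comm_rel g k)
  simp only [U.mul_a1, U.mul_b2, U.mul_a2, U.mul_a3, U.mul_b4, U.mul_a4, U.mul_a5, U.mul_b6, U.mul_a6, U.mul_a7, U.mul_b8, U.mul_a8, ga1, ka1,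
    cm_a1, cm_b8, cm_a8, cm_b2, cm_b6, cm_b4, cm_a7, cm_a2, cm_a3, cm_a5, cm_a6,
    map_zero, mul_zero, zero_mul, add_zero, zero_add, ne_eq, OfNat.ofNat_ne_zero, not_false_eq_true, zero_pow] at h
  generalize ⁅g, k⁆.a4 = c at h ⊢
  revert h; o8ring T

theorem cm_a4_Q {g k : U T} (gb8 : g.b8 = 0) (ga8 : g.a8 = 0) (kb8 : k.b8 = 0) (ka8 : k.a8 = 0) : ⁅g, k⁆.a4 =
    (g.a1 * k.a6 + g.a2 * k.a7 + g.a3 * k.b6 + g.a5 * k.b2 + g.a6 * k.a1 + g.a7 * k.a2 +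
     g.b2 * k.a5 + g.b4 * T.θ k.b4 + T.θ g.b4 * k.b4 + g.b6 * k.a3 + g.a1 * g.a7 * k.b4 +
     g.a1 * T.θ g.a7 * k.b2 : K) +
    (g.a1 * g.b2 * T.θ k.a7 + g.a1 * g.b4 * k.a7 + g.a1 * g.b6 * T.θ k.b6 +
     g.a1 * T.θ g.b6 * k.b6 + g.a1 * T.θ k.a7 * k.b2 + T.θ g.a1 * k.a7 * k.b6 +
     g.a7 * g.b2 * T.θ k.b2 + g.a7 * g.b6 * T.θ k.a1 + g.a7 * k.a1 * k.b4 +
     T.θ g.a7 * g.b2 * k.a1 + T.θ g.a7 * k.a1 * k.b2 + g.b2 * g.b4 * k.b6 : K) +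
    (g.b2 * g.b6 * k.b4 + g.b2 * k.a1 * T.θ k.a7 + T.θ g.b2 * k.a7 * k.b2 + g.b4 * k.a1 * k.a7 +
     g.b4 * k.b2 * k.b6 + g.b6 * k.a1 * T.θ k.b6 + g.b6 * k.b2 * k.b4 + T.θ g.b6 * k.a1 * k.b6 : K) := by
  have h := congrArg U.a4 (comm_rel g k)
  simp only [U.mul_a1, U.mul_b2, U.mul_a2, U.mul_a3, U.mul_b4, U.mul_a4, U.mul_a5, U.mul_b6, U.mul_a6, U.mul_a7, U.mul_b8, U.mul_a8, gb8, ga8, kb8, ka8,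
    cm_a1, cm_b8, cm_a8, cm_b2, cm_b6, cm_b4, cm_a7, cm_a2, cm_a3, cm_a5, cm_a6,
    map_zero, mul_zero, zero_mul, add_zero, zero_add, ne_eq, OfNat.ofNat_ne_zero, not_false_eq_true, zero_pow] at h
  generalize ⁅g, k⁆.a4 = c at h ⊢
  revert h; o8ring T

theorem sq_a1 (g : U T) : (g * g).a1 =
    0 := by
  o8s; o8ring T

theorem sq_b2 (g : U T) : (g * g).b2 =
    g.a1 * g.b8 := by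
  o8s; o8ring T

theorem sq_a2 (g : U T) : (g * g).a2 =
    g.a1 * g.b4 + T.θ g.a1 * g.b6 + g.b2 * T.θ g.b2 + g.a1 * T.θ g.a1 * g.a8 +
    g.a1 * T.θ g.b2 * g.b8 + T.θ g.a1 * g.b2 * T.θ g.b8 := by
  o8s; o8ring T

theorem sq_a3 (g : U T) : (g * g).a3 =
    g.a1 * T.θ g.b6 + T.θ g.a1 * g.a7 + g.a2 * g.b8 + g.b2 * g.b4 + g.a1 * T.θ g.a1 * T.θ g.a8 +
    g.a1 * g.b4 * g.b8 + T.θ g.a1 * g.a8 * g.b2 + g.b2 * T.θ g.b2 * g.b8 +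
    g.a1 * T.θ g.a1 * g.a8 * g.b8 + g.a1 * T.θ g.a1 * g.b8 ^ 2 * T.θ g.b8 := by
  o8s; o8ring T

theorem sq_b4 (g : U T) : (g * g).b4 =
    T.θ g.a1 * g.a8 + T.θ g.b2 * g.b8 := by
  o8s; o8ring T

theorem sq_a4 (g : U T) : (g * g).a4 =
    (g.a1 * g.a6 + g.a2 * g.a7 + T.θ g.a2 * g.a8 + g.a3 * g.b6 + T.θ g.a3 * g.b8 + g.a5 * g.b2 +
     g.b4 * T.θ g.b4 + g.a1 * g.a2 * T.θ g.a8 + g.a1 * g.a3 * g.a8 + g.a1 * g.a5 * g.b8 +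
     g.a1 * T.θ g.a7 * g.b2 + T.θ g.a1 * g.a7 * g.b6 : K) +
    (T.θ g.a1 * g.a8 * T.θ g.b4 + g.a2 * g.a8 * g.b2 + g.a2 * g.b6 * g.b8 +
     g.a3 * g.b2 * T.θ g.b8 + g.a7 * g.b2 * T.θ g.b2 + T.θ g.b2 * T.θ g.b4 * g.b8 +
     g.a1 * T.θ g.a1 * g.a7 * g.a8 + g.a1 * T.θ g.a1 * T.θ g.a8 * g.b6 +
     g.a1 * g.a3 * g.b8 * T.θ g.b8 + g.a1 * T.θ g.a8 * g.b2 * T.θ g.b2 +
     g.a1 ^ 2 * T.θ g.a7 * g.b8 + g.a1 ^ 2 * T.θ g.a8 * g.b4 : K) +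
    (T.θ g.a1 * g.a7 * g.b2 * T.θ g.b8 + T.θ g.a1 * g.a8 * g.b2 * g.b6 +
     g.a2 * g.b2 * g.b8 * T.θ g.b8 + g.a8 * g.b2 ^ 2 * T.θ g.b2 + g.b2 * T.θ g.b2 * g.b6 * g.b8 +
     g.b2 ^ 2 * g.b4 * T.θ g.b8 + g.a1 * T.θ g.a1 * g.a7 * g.b8 * T.θ g.b8 +
     g.a1 * T.θ g.a1 * g.a8 * g.b6 * g.b8 + g.a1 * T.θ g.a1 * g.a8 ^ 2 * g.b2 +
     g.a1 * T.θ g.a1 * T.θ g.a8 * g.b2 * T.θ g.b8 + g.a1 ^ 2 * T.θ g.a1 * g.a8 * T.θ g.a8 +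
     T.θ g.a1 * g.a8 * g.b2 ^ 2 * T.θ g.b8 : K) +
    (g.b2 ^ 2 * T.θ g.b2 * g.b8 * T.θ g.b8 + g.a1 * T.θ g.a1 * g.b6 * g.b8 ^ 2 * T.θ g.b8 +
     g.a1 ^ 2 * T.θ g.a1 * g.a8 ^ 2 * g.b8 + g.a1 ^ 2 * T.θ g.a1 * T.θ g.a8 * g.b8 * T.θ g.b8 +
     g.a1 * T.θ g.a1 * g.b2 * g.b8 ^ 2 * T.θ g.b8 ^ 2 +
     g.a1 ^ 2 * T.θ g.a1 * g.b8 ^ 3 * T.θ g.b8 ^ 2 : K) := by
  o8s; o8ring T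

theorem sq_a5 (g : U T) : (g * g).a5 =
    (g.a1 * T.θ g.a7 + g.a2 * g.a8 + g.a3 * T.θ g.b8 + g.a7 * T.θ g.b2 + g.b4 * g.b6 +
     g.a1 * g.a8 * g.b4 + g.a1 * T.θ g.a8 * T.θ g.b2 + T.θ g.a1 * g.a7 * T.θ g.b8 +
     T.θ g.a1 * g.a8 * g.b6 + g.a2 * g.b8 * T.θ g.b8 + g.b2 * g.b4 * T.θ g.b8 +
     T.θ g.b2 * g.b6 * g.b8 : K) +
    (g.a1 * T.θ g.a1 * g.a8 ^ 2 + g.a1 * T.θ g.a1 * T.θ g.a8 * T.θ g.b8 +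
     g.a1 * g.b4 * g.b8 * T.θ g.b8 + g.a1 * T.θ g.a1 * g.b8 ^ 2 * T.θ g.b8 ^ 2 : K) := by
  o8s; o8ring T

theorem sq_b6 (g : U T) : (g * g).b6 =
    g.a1 * g.a8 + g.b2 * T.θ g.b8 + g.a1 * g.b8 * T.θ g.b8 := by
  o8s; o8ring T

theorem sq_a6 (g : U T) : (g * g).a6 =
    (g.a2 * T.θ g.a8 + g.a3 * g.a8 + g.a5 * g.b8 + g.a7 * g.b4 + T.θ g.a7 * g.b2 +
     g.b6 * T.θ g.b6 + g.a1 * T.θ g.a7 * g.b8 + g.a1 * g.a8 * T.θ g.b6 + g.a1 * T.θ g.a8 * g.b4 +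
     T.θ g.a1 * g.a7 * g.a8 + T.θ g.a1 * T.θ g.a8 * g.b6 + g.a2 * g.a8 * g.b8 : K) +
    (g.a7 * T.θ g.b2 * g.b8 + g.a8 * g.b2 * g.b4 + T.θ g.a8 * g.b2 * T.θ g.b2 +
     g.b2 * T.θ g.b6 * T.θ g.b8 + g.a1 * g.a8 * g.b4 * g.b8 + g.a1 * T.θ g.a8 * T.θ g.b2 * g.b8 +
     g.a1 * T.θ g.b6 * g.b8 * T.θ g.b8 + T.θ g.a1 * g.a8 ^ 2 * g.b2 +
     T.θ g.a1 * T.θ g.a8 * g.b2 * T.θ g.b8 + g.a2 * g.b8 ^ 2 * T.θ g.b8 +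
     T.θ g.b2 * g.b6 * g.b8 ^ 2 + g.a1 * T.θ g.a1 * g.a8 ^ 2 * g.b8 : K) +
    (g.a1 * T.θ g.a1 * T.θ g.a8 * g.b8 * T.θ g.b8 + g.a1 * g.b4 * g.b8 ^ 2 * T.θ g.b8 +
     T.θ g.a1 * g.b6 * g.b8 ^ 2 * T.θ g.b8 + T.θ g.a1 * g.b2 * g.b8 ^ 2 * T.θ g.b8 ^ 2 +
     g.a1 * T.θ g.a1 * g.b8 ^ 3 * T.θ g.b8 ^ 2 : K) := by
  o8s; o8ring T

theorem sq_a7 (g : U T) : (g * g).a7 =
    g.a1 * T.θ g.a8 + g.a8 * g.b2 + g.b6 * g.b8 + g.a1 * g.a8 * g.b8 +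
    g.a1 * g.b8 ^ 2 * T.θ g.b8 := by
  o8s; o8ring T

theorem sq_b8 (g : U T) : (g * g).b8 =
    0 := by
  o8s; o8ring T

theorem sq_a8 (g : U T) : (g * g).a8 =
    g.b8 * T.θ g.b8 := by
  o8s; o8ring T

theorem cmZ7 {g : U T} (hg : g ∈ Z7 T) (k : U T) : ⁅g, k⁆ =
    ⟨0,
     0,
     g.b2 * T.θ k.b2 + T.θ g.b2 * k.b2 + g.b4 * k.a1 + g.b6 * T.θ k.a1 + g.a8 * k.a1 * T.θ k.a1 +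
       g.b2 * T.θ k.a1 * T.θ k.b8 + T.θ g.b2 * k.a1 * k.b8,
     g.a2 * k.b8 + g.a7 * T.θ k.a1 + g.b2 * k.b4 + g.b4 * k.b2 + T.θ g.b6 * k.a1 +
       g.a8 * g.b2 * T.θ k.a1 + g.a8 * T.θ k.a1 * k.b2 + T.θ g.a8 * k.a1 * T.θ k.a1 +
       g.b2 * T.θ k.a1 * k.a8 + T.θ g.b2 * k.b2 * k.b8 + g.b6 * T.θ k.a1 * k.b8 +
       T.θ g.b2 * k.a1 * k.b8 ^ 2,
     g.a8 * T.θ k.a1 + T.θ g.b2 * k.b8,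
     (g.a2 * k.a7 + T.θ g.a2 * k.a8 + g.a3 * k.b6 + T.θ g.a3 * k.b8 + g.a5 * k.b2 + g.a6 * k.a1 +
        g.a7 * k.a2 + g.a8 * T.θ k.a2 + g.b2 * k.a5 + g.b4 * T.θ k.b4 + T.θ g.b4 * k.b4 +
        g.b6 * k.a3 : K) +
       (g.a2 * g.a8 * k.b2 + g.a2 * T.θ g.a8 * k.a1 + g.a2 * g.b2 * k.a8 + g.a2 * g.b6 * k.b8 +
        g.a2 * k.a1 * T.θ k.a8 + g.a2 * k.a8 * k.b2 + g.a2 * k.b6 * k.b8 + g.a3 * g.a8 * k.a1 +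
        g.a3 * g.b2 * T.θ k.b8 + g.a3 * k.a1 * k.a8 + g.a3 * k.b2 * T.θ k.b8 + g.a5 * k.a1 * k.b8 : K) +
       (g.a7 * g.b2 * T.θ k.b2 + g.a7 * g.b6 * T.θ k.a1 + g.a7 * k.a1 * k.b4 +
        T.θ g.a7 * g.b2 * k.a1 + T.θ g.a7 * k.a1 * k.b2 + g.a8 * g.b2 * k.a2 +
        g.a8 * T.θ g.b4 * T.θ k.a1 + g.a8 * k.a1 * k.a3 + g.a8 * k.a2 * k.b2 +
        T.θ g.a8 * k.a1 * k.a2 + g.b2 * g.b4 * k.b6 + g.b2 * g.b6 * k.b4 : K) +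
       (g.b2 * k.a1 * T.θ k.a7 + g.b2 * k.a2 * k.a8 + g.b2 * k.a3 * T.θ k.b8 +
        T.θ g.b2 * k.a7 * k.b2 + T.θ g.b2 * T.θ k.b4 * k.b8 + g.b4 * k.a1 * k.a7 +
        g.b4 * k.b2 * k.b6 + g.b6 * k.a1 * T.θ k.b6 + g.b6 * k.a2 * k.b8 + g.b6 * k.b2 * k.b4 +
        T.θ g.b6 * k.a1 * k.b6 + g.a2 * g.a8 * k.a1 * k.b8 : K) +
       (g.a2 * g.b2 * k.b8 * T.θ k.b8 + g.a2 * k.a1 * k.a8 * k.b8 + g.a2 * k.b2 * k.b8 * T.θ k.b8 +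
        g.a8 * g.b2 * g.b4 * k.a1 + g.a8 * g.b2 * g.b6 * T.θ k.a1 + g.a8 * g.b2 * k.a1 * k.b4 +
        g.a8 * T.θ g.b2 * k.b2 ^ 2 + g.a8 * T.θ g.b6 * k.a1 ^ 2 + g.a8 * k.b2 ^ 2 * T.θ k.b2 +
        T.θ g.a8 * T.θ g.b2 * k.a1 * k.b2 + g.b2 * T.θ g.b2 * k.a8 * k.b2 +
        g.b2 * T.θ g.b6 * k.a1 * T.θ k.b8 : K) +
       (g.b2 * k.a1 * k.a8 * k.b4 + g.b2 * k.a1 * T.θ k.b6 * T.θ k.b8 +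
        g.b2 * k.b2 * k.b4 * T.θ k.b8 + g.b2 ^ 2 * T.θ g.b2 * k.a8 + g.b2 ^ 2 * k.b4 * T.θ k.b8 +
        T.θ g.b2 * g.b6 * k.b2 * k.b8 + T.θ g.b2 * k.a1 * k.a7 * k.b8 +
        T.θ g.b2 * k.a1 * T.θ k.a8 * k.b2 + T.θ g.b2 * k.b2 * k.b6 * k.b8 +
        g.b4 * g.b6 * k.a1 * k.b8 + g.b6 * k.a1 * k.b4 * k.b8 + T.θ g.b6 * k.a1 * k.b2 * T.θ k.b8 : K) +
       (g.a2 * k.a1 * k.b8 ^ 2 * T.θ k.b8 + g.a8 * g.b2 * k.a1 * T.θ k.a1 * k.a8 +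
        g.a8 * g.b2 * T.θ k.a1 * k.b2 * T.θ k.b8 + g.a8 * g.b2 ^ 2 * T.θ k.a1 * T.θ k.b8 +
        g.a8 * g.b6 * k.a1 * T.θ k.a1 * k.b8 + g.a8 ^ 2 * k.a1 * T.θ k.a1 * k.b2 +
        T.θ g.a8 * g.b2 * k.a1 * T.θ k.a1 * T.θ k.b8 + T.θ g.a8 * T.θ g.b2 * k.a1 ^ 2 * k.b8 +
        g.b2 * T.θ g.b2 * k.a1 * k.a8 * k.b8 + g.b2 * T.θ g.b2 * k.b2 * k.b8 * T.θ k.b8 +
        g.b2 * g.b6 * T.θ k.a1 * k.b8 * T.θ k.b8 + g.b2 ^ 2 * T.θ k.a1 * k.a8 * T.θ k.b8 : K) +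
       (T.θ g.b2 * g.b6 * k.a1 * k.b8 ^ 2 + T.θ g.b2 * k.a1 * k.b6 * k.b8 ^ 2 +
        g.a8 * T.θ g.b2 * k.a1 ^ 2 * k.b8 ^ 2 + g.b2 * T.θ g.b2 * k.a1 * k.b8 ^ 2 * T.θ k.b8 : K),
     (g.a2 * k.a8 + g.a3 * T.θ k.b8 + g.a7 * T.θ k.b2 + T.θ g.a7 * k.a1 + g.a8 * k.a2 +
        T.θ g.b2 * k.a7 + g.b4 * k.b6 + g.b6 * k.b4 + g.a2 * k.b8 * T.θ k.b8 +
        g.a8 * T.θ g.b2 * k.b2 + g.a8 * g.b4 * k.a1 + g.a8 * g.b6 * T.θ k.a1 : K) +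
       (g.a8 * k.b2 * T.θ k.b2 + T.θ g.a8 * T.θ g.b2 * k.a1 + T.θ g.a8 * k.a1 * T.θ k.b2 +
        g.b2 * T.θ g.b2 * k.a8 + g.b2 * k.a8 * T.θ k.b2 + g.b2 * k.b4 * T.θ k.b8 +
        T.θ g.b2 * g.b6 * k.b8 + T.θ g.b2 * k.a1 * T.θ k.a8 + T.θ g.b2 * k.b6 * k.b8 +
        g.b6 * T.θ k.b2 * k.b8 + T.θ g.b6 * k.a1 * T.θ k.b8 + g.a8 * T.θ g.b2 * k.a1 * k.b8 : K) +
       (g.b2 * T.θ g.b2 * k.b8 * T.θ k.b8 : K),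
     g.a8 * k.a1 + g.b2 * T.θ k.b8,
     (g.a2 * T.θ k.a8 + g.a3 * k.a8 + g.a5 * k.b8 + g.a7 * k.b4 + T.θ g.a7 * k.b2 + g.a8 * k.a3 +
        T.θ g.a8 * k.a2 + g.b2 * T.θ k.a7 + g.b4 * k.a7 + g.b6 * T.θ k.b6 + T.θ g.b6 * k.b6 +
        g.a2 * k.a8 * k.b8 : K) +
       (g.a7 * g.a8 * T.θ k.a1 + g.a8 * g.b4 * k.b2 + g.a8 * T.θ g.b6 * k.a1 +
        T.θ g.a8 * g.b2 * T.θ k.b2 + T.θ g.a8 * g.b4 * k.a1 + T.θ g.a8 * g.b6 * T.θ k.a1 +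
        g.b2 * T.θ g.b6 * T.θ k.b8 + g.b2 * k.a8 * k.b4 + g.b2 * T.θ k.b6 * T.θ k.b8 +
        T.θ g.b2 * k.a7 * k.b8 + T.θ g.b2 * T.θ k.a8 * k.b2 + g.b4 * g.b6 * k.b8 : K) +
       (g.b6 * k.b4 * k.b8 + T.θ g.b6 * k.b2 * T.θ k.b8 + g.a2 * k.b8 ^ 2 * T.θ k.b8 +
        g.a8 * T.θ g.b2 * k.b2 * k.b8 + g.a8 ^ 2 * g.b2 * T.θ k.a1 +
        T.θ g.a8 * T.θ g.b2 * k.a1 * k.b8 + g.b2 * T.θ g.b2 * k.a8 * k.b8 +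
        T.θ g.b2 * g.b6 * k.b8 ^ 2 + T.θ g.b2 * k.b6 * k.b8 ^ 2 +
        g.a8 * T.θ g.b2 * k.a1 * k.b8 ^ 2 + g.b2 * T.θ g.b2 * k.b8 ^ 2 * T.θ k.b8 : K),
     g.a8 * k.b2 + T.θ g.a8 * k.a1 + g.b2 * k.a8 + g.b6 * k.b8,
     0,
     0⟩ := by
  obtain ⟨ga1, gb8⟩ := mem_Z7.1 hg
  ext <;> simp only [cm_a1, cm_b8, cm_a8, cm_b2, cm_b6, cm_b4, cm_a7, cm_a2, cm_a3, cm_a5, cm_a6, cm_a4_7 ga1 gb8,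
    ga1, gb8,
    map_zero, mul_zero, zero_mul, add_zero, zero_add, ne_eq, OfNat.ofNat_ne_zero, not_false_eq_true, zero_pow] <;> ring

theorem cmO {g : U T} (hg : g ∈ O T) (k : U T) : ⁅g, k⁆ =
    ⟨0,
     0,
     g.b4 * k.a1 + g.b6 * T.θ k.a1 + g.a8 * k.a1 * T.θ k.a1,
     g.a2 * k.b8 + g.a7 * T.θ k.a1 + g.b4 * k.b2 + T.θ g.b6 * k.a1 + g.a8 * T.θ k.a1 * k.b2 +
       T.θ g.a8 * k.a1 * T.θ k.a1 + g.b6 * T.θ k.a1 * k.b8,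
     g.a8 * T.θ k.a1,
     (g.a2 * k.a7 + T.θ g.a2 * k.a8 + g.a3 * k.b6 + T.θ g.a3 * k.b8 + g.a5 * k.b2 + g.a6 * k.a1 +
        g.a7 * k.a2 + g.a8 * T.θ k.a2 + g.b4 * T.θ k.b4 + T.θ g.b4 * k.b4 + g.b6 * k.a3 +
        g.a2 * g.a8 * k.b2 : K) +
       (g.a2 * T.θ g.a8 * k.a1 + g.a2 * g.b6 * k.b8 + g.a2 * k.a1 * T.θ k.a8 + g.a2 * k.a8 * k.b2 +
        g.a2 * k.b6 * k.b8 + g.a3 * g.a8 * k.a1 + g.a3 * k.a1 * k.a8 + g.a3 * k.b2 * T.θ k.b8 +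
        g.a5 * k.a1 * k.b8 + g.a7 * g.b6 * T.θ k.a1 + g.a7 * k.a1 * k.b4 + T.θ g.a7 * k.a1 * k.b2 : K) +
       (g.a8 * T.θ g.b4 * T.θ k.a1 + g.a8 * k.a1 * k.a3 + g.a8 * k.a2 * k.b2 +
        T.θ g.a8 * k.a1 * k.a2 + g.b4 * k.a1 * k.a7 + g.b4 * k.b2 * k.b6 + g.b6 * k.a1 * T.θ k.b6 +
        g.b6 * k.a2 * k.b8 + g.b6 * k.b2 * k.b4 + T.θ g.b6 * k.a1 * k.b6 +
        g.a2 * g.a8 * k.a1 * k.b8 + g.a2 * k.a1 * k.a8 * k.b8 : K) +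
       (g.a2 * k.b2 * k.b8 * T.θ k.b8 + g.a8 * T.θ g.b6 * k.a1 ^ 2 + g.a8 * k.b2 ^ 2 * T.θ k.b2 +
        g.b4 * g.b6 * k.a1 * k.b8 + g.b6 * k.a1 * k.b4 * k.b8 + T.θ g.b6 * k.a1 * k.b2 * T.θ k.b8 +
        g.a2 * k.a1 * k.b8 ^ 2 * T.θ k.b8 + g.a8 * g.b6 * k.a1 * T.θ k.a1 * k.b8 +
        g.a8 ^ 2 * k.a1 * T.θ k.a1 * k.b2 : K),
     g.a2 * k.a8 + g.a3 * T.θ k.b8 + g.a7 * T.θ k.b2 + T.θ g.a7 * k.a1 + g.a8 * k.a2 +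
       g.b4 * k.b6 + g.b6 * k.b4 + g.a2 * k.b8 * T.θ k.b8 + g.a8 * g.b4 * k.a1 +
       g.a8 * g.b6 * T.θ k.a1 + g.a8 * k.b2 * T.θ k.b2 + T.θ g.a8 * k.a1 * T.θ k.b2 +
       g.b6 * T.θ k.b2 * k.b8 + T.θ g.b6 * k.a1 * T.θ k.b8,
     g.a8 * k.a1,
     (g.a2 * T.θ k.a8 + g.a3 * k.a8 + g.a5 * k.b8 + g.a7 * k.b4 + T.θ g.a7 * k.b2 + g.a8 * k.a3 +
        T.θ g.a8 * k.a2 + g.b4 * k.a7 + g.b6 * T.θ k.b6 + T.θ g.b6 * k.b6 + g.a2 * k.a8 * k.b8 +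
        g.a7 * g.a8 * T.θ k.a1 : K) +
       (g.a8 * g.b4 * k.b2 + g.a8 * T.θ g.b6 * k.a1 + T.θ g.a8 * g.b4 * k.a1 +
        T.θ g.a8 * g.b6 * T.θ k.a1 + g.b4 * g.b6 * k.b8 + g.b6 * k.b4 * k.b8 +
        T.θ g.b6 * k.b2 * T.θ k.b8 + g.a2 * k.b8 ^ 2 * T.θ k.b8 : K),
     g.a8 * k.b2 + T.θ g.a8 * k.a1 + g.b6 * k.b8,
     0,
     0⟩ := by
  obtain ⟨ga1, gb2, gb8⟩ := mem_O.1 hg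
  ext <;> simp only [cm_a1, cm_b8, cm_a8, cm_b2, cm_b6, cm_b4, cm_a7, cm_a2, cm_a3, cm_a5, cm_a6, cm_a4_7 ga1 gb8,
    ga1, gb2, gb8,
    map_zero, mul_zero, zero_mul, add_zero, zero_add, ne_eq, OfNat.ofNat_ne_zero, not_false_eq_true, zero_pow] <;> ring

theorem cmJ0 {g : U T} (hg : g ∈ J0 T) (k : U T) : ⁅g, k⁆ =
    ⟨0,
     0,
     g.b4 * k.a1 + g.b6 * T.θ k.a1,
     g.a2 * k.b8 + g.a7 * T.θ k.a1 + g.b4 * k.b2 + T.θ g.b6 * k.a1 + g.b6 * T.θ k.a1 * k.b8,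
     0,
     (g.a2 * k.a7 + T.θ g.a2 * k.a8 + g.a3 * k.b6 + T.θ g.a3 * k.b8 + g.a5 * k.b2 + g.a6 * k.a1 +
        g.a7 * k.a2 + g.b4 * T.θ k.b4 + T.θ g.b4 * k.b4 + g.b6 * k.a3 + g.a2 * g.b6 * k.b8 +
        g.a2 * k.a1 * T.θ k.a8 : K) +
       (g.a2 * k.a8 * k.b2 + g.a2 * k.b6 * k.b8 + g.a3 * k.a1 * k.a8 + g.a3 * k.b2 * T.θ k.b8 +
        g.a5 * k.a1 * k.b8 + g.a7 * g.b6 * T.θ k.a1 + g.a7 * k.a1 * k.b4 + T.θ g.a7 * k.a1 * k.b2 +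
        g.b4 * k.a1 * k.a7 + g.b4 * k.b2 * k.b6 + g.b6 * k.a1 * T.θ k.b6 + g.b6 * k.a2 * k.b8 : K) +
       (g.b6 * k.b2 * k.b4 + T.θ g.b6 * k.a1 * k.b6 + g.a2 * k.a1 * k.a8 * k.b8 +
        g.a2 * k.b2 * k.b8 * T.θ k.b8 + g.b4 * g.b6 * k.a1 * k.b8 + g.b6 * k.a1 * k.b4 * k.b8 +
        T.θ g.b6 * k.a1 * k.b2 * T.θ k.b8 + g.a2 * k.a1 * k.b8 ^ 2 * T.θ k.b8 : K),
     g.a2 * k.a8 + g.a3 * T.θ k.b8 + g.a7 * T.θ k.b2 + T.θ g.a7 * k.a1 + g.b4 * k.b6 +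
       g.b6 * k.b4 + g.a2 * k.b8 * T.θ k.b8 + g.b6 * T.θ k.b2 * k.b8 + T.θ g.b6 * k.a1 * T.θ k.b8,
     0,
     g.a2 * T.θ k.a8 + g.a3 * k.a8 + g.a5 * k.b8 + g.a7 * k.b4 + T.θ g.a7 * k.b2 + g.b4 * k.a7 +
       g.b6 * T.θ k.b6 + T.θ g.b6 * k.b6 + g.a2 * k.a8 * k.b8 + g.b4 * g.b6 * k.b8 +
       g.b6 * k.b4 * k.b8 + T.θ g.b6 * k.b2 * T.θ k.b8 + g.a2 * k.b8 ^ 2 * T.θ k.b8,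
     g.b6 * k.b8,
     0,
     0⟩ := by
  obtain ⟨ga1, gb2, gb8, ga8⟩ := mem_J0.1 hg
  ext <;> simp only [cm_a1, cm_b8, cm_a8, cm_b2, cm_b6, cm_b4, cm_a7, cm_a2, cm_a3, cm_a5, cm_a6, cm_a4_7 ga1 gb8,
    ga1, gb2, gb8, ga8,
    map_zero, mul_zero, zero_mul, add_zero, zero_add, ne_eq, OfNat.ofNat_ne_zero, not_false_eq_true, zero_pow] <;> ring

theorem cmZ5 {g : U T} (hg : g ∈ Z5 T) (k : U T) : ⁅g, k⁆ =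
    ⟨0,
     0,
     0,
     g.a2 * k.b8 + g.a7 * T.θ k.a1,
     0,
     (g.a2 * k.a7 + T.θ g.a2 * k.a8 + g.a3 * k.b6 + T.θ g.a3 * k.b8 + g.a5 * k.b2 + g.a6 * k.a1 +
        g.a7 * k.a2 + g.a2 * k.a1 * T.θ k.a8 + g.a2 * k.a8 * k.b2 + g.a2 * k.b6 * k.b8 +
        g.a3 * k.a1 * k.a8 + g.a3 * k.b2 * T.θ k.b8 : K) +
       (g.a5 * k.a1 * k.b8 + g.a7 * k.a1 * k.b4 + T.θ g.a7 * k.a1 * k.b2 +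
        g.a2 * k.a1 * k.a8 * k.b8 + g.a2 * k.b2 * k.b8 * T.θ k.b8 +
        g.a2 * k.a1 * k.b8 ^ 2 * T.θ k.b8 : K),
     g.a2 * k.a8 + g.a3 * T.θ k.b8 + g.a7 * T.θ k.b2 + T.θ g.a7 * k.a1 + g.a2 * k.b8 * T.θ k.b8,
     0,
     g.a2 * T.θ k.a8 + g.a3 * k.a8 + g.a5 * k.b8 + g.a7 * k.b4 + T.θ g.a7 * k.b2 +
       g.a2 * k.a8 * k.b8 + g.a2 * k.b8 ^ 2 * T.θ k.b8,
     0,
     0,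
     0⟩ := by
  obtain ⟨ga1, gb2, gb4, gb6, gb8, ga8⟩ := mem_Z5.1 hg
  ext <;> simp only [cm_a1, cm_b8, cm_a8, cm_b2, cm_b6, cm_b4, cm_a7, cm_a2, cm_a3, cm_a5, cm_a6, cm_a4_7 ga1 gb8,
    ga1, gb2, gb4, gb6, gb8, ga8,
    map_zero, mul_zero, zero_mul, add_zero, zero_add, ne_eq, OfNat.ofNat_ne_zero, not_false_eq_true, zero_pow] <;> ring

theorem cmD {g : U T} (hg : g ∈ D T) (k : U T) : ⁅g, k⁆ =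
    ⟨0,
     0,
     g.b4 * k.a1,
     g.a2 * k.b8 + g.b4 * k.b2,
     0,
     (g.a2 * k.a7 + T.θ g.a2 * k.a8 + g.a3 * k.b6 + T.θ g.a3 * k.b8 + g.a5 * k.b2 + g.a6 * k.a1 +
        g.b4 * T.θ k.b4 + T.θ g.b4 * k.b4 + g.a2 * k.a1 * T.θ k.a8 + g.a2 * k.a8 * k.b2 +
        g.a2 * k.b6 * k.b8 + g.a3 * k.a1 * k.a8 : K) +
       (g.a3 * k.b2 * T.θ k.b8 + g.a5 * k.a1 * k.b8 + g.b4 * k.a1 * k.a7 + g.b4 * k.b2 * k.b6 +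
        g.a2 * k.a1 * k.a8 * k.b8 + g.a2 * k.b2 * k.b8 * T.θ k.b8 +
        g.a2 * k.a1 * k.b8 ^ 2 * T.θ k.b8 : K),
     g.a2 * k.a8 + g.a3 * T.θ k.b8 + g.b4 * k.b6 + g.a2 * k.b8 * T.θ k.b8,
     0,
     g.a2 * T.θ k.a8 + g.a3 * k.a8 + g.a5 * k.b8 + g.b4 * k.a7 + g.a2 * k.a8 * k.b8 +
       g.a2 * k.b8 ^ 2 * T.θ k.b8,
     0,
     0,
     0⟩ := by
  obtain ⟨ga1, gb2, gb6, ga7, gb8, ga8⟩ := mem_D.1 hg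
  ext <;> simp only [cm_a1, cm_b8, cm_a8, cm_b2, cm_b6, cm_b4, cm_a7, cm_a2, cm_a3, cm_a5, cm_a6, cm_a4_7 ga1 gb8,
    ga1, gb2, gb6, ga7, gb8, ga8,
    map_zero, mul_zero, zero_mul, add_zero, zero_add, ne_eq, OfNat.ofNat_ne_zero, not_false_eq_true, zero_pow] <;> ring

theorem cmV {g : U T} (hg : g ∈ V T) (k : U T) : ⁅g, k⁆ =
    ⟨0,
     0,
     0,
     g.a2 * k.b8,
     0,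
     (g.a2 * k.a7 + T.θ g.a2 * k.a8 + g.a3 * k.b6 + T.θ g.a3 * k.b8 + g.a5 * k.b2 + g.a6 * k.a1 +
        g.a2 * k.a1 * T.θ k.a8 + g.a2 * k.a8 * k.b2 + g.a2 * k.b6 * k.b8 + g.a3 * k.a1 * k.a8 +
        g.a3 * k.b2 * T.θ k.b8 + g.a5 * k.a1 * k.b8 : K) +
       (g.a2 * k.a1 * k.a8 * k.b8 + g.a2 * k.b2 * k.b8 * T.θ k.b8 +
        g.a2 * k.a1 * k.b8 ^ 2 * T.θ k.b8 : K),
     g.a2 * k.a8 + g.a3 * T.θ k.b8 + g.a2 * k.b8 * T.θ k.b8,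
     0,
     g.a2 * T.θ k.a8 + g.a3 * k.a8 + g.a5 * k.b8 + g.a2 * k.a8 * k.b8 +
       g.a2 * k.b8 ^ 2 * T.θ k.b8,
     0,
     0,
     0⟩ := by
  obtain ⟨ga1, gb2, gb4, gb6, ga7, gb8, ga8⟩ := mem_V.1 hg
  ext <;> simp only [cm_a1, cm_b8, cm_a8, cm_b2, cm_b6, cm_b4, cm_a7, cm_a2, cm_a3, cm_a5, cm_a6, cm_a4_7 ga1 gb8,
    ga1, gb2, gb4, gb6, ga7, gb8, ga8,
    map_zero, mul_zero, zero_mul, add_zero, zero_add, ne_eq, OfNat.ofNat_ne_zero, not_false_eq_true, zero_pow] <;> ring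

theorem cmY {g : U T} (hg : g ∈ Y T) (k : U T) : ⁅g, k⁆ =
    ⟨0,
     0,
     0,
     g.a7 * T.θ k.a1,
     0,
     g.a3 * k.b6 + T.θ g.a3 * k.b8 + g.a5 * k.b2 + g.a6 * k.a1 + g.a7 * k.a2 +
       g.a3 * k.a1 * k.a8 + g.a3 * k.b2 * T.θ k.b8 + g.a5 * k.a1 * k.b8 + g.a7 * k.a1 * k.b4 +
       T.θ g.a7 * k.a1 * k.b2,
     g.a3 * T.θ k.b8 + g.a7 * T.θ k.b2 + T.θ g.a7 * k.a1,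
     0,
     g.a3 * k.a8 + g.a5 * k.b8 + g.a7 * k.b4 + T.θ g.a7 * k.b2,
     0,
     0,
     0⟩ := by
  obtain ⟨ga1, gb2, ga2, gb4, gb6, gb8, ga8⟩ := mem_Y.1 hg
  ext <;> simp only [cm_a1, cm_b8, cm_a8, cm_b2, cm_b6, cm_b4, cm_a7, cm_a2, cm_a3, cm_a5, cm_a6, cm_a4_7 ga1 gb8,
    ga1, gb2, ga2, gb4, gb6, gb8, ga8,
    map_zero, mul_zero, zero_mul, add_zero, zero_add, ne_eq, OfNat.ofNat_ne_zero, not_false_eq_true, zero_pow] <;> ring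

theorem cmA {g : U T} (hg : g ∈ A T) (k : U T) : ⁅g, k⁆ =
    ⟨0,
     0,
     g.a8 * k.a1 * T.θ k.a1,
     g.a7 * T.θ k.a1 + g.a8 * T.θ k.a1 * k.b2 + T.θ g.a8 * k.a1 * T.θ k.a1,
     g.a8 * T.θ k.a1,
     g.a5 * k.b2 + g.a6 * k.a1 + g.a7 * k.a2 + g.a8 * T.θ k.a2 + g.a5 * k.a1 * k.b8 +
       g.a7 * k.a1 * k.b4 + T.θ g.a7 * k.a1 * k.b2 + g.a8 * k.a1 * k.a3 + g.a8 * k.a2 * k.b2 +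
       T.θ g.a8 * k.a1 * k.a2 + g.a8 * k.b2 ^ 2 * T.θ k.b2 + g.a8 ^ 2 * k.a1 * T.θ k.a1 * k.b2,
     g.a7 * T.θ k.b2 + T.θ g.a7 * k.a1 + g.a8 * k.a2 + g.a8 * k.b2 * T.θ k.b2 +
       T.θ g.a8 * k.a1 * T.θ k.b2,
     g.a8 * k.a1,
     g.a5 * k.b8 + g.a7 * k.b4 + T.θ g.a7 * k.b2 + g.a8 * k.a3 + T.θ g.a8 * k.a2 +
       g.a7 * g.a8 * T.θ k.a1,
     g.a8 * k.b2 + T.θ g.a8 * k.a1,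
     0,
     0⟩ := by
  obtain ⟨ga1, gb2, ga2, ga3, gb4, gb6, gb8⟩ := mem_A.1 hg
  ext <;> simp only [cm_a1, cm_b8, cm_a8, cm_b2, cm_b6, cm_b4, cm_a7, cm_a2, cm_a3, cm_a5, cm_a6, cm_a4_7 ga1 gb8,
    ga1, gb2, ga2, ga3, gb4, gb6, gb8,
    map_zero, mul_zero, zero_mul, add_zero, zero_add, ne_eq, OfNat.ofNat_ne_zero, not_false_eq_true, zero_pow] <;> ring

theorem cmR7 {g : U T} (hg : g ∈ R7 T) (k : U T) : ⁅g, k⁆ =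
    ⟨0,
     0,
     0,
     g.a7 * T.θ k.a1,
     0,
     g.a5 * k.b2 + g.a6 * k.a1 + g.a7 * k.a2 + g.a5 * k.a1 * k.b8 + g.a7 * k.a1 * k.b4 +
       T.θ g.a7 * k.a1 * k.b2,
     g.a7 * T.θ k.b2 + T.θ g.a7 * k.a1,
     0,
     g.a5 * k.b8 + g.a7 * k.b4 + T.θ g.a7 * k.b2,
     0,
     0,
     0⟩ := by
  obtain ⟨ga1, gb2, ga2, ga3, gb4, gb6, gb8, ga8⟩ := mem_R7.1 hg
  ext <;> simp only [cm_a1, cm_b8, cm_a8, cm_b2, cm_b6, cm_b4, cm_a7, cm_a2, cm_a3, cm_a5, cm_a6, cm_a4_7 ga1 gb8,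
    ga1, gb2, ga2, ga3, gb4, gb6, gb8, ga8,
    map_zero, mul_zero, zero_mul, add_zero, zero_add, ne_eq, OfNat.ofNat_ne_zero, not_false_eq_true, zero_pow] <;> ring

theorem cmZ4 {g : U T} (hg : g ∈ Z4 T) (k : U T) : ⁅g, k⁆ =
    ⟨0,
     0,
     0,
     0,
     0,
     g.a3 * k.b6 + T.θ g.a3 * k.b8 + g.a5 * k.b2 + g.a6 * k.a1 + g.a3 * k.a1 * k.a8 +
       g.a3 * k.b2 * T.θ k.b8 + g.a5 * k.a1 * k.b8,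
     g.a3 * T.θ k.b8,
     0,
     g.a3 * k.a8 + g.a5 * k.b8,
     0,
     0,
     0⟩ := by
  obtain ⟨ga1, gb2, ga2, gb4, gb6, ga7, gb8, ga8⟩ := mem_Z4.1 hg
  ext <;> simp only [cm_a1, cm_b8, cm_a8, cm_b2, cm_b6, cm_b4, cm_a7, cm_a2, cm_a3, cm_a5, cm_a6, cm_a4_7 ga1 gb8,
    ga1, gb2, ga2, gb4, gb6, ga7, gb8, ga8,
    map_zero, mul_zero, zero_mul, add_zero, zero_add, ne_eq, OfNat.ofNat_ne_zero, not_false_eq_true, zero_pow] <;> ring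

theorem cmR {g : U T} (hg : g ∈ R T) (k : U T) : ⁅g, k⁆ =
    ⟨0,
     0,
     0,
     0,
     0,
     g.a5 * k.b2 + g.a6 * k.a1 + g.a5 * k.a1 * k.b8,
     0,
     0,
     g.a5 * k.b8,
     0,
     0,
     0⟩ := by
  obtain ⟨ga1, gb2, ga2, ga3, gb4, gb6, ga7, gb8, ga8⟩ := mem_R.1 hg
  ext <;> simp only [cm_a1, cm_b8, cm_a8, cm_b2, cm_b6, cm_b4, cm_a7, cm_a2, cm_a3, cm_a5, cm_a6, cm_a4_7 ga1 gb8,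
    ga1, gb2, ga2, ga3, gb4, gb6, ga7, gb8, ga8,
    map_zero, mul_zero, zero_mul, add_zero, zero_add, ne_eq, OfNat.ofNat_ne_zero, not_false_eq_true, zero_pow] <;> ring

theorem cmW {g : U T} (hg : g ∈ W T) (k : U T) : ⁅g, k⁆ =
    ⟨0,
     0,
     0,
     0,
     0,
     g.a6 * k.a1,
     0,
     0,
     0,
     0,
     0,
     0⟩ := by
  obtain ⟨ga1, gb2, ga2, ga3, gb4, ga5, gb6, ga7, gb8, ga8⟩ := mem_W.1 hg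
  ext <;> simp only [cm_a1, cm_b8, cm_a8, cm_b2, cm_b6, cm_b4, cm_a7, cm_a2, cm_a3, cm_a5, cm_a6, cm_a4_7 ga1 gb8,
    ga1, gb2, ga2, ga3, gb4, ga5, gb6, ga7, gb8, ga8,
    map_zero, mul_zero, zero_mul, add_zero, zero_add, ne_eq, OfNat.ofNat_ne_zero, not_false_eq_true, zero_pow] <;> ring

theorem cmEE {g k : U T} (hg : g ∈ E T) (hk : k ∈ E T) : ⁅g, k⁆ =
    ⟨0,
     0,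
     g.b2 * T.θ k.b2 + T.θ g.b2 * k.b2,
     g.a2 * k.b8 + g.b2 * k.b4 + g.b4 * k.b2 + g.b8 * k.a2 + g.b2 * g.b8 * T.θ k.b2 +
       T.θ g.b2 * k.b2 * k.b8,
     T.θ g.b2 * k.b8 + g.b8 * T.θ k.b2,
     (g.a2 * k.a7 + T.θ g.a2 * k.a8 + g.a3 * k.b6 + T.θ g.a3 * k.b8 + g.a5 * k.b2 + g.a7 * k.a2 +
        g.a8 * T.θ k.a2 + g.b2 * k.a5 + g.b4 * T.θ k.b4 + T.θ g.b4 * k.b4 + g.b6 * k.a3 +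
        g.b8 * T.θ k.a3 : K) +
       (g.a2 * g.a8 * k.b2 + g.a2 * g.b2 * k.a8 + g.a2 * g.b6 * k.b8 + g.a2 * g.b8 * k.b6 +
        g.a2 * k.a8 * k.b2 + g.a2 * k.b6 * k.b8 + T.θ g.a2 * g.b8 * T.θ k.b8 +
        T.θ g.a2 * T.θ g.b8 * k.b8 + g.a3 * g.b2 * T.θ k.b8 + g.a3 * T.θ g.b8 * k.b2 +
        g.a3 * k.b2 * T.θ k.b8 + g.a7 * g.b2 * T.θ k.b2 : K) +
       (g.a8 * g.b2 * k.a2 + g.a8 * k.a2 * k.b2 + g.b2 * g.b4 * k.b6 + g.b2 * g.b6 * k.b4 +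
        g.b2 * T.θ g.b8 * k.a3 + g.b2 * k.a2 * k.a8 + g.b2 * k.a3 * T.θ k.b8 +
        T.θ g.b2 * k.a7 * k.b2 + T.θ g.b2 * T.θ k.b4 * k.b8 + g.b4 * k.b2 * k.b6 +
        T.θ g.b4 * g.b8 * T.θ k.b2 + g.b6 * g.b8 * k.a2 : K) +
       (g.b6 * k.a2 * k.b8 + g.b6 * k.b2 * k.b4 + g.b8 * k.a2 * k.b6 + g.b8 * T.θ k.a2 * T.θ k.b8 +
        T.θ g.b8 * T.θ k.a2 * k.b8 + T.θ g.b8 * k.a3 * k.b2 + g.a2 * g.b2 * g.b8 * T.θ k.b8 +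
        g.a2 * g.b2 * T.θ g.b8 * k.b8 + g.a2 * g.b2 * k.b8 * T.θ k.b8 +
        g.a2 * g.b8 * k.b2 * T.θ k.b8 + g.a2 * k.b2 * k.b8 * T.θ k.b8 + g.a8 * T.θ g.b2 * k.b2 ^ 2 : K) +
       (g.a8 * k.b2 ^ 2 * T.θ k.b2 + g.b2 * T.θ g.b2 * k.a8 * k.b2 + g.b2 * g.b4 * T.θ g.b8 * k.b2 +
        g.b2 * g.b6 * g.b8 * T.θ k.b2 + g.b2 * g.b8 * T.θ g.b8 * k.a2 +
        g.b2 * g.b8 * k.a2 * T.θ k.b8 + g.b2 * T.θ g.b8 * k.a2 * k.b8 +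
        g.b2 * T.θ g.b8 * k.b2 * k.b4 + g.b2 * k.b2 * k.b4 * T.θ k.b8 + g.b2 ^ 2 * T.θ g.b2 * k.a8 +
        g.b2 ^ 2 * k.b4 * T.θ k.b8 + T.θ g.b2 * g.b6 * k.b2 * k.b8 : K) +
       (T.θ g.b2 * g.b8 * k.b2 * k.b6 + T.θ g.b2 * k.b2 * k.b6 * k.b8 +
        g.b8 * k.a2 * k.b2 * T.θ k.b8 + T.θ g.b8 * k.a2 * k.b2 * k.b8 +
        g.b2 * T.θ g.b2 * g.b8 * k.b2 * T.θ k.b8 + g.b2 * T.θ g.b2 * T.θ g.b8 * k.b2 * k.b8 +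
        g.b2 * T.θ g.b2 * k.b2 * k.b8 * T.θ k.b8 + g.b2 ^ 2 * T.θ g.b2 * g.b8 * T.θ k.b8 +
        g.b2 ^ 2 * T.θ g.b2 * T.θ g.b8 * k.b8 + g.b2 ^ 2 * g.b8 * T.θ k.b2 * T.θ k.b8 +
        T.θ g.b2 * T.θ g.b8 * k.b2 ^ 2 * k.b8 + g.b8 * T.θ g.b8 * k.b2 ^ 2 * T.θ k.b2 : K) +
       (g.b8 * k.b2 ^ 2 * T.θ k.b2 * T.θ k.b8 + T.θ g.b8 * k.b2 ^ 2 * T.θ k.b2 * k.b8 : K),
     (g.a2 * k.a8 + g.a3 * T.θ k.b8 + g.a7 * T.θ k.b2 + g.a8 * k.a2 + T.θ g.b2 * k.a7 +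
        g.b4 * k.b6 + g.b6 * k.b4 + T.θ g.b8 * k.a3 + g.a2 * g.b8 * T.θ k.b8 +
        g.a2 * T.θ g.b8 * k.b8 + g.a2 * k.b8 * T.θ k.b8 + g.a8 * T.θ g.b2 * k.b2 : K) +
       (g.a8 * k.b2 * T.θ k.b2 + g.b2 * T.θ g.b2 * k.a8 + g.b2 * k.a8 * T.θ k.b2 +
        g.b2 * k.b4 * T.θ k.b8 + T.θ g.b2 * g.b6 * k.b8 + T.θ g.b2 * g.b8 * k.b6 +
        T.θ g.b2 * k.b6 * k.b8 + g.b4 * T.θ g.b8 * k.b2 + g.b6 * g.b8 * T.θ k.b2 +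
        g.b6 * T.θ k.b2 * k.b8 + g.b8 * T.θ g.b8 * k.a2 + g.b8 * k.a2 * T.θ k.b8 : K) +
       (g.b8 * T.θ k.b2 * k.b6 + T.θ g.b8 * k.a2 * k.b8 + g.b2 * T.θ g.b2 * g.b8 * T.θ k.b8 +
        g.b2 * T.θ g.b2 * T.θ g.b8 * k.b8 + g.b2 * T.θ g.b2 * k.b8 * T.θ k.b8 +
        g.b2 * g.b8 * T.θ k.b2 * T.θ k.b8 + g.b2 * T.θ g.b8 * T.θ k.b2 * k.b8 +
        T.θ g.b2 * T.θ g.b8 * k.b2 * k.b8 + g.b8 * k.b2 * T.θ k.b2 * T.θ k.b8 +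
        T.θ g.b8 * k.b2 * T.θ k.b2 * k.b8 : K),
     g.b2 * T.θ k.b8 + T.θ g.b8 * k.b2,
     (g.a2 * T.θ k.a8 + g.a3 * k.a8 + g.a5 * k.b8 + g.a7 * k.b4 + T.θ g.a7 * k.b2 + g.a8 * k.a3 +
        T.θ g.a8 * k.a2 + g.b2 * T.θ k.a7 + g.b4 * k.a7 + g.b6 * T.θ k.b6 + T.θ g.b6 * k.b6 +
        g.b8 * k.a5 : K) +
       (g.a2 * k.a8 * k.b8 + g.a3 * g.b8 * T.θ k.b8 + g.a3 * T.θ g.b8 * k.b8 +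
        g.a7 * g.b8 * T.θ k.b2 + g.a8 * g.b4 * k.b2 + g.a8 * g.b8 * k.a2 +
        T.θ g.a8 * g.b2 * T.θ k.b2 + g.b2 * T.θ g.b6 * T.θ k.b8 + g.b2 * T.θ g.b8 * T.θ k.b6 +
        g.b2 * k.a8 * k.b4 + g.b2 * T.θ k.b6 * T.θ k.b8 + T.θ g.b2 * k.a7 * k.b8 : K) +
       (T.θ g.b2 * T.θ k.a8 * k.b2 + g.b4 * g.b6 * k.b8 + g.b4 * g.b8 * k.b6 + g.b6 * k.b4 * k.b8 +
        T.θ g.b6 * T.θ g.b8 * k.b2 + T.θ g.b6 * k.b2 * T.θ k.b8 + g.b8 * k.a3 * T.θ k.b8 +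
        g.b8 * k.b4 * k.b6 + T.θ g.b8 * k.a3 * k.b8 + T.θ g.b8 * k.b2 * T.θ k.b6 +
        g.a2 * g.b8 * k.b8 * T.θ k.b8 + g.a2 * g.b8 ^ 2 * T.θ k.b8 : K) +
       (g.a2 * k.b8 ^ 2 * T.θ k.b8 + g.a8 * T.θ g.b2 * k.b2 * k.b8 + g.b2 * T.θ g.b2 * k.a8 * k.b8 +
        g.b2 * g.b8 * k.b4 * T.θ k.b8 + g.b2 * T.θ g.b8 * k.b4 * k.b8 + T.θ g.b2 * g.b6 * k.b8 ^ 2 +
        T.θ g.b2 * g.b8 * k.b6 * k.b8 + T.θ g.b2 * k.b6 * k.b8 ^ 2 + g.b6 * g.b8 ^ 2 * T.θ k.b2 +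
        g.b8 ^ 2 * T.θ g.b8 * k.a2 + g.b8 ^ 2 * k.a2 * T.θ k.b8 + T.θ g.b8 * k.a2 * k.b8 ^ 2 : K) +
       (g.b2 * T.θ g.b2 * g.b8 * k.b8 * T.θ k.b8 + g.b2 * T.θ g.b2 * T.θ g.b8 * k.b8 ^ 2 +
        g.b2 * T.θ g.b2 * k.b8 ^ 2 * T.θ k.b8 + T.θ g.b2 * g.b8 ^ 2 * k.b2 * T.θ k.b8 : K),
     g.a8 * k.b2 + g.b2 * k.a8 + g.b6 * k.b8 + g.b8 * k.b6 + g.b2 * g.b8 * T.θ k.b8 +
       g.b2 * T.θ g.b8 * k.b8 + g.b8 * k.b2 * T.θ k.b8 + T.θ g.b8 * k.b2 * k.b8,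
     0,
     g.b8 * T.θ k.b8 + T.θ g.b8 * k.b8⟩ := by
  have ga1 := mem_E.1 hg
  have ka1 := mem_E.1 hk
  ext <;> simp only [cm_a1, cm_b8, cm_a8, cm_b2, cm_b6, cm_b4, cm_a7, cm_a2, cm_a3, cm_a5, cm_a6, cm_a4_E ga1 ka1,
    ga1, ka1,
    map_zero, mul_zero, zero_mul, add_zero, zero_add, ne_eq, OfNat.ofNat_ne_zero, not_false_eq_true, zero_pow] <;> ring

theorem cmQQ {g k : U T} (hg : g ∈ Q T) (hk : k ∈ Q T) : ⁅g, k⁆ =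
    ⟨0,
     0,
     g.a1 * k.b4 + T.θ g.a1 * k.b6 + g.b2 * T.θ k.b2 + T.θ g.b2 * k.b2 + g.b4 * k.a1 +
       g.b6 * T.θ k.a1,
     g.a1 * T.θ k.b6 + T.θ g.a1 * k.a7 + g.a7 * T.θ k.a1 + g.b2 * k.b4 + g.b4 * k.b2 +
       T.θ g.b6 * k.a1,
     0,
     (g.a1 * k.a6 + g.a2 * k.a7 + g.a3 * k.b6 + g.a5 * k.b2 + g.a6 * k.a1 + g.a7 * k.a2 +
        g.b2 * k.a5 + g.b4 * T.θ k.b4 + T.θ g.b4 * k.b4 + g.b6 * k.a3 + g.a1 * g.a7 * k.b4 +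
        g.a1 * T.θ g.a7 * k.b2 : K) +
       (g.a1 * g.b2 * T.θ k.a7 + g.a1 * g.b4 * k.a7 + g.a1 * g.b6 * T.θ k.b6 +
        g.a1 * T.θ g.b6 * k.b6 + g.a1 * T.θ k.a7 * k.b2 + T.θ g.a1 * k.a7 * k.b6 +
        g.a7 * g.b2 * T.θ k.b2 + g.a7 * g.b6 * T.θ k.a1 + g.a7 * k.a1 * k.b4 +
        T.θ g.a7 * g.b2 * k.a1 + T.θ g.a7 * k.a1 * k.b2 + g.b2 * g.b4 * k.b6 : K) +
       (g.b2 * g.b6 * k.b4 + g.b2 * k.a1 * T.θ k.a7 + T.θ g.b2 * k.a7 * k.b2 + g.b4 * k.a1 * k.a7 +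
        g.b4 * k.b2 * k.b6 + g.b6 * k.a1 * T.θ k.b6 + g.b6 * k.b2 * k.b4 + T.θ g.b6 * k.a1 * k.b6 : K),
     g.a1 * T.θ k.a7 + g.a7 * T.θ k.b2 + T.θ g.a7 * k.a1 + T.θ g.b2 * k.a7 + g.b4 * k.b6 +
       g.b6 * k.b4,
     0,
     g.a7 * k.b4 + T.θ g.a7 * k.b2 + g.b2 * T.θ k.a7 + g.b4 * k.a7 + g.b6 * T.θ k.b6 +
       T.θ g.b6 * k.b6,
     0,
     0,
     0⟩ := by
  obtain ⟨gb8, ga8⟩ := mem_Q.1 hg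
  obtain ⟨kb8, ka8⟩ := mem_Q.1 hk
  ext <;> simp only [cm_a1, cm_b8, cm_a8, cm_b2, cm_b6, cm_b4, cm_a7, cm_a2, cm_a3, cm_a5, cm_a6, cm_a4_Q gb8 ga8 kb8 ka8,
    gb8, ga8, kb8, ka8,
    map_zero, mul_zero, zero_mul, add_zero, zero_add, ne_eq, OfNat.ofNat_ne_zero, not_false_eq_true, zero_pow] <;> ring

theorem ucW {g : U T} (hg : g ∈ W T) (k : U T) : ⁅g, k⁆ ∈ Z T := by
  rw [cmW hg, mem_Z]; simp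

theorem ucR {g : U T} (hg : g ∈ R T) (k : U T) : ⁅g, k⁆ ∈ W T := by
  rw [cmR hg, mem_W]; simp

theorem ucZ4 {g : U T} (hg : g ∈ Z4 T) (k : U T) : ⁅g, k⁆ ∈ R T := by
  rw [cmZ4 hg, mem_R]; simp

theorem ucZ5 {g : U T} (hg : g ∈ Z5 T) (k : U T) : ⁅g, k⁆ ∈ Z4 T := by
  rw [cmZ5 hg, mem_Z4]; simp

theorem ucJ0 {g : U T} (hg : g ∈ J0 T) (k : U T) : ⁅g, k⁆ ∈ Z5 T := by
  rw [cmJ0 hg, mem_Z5]; simp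

theorem ucZ7 {g : U T} (hg : g ∈ Z7 T) (k : U T) : ⁅g, k⁆ ∈ J0 T := by
  rw [cmZ7 hg, mem_J0]; simp

theorem ucU (g k : U T) : ⁅g, k⁆ ∈ Z7 T := ⟨cm_a1 g k, cm_b8 g k⟩

theorem ucZ {g : U T} (hg : g ∈ Z T) (k : U T) : ⁅g, k⁆ = 1 :=
  commutatorElement_eq_one_iff_mul_comm.2 (cZ g hg k).symm

theorem cm_swap {X : Subgroup (U T)} {g k : U T} (h : ⁅g, k⁆ ∈ X) : ⁅k, g⁆ ∈ X := by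
  rw [← commutatorElement_inv]; exact inv_mem h

theorem cm_swap1 {g k : U T} (h : ⁅g, k⁆ = 1) : ⁅k, g⁆ = 1 := by
  rw [← commutatorElement_inv, h, inv_one]

theorem inv_b8 {g : U T} (h : g * g = 1) : g.b8 = 0 := by
  have := sq_a8 g
  rw [h] at this
  exact nrm_eq_zero this.symm

theorem inv_a8 {g : U T} (h : g * g = 1) (h8 : g.a8 ≠ 0) : g.a1 = 0 ∧ g.b2 = 0 := by
  have e8 := inv_b8 h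
  have h6 := sq_b6 g
  have h7 := sq_a7 g
  rw [h] at h6 h7
  simp only [e8, U.one_b6, U.one_a7, map_zero, mul_zero, zero_mul, add_zero, zero_add, ne_eq,
    OfNat.ofNat_ne_zero, not_false_eq_true, zero_pow] at h6 h7
  have e1 : g.a1 = 0 := (mul_eq_zero.1 h6.symm).resolve_right h8
  simp only [e1, zero_mul, zero_add] at h7
  exact ⟨e1, (mul_eq_zero.1 h7.symm).resolve_left h8⟩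

theorem inv_E {g : U T} (h : g * g = 1) (h1 : g.a1 = 0) : g.b2 = 0 := by
  have h2 := sq_a2 g
  rw [h] at h2
  simp only [h1, U.one_a2, map_zero, mul_zero, zero_mul, add_zero, zero_add] at h2
  exact nrm_eq_zero h2.symm

theorem inv_VY {g : U T} (h : g * g = 1) (h1 : g.a1 = 0) (h8 : g.a8 = 0) : g ∈ V T ∨ g ∈ Y T :=
  invQ g h1 ⟨inv_b8 h, h8⟩ h

theorem Z_le_W : Z T ≤ W T := fun _ h => by rw [mem_Z] at h; rw [mem_W]; tauto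
theorem W_le_R : W T ≤ R T := fun _ h => by rw [mem_W] at h; rw [mem_R]; tauto
theorem R_le_Z4 : R T ≤ Z4 T := fun _ h => by rw [mem_R] at h; rw [mem_Z4]; tauto
theorem Z4_le_V : Z4 T ≤ V T := inf_le_left
theorem Z4_le_Y : Z4 T ≤ Y T := inf_le_right
theorem V_le_Z5 : V T ≤ Z5 T := fun _ h => by rw [mem_V] at h; rw [mem_Z5]; tauto
theorem Y_le_Z5 : Y T ≤ Z5 T := fun _ h => by rw [mem_Y] at h; rw [mem_Z5]; tauto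
theorem Z4_le_Z5 : Z4 T ≤ Z5 T := Z4_le_V.trans V_le_Z5
theorem Z5_le_J0 : Z5 T ≤ J0 T := fun _ h => by rw [mem_Z5] at h; rw [mem_J0]; tauto
theorem J0_le_Z7 : J0 T ≤ Z7 T := fun _ h => by rw [mem_J0] at h; rw [mem_Z7]; tauto
theorem R_le_V : R T ≤ V T := R_le_Z4.trans Z4_le_V
theorem R_le_Y : R T ≤ Y T := R_le_Z4.trans Z4_le_Y

/-- `Z₅ = V Y`. -/
theorem Z5_le {H : Subgroup (U T)} (hV : V T ≤ H) (hY : Y T ≤ H) : Z5 T ≤ H := fun g hg => by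
  obtain ⟨h1, h2, h3, h4, h5, h6⟩ := mem_Z5.1 hg
  have e : g = x2 T g.a2 * ((x2 T g.a2)⁻¹ * g) := by group
  rw [e]
  refine mul_mem (hV (by o8s)) (hY ?_)
  o8s
  simp only [h1, h2, h3, h4, h5, h6, map_zero, mul_zero, zero_mul, add_zero, zero_add, and_true,
    true_and, and_self]
  o8ring T

end Cfsg.Agent.H75.VB
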