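import Cfsg.Agent.H75.VbCm

/-! No critical subgroup of the unipotent group of the large Ree group maps onto both simple
factors. -/

set_option autoImplicit false
set_option linter.unusedSimpArgs false

namespace Cfsg.Agent.H75.VB

open Cfsg.Agent.H39 Cfsg.Agent.H15.O8 Cfsg.Agent.H96.VB Subgroup
open scoped commutatorElement

universe u

variable {K : Type u} [Field K] {T : Tits K}

theorem st1 (g : U T) : St g (Z T) [] := fun _ hx => cm_swap1 (ucZ hx g)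
theorem st2 (g : U T) : St g (W T) [Z T] := ⟨fun _ hx => cm_swap (ucW hx g), st1 g⟩
theorem st3 (g : U T) : St g (R T) [W T, Z T] := ⟨fun _ hx => cm_swap (ucR hx g), st2 g⟩
theorem st4 (g : U T) : St g (Z4 T) [R T, W T, Z T] := ⟨fun _ hx => cm_swap (ucZ4 hx g), st3 g⟩
theorem st5 (g : U T) : St g (Z5 T) [Z4 T, R T, W T, Z T] :=
  ⟨fun _ hx => cm_swap (ucZ5 hx g), st4 g⟩
theorem st6 (g : U T) : St g (J0 T) [Z5 T, Z4 T, R T, W T, Z T] :=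
  ⟨fun _ hx => cm_swap (ucJ0 hx g), st5 g⟩
theorem st7 (g : U T) : St g (Z7 T) [J0 T, Z5 T, Z4 T, R T, W T, Z T] :=
  ⟨fun _ hx => cm_swap (ucZ7 hx g), st6 g⟩

section
variable {g h k : U T}

theorem m2_VY (h1 : h.a1 ≠ 0) (k8 : k.b8 ≠ 0) (e : g * g = 1) (eh : ⁅g, h⁆ ∈ Z5 T)
    (ek : ⁅g, k⁆ ∈ Z5 T) : g ∈ V T ∨ g ∈ Y T := by
  have e8 := inv_b8 e
  have a8 : g.a8 = 0 := by
    by_contra n
    obtain ⟨a1, b2⟩ := inv_a8 e n
    have := (mem_Z5.1 eh).2.2.2.1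
    rw [cmZ7 ⟨a1, e8⟩] at this
    simp only [b2, zero_mul, add_zero] at this
    exact mul_ne_zero n h1 this
  have a1 : g.a1 = 0 := by
    have := (mem_Z5.1 ek).2.1
    rw [cm_b2, e8, zero_mul, add_zero] at this
    exact (mul_eq_zero.1 this).resolve_right k8
  exact inv_VY e a1 a8

theorem m2_Z4 (h1 : h.a1 ≠ 0) (k8 : k.b8 ≠ 0) (e : g ∈ V T ∨ g ∈ Y T) (eh : ⁅g, h⁆ ∈ R T)
    (ek : ⁅g, k⁆ ∈ R T) : g ∈ Z4 T := by
  rcases e with e | e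
  · have := (mem_R.1 ek).2.2.2.1
    rw [cmV e] at this
    have a2 := (mul_eq_zero.1 this).resolve_right k8
    rw [mem_V] at e; rw [mem_Z4]; tauto
  · have := (mem_R.1 eh).2.2.2.1
    rw [cmY e] at this
    have a7 := (mul_eq_zero.1 this).resolve_right (T.θ_ne_zero.2 h1)
    rw [mem_Y] at e; rw [mem_Z4]; tauto

theorem m2_R (k8 : k.b8 ≠ 0) (e : g ∈ Z4 T) (ek : ⁅g, k⁆ ∈ W T) : g ∈ R T := by
  have := (mem_W.1 ek).2.2.2.2.2.1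
  rw [cmZ4 e] at this
  have a3 := (mul_eq_zero.1 this).resolve_right (T.θ_ne_zero.2 k8)
  rw [mem_Z4] at e; rw [mem_R]; tauto

theorem m2_W (k8 : k.b8 ≠ 0) (e : g ∈ R T) (ek : ⁅g, k⁆ ∈ Z T) : g ∈ W T := by
  have := (mem_Z.1 ek).2.2.2.2.2.2.2.1
  rw [cmR e] at this
  have a5 := (mul_eq_zero.1 this).resolve_right k8
  rw [mem_R] at e; rw [mem_W]; tauto

theorem m2_Z (h1 : h.a1 ≠ 0) (e : g ∈ W T) (eh : ⁅g, h⁆ = 1) : g ∈ Z T := by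
  have := congrArg U.a4 eh
  rw [cmW e] at this
  have a6 := (mul_eq_zero.1 this).resolve_right h1
  rw [mem_W] at e; rw [mem_Z]; tauto

end

theorem m2 : M2Stmt T := by
  intro P hP h hh k hk h1 k8
  have lZ4 : ∀ g : U T, g * g = 1 → (∀ x ∈ P, ⁅g, x⁆ ∈ R T) → g ∈ Z4 T := fun g e c =>
    m2_Z4 h1 k8 (m2_VY h1 k8 e (Z4_le_Z5 (R_le_Z4 (c h hh))) (Z4_le_Z5 (R_le_Z4 (c k hk))))
      (c h hh) (c k hk)
  have lR : ∀ g : U T, g * g = 1 → (∀ x ∈ P, ⁅g, x⁆ ∈ W T) → g ∈ R T := fun g e c =>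
    m2_R k8 (lZ4 g e fun x hx => W_le_R (c x hx)) (c k hk)
  have lW : ∀ g : U T, g * g = 1 → (∀ x ∈ P, ⁅g, x⁆ ∈ Z T) → g ∈ W T := fun g e c =>
    m2_W k8 (lR g e fun x hx => Z_le_W (c x hx)) (c k hk)
  have lZ : ∀ g : U T, g * g = 1 → (∀ x ∈ P, ⁅g, x⁆ = 1) → g ∈ Z T := fun g e c =>
    m2_Z h1 (lW g e fun x hx => by rw [c x hx]; exact one_mem _) (c h hh)
  have sq : ∀ g ∈ Z4 T, g * g = 1 := fun g hg => sqV g (Z4_le_V hg)
  have c1 : Ch P (Z T) := Ch.of_iff (IvS.inv.inter IvS.one.commP) fun g =>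
    ⟨fun hg => ⟨hP.cent fun x _ => (cZ g hg x).symm, sq g (R_le_Z4 (W_le_R (Z_le_W hg))),
      fun x _ => ucZ hg x⟩, fun hg => lZ g hg.2.1 hg.2.2⟩
  have c2 : Ch P (W T) := Ch.of_iff (IvS.inv.inter c1.ivs.commP) fun g =>
    ⟨fun hg => ⟨hP.chain [Z T] (by simp [c1]) g ⟨fun x _ => ucW hg x, st1 g⟩,
      sq g (R_le_Z4 (W_le_R hg)), fun x _ => ucW hg x⟩, fun hg => lW g hg.2.1 hg.2.2⟩
  have c3 : Ch P (R T) := Ch.of_iff (IvS.inv.inter c2.ivs.commP) fun g =>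
    ⟨fun hg => ⟨hP.chain [W T, Z T] (by simp [c1, c2]) g ⟨fun x _ => ucR hg x, st2 g⟩,
      sq g (R_le_Z4 hg), fun x _ => ucR hg x⟩, fun hg => lR g hg.2.1 hg.2.2⟩
  have c4 : Ch P (Z4 T) := Ch.of_iff (IvS.inv.inter c3.ivs.commP) fun g =>
    ⟨fun hg => ⟨hP.chain [R T, W T, Z T] (by simp [c1, c2, c3]) g ⟨fun x _ => ucZ4 hg x, st3 g⟩,
      sq g hg, fun x _ => ucZ4 hg x⟩, fun hg => lZ4 g hg.2.1 hg.2.2⟩
  have p5 : Z5 T ≤ P := fun g hg =>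
    hP.chain [Z4 T, R T, W T, Z T] (by simp [c1, c2, c3, c4]) g ⟨fun x _ => ucZ5 hg x, st4 g⟩
  have c5 : Ch P (Z5 T) := Ch.of_gen (IvS.inv.inter c4.ivs.commP)
    (fun g _ hg => (m2_VY h1 k8 hg.1 (Z4_le_Z5 (hg.2 h hh)) (Z4_le_Z5 (hg.2 k hk))).elim
      (fun e => V_le_Z5 e) fun e => Y_le_Z5 e)
    fun H e => Z5_le
      (fun g hg => e g (p5 (V_le_Z5 hg)) ⟨sqV g hg, fun x _ => ucZ5 (V_le_Z5 hg) x⟩)
      fun g hg => e g (p5 (Y_le_Z5 hg)) ⟨sqY g hg, fun x _ => ucZ5 (Y_le_Z5 hg) x⟩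
  have c6 : Ch P (J0 T) := Ch.of_iff (c4.ivs.sq.inter c5.ivs.commP) fun g =>
    ⟨fun hg => ⟨hP.chain [Z5 T, Z4 T, R T, W T, Z T] (by simp [c1, c2, c3, c4, c5]) g
      ⟨fun x _ => ucJ0 hg x, st5 g⟩, by
        obtain ⟨a, b, c, d⟩ := mem_J0.1 hg
        show g * g ∈ Z4 T
        simp [mem_Z4, sq_a1, sq_b2, sq_a2, sq_b4, sq_b6, sq_a7, sq_b8, sq_a8, a, b, c, d],
      fun x _ => ucJ0 hg x⟩, fun hg => by
      have s : g * g ∈ Z4 T := hg.2.1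
      obtain ⟨-, -, s2, -, -, -, -, s8⟩ := mem_Z4.1 s
      have ck : ⁅g, k⁆ ∈ Z5 T := hg.2.2 k hk
      have ch : ⁅g, h⁆ ∈ Z5 T := hg.2.2 h hh
      have b8 : g.b8 = 0 := nrm_eq_zero (by rwa [sq_a8] at s8)
      have a1 : g.a1 = 0 := by
        have := (mem_Z5.1 ck).2.1
        rw [cm_b2, b8, zero_mul, add_zero] at this
        exact (mul_eq_zero.1 this).resolve_right k8
      have b2 : g.b2 = 0 := nrm_eq_zero (T := T) (by simpa [sq_a2, a1, b8] using s2)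
      have a8 : g.a8 = 0 := by
        have := (mem_Z5.1 ch).2.2.2.1
        rw [cmZ7 ⟨a1, b8⟩] at this
        simp only [b2, zero_mul, add_zero] at this
        exact (mul_eq_zero.1 this).resolve_right h1
      exact mem_J0.2 ⟨a1, b2, b8, a8⟩⟩
  have c7 : Ch P (Z7 T) := Ch.of_iff (c6.ivs.sq.inter c6.ivs.commP) fun g =>
    ⟨fun hg => ⟨hP.chain [J0 T, Z5 T, Z4 T, R T, W T, Z T] (by simp [c1, c2, c3, c4, c5, c6]) g
      ⟨fun x _ => ucZ7 hg x, st6 g⟩, by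
        obtain ⟨a, b⟩ := mem_Z7.1 hg
        show g * g ∈ J0 T
        simp [mem_J0, sq_a1, sq_b2, sq_b8, sq_a8, a, b],
      fun x _ => ucZ7 hg x⟩, fun hg => by
      have s : g * g ∈ J0 T := hg.2.1
      have ck : ⁅g, k⁆ ∈ J0 T := hg.2.2 k hk
      have b8 : g.b8 = 0 := nrm_eq_zero (by have := (mem_J0.1 s).2.2.2; rwa [sq_a8] at this)
      have := (mem_J0.1 ck).2.1
      rw [cm_b2, b8, zero_mul, add_zero] at this
      exact ⟨(mul_eq_zero.1 this).resolve_right k8, b8⟩⟩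
  exact hP.ne (top_le_iff.1 fun g _ => hP.chain [Z7 T, J0 T, Z5 T, Z4 T, R T, W T, Z T]
    (by simp [c1, c2, c3, c4, c5, c6, c7]) g ⟨fun x _ => ucU g x, st7 g⟩)

end Cfsg.Agent.H75.VB
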