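import Cfsg.Agent.H42.VpDefs
import Cfsg.Agent.S4558
import Cfsg.Agent.S4456
import Cfsg.Agent.S0191

/-! Zeros of characters on elements of prime power order. -/

set_option autoImplicit false

namespace Cfsg.Agent.H75.VpDTZ

open Subgroup Cfsg Cfsg.Agent.H42.Vp

universe u

theorem d : DStmt.{u} := by
  intro G _ _ p hp χ g m hg h0
  haveI := Fact.mk hp
  obtain ⟨n, ρ, _, hχ⟩ := χ.2
  exact S4558.result p χ ⟨n, ρ, hχ⟩ g ⟨m, hg⟩ h0

theorem t (d : DStmt.{u}) : TStmt.{u} := by
  intro G _ _ p hp hv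
  refine S4456.result p hp fun χ h1 => ?_
  obtain ⟨n, ρ, hρ, hχ⟩ := χ.2
  have e1 : (χ : G → ℂ) 1 = (Module.finrank ℂ (Fin n → ℂ) : ℂ) := by
    rw [← hχ]; exact Representation.char_one ρ
  have e2 : charDegree (χ : G → ℂ) = Module.finrank ℂ (Fin n → ℂ) := by
    rw [charDegree, e1]; simp
  rcases lt_trichotomy 1 (Module.finrank ℂ (Fin n → ℂ)) with l | l | l
  · obtain ⟨g, hg⟩ := S0191.result ρ l
    have h0 : (χ : G → ℂ) g = 0 := by rw [← hχ]; exact hg
    obtain ⟨m, hm⟩ := hv g ⟨χ, χ.2, h0⟩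
    exact d G p hp χ g m hm h0
  · exact absurd (e2.trans l.symm) h1
  · rw [e2, Nat.lt_one_iff.1 l]; exact dvd_zero p

theorem z (z0 : Z0Stmt.{u}) : ZStmt.{u} := by
  intro G _ _ p hp
  haveI := Fact.mk hp
  induction hn : Nat.card G using Nat.strong_induction_on generalizing G with
  | _ n ih =>
  intro hG x hx
  have hnt : Nontrivial G := by
    by_contra h
    rw [not_nontrivial_iff_subsingleton] at h
    exact hx (by rw [Subsingleton.elim x 1]; exact one_mem _)
  haveI := hG.center_nontrivial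
  by_cases hc : QuotientGroup.mk' (center G) x ∈ center (G ⧸ center G)
  · obtain ⟨g, hg⟩ : ∃ g : G, g * x ≠ x * g := by
      by_contra h
      push Not at h
      exact hx (mem_center_iff.2 h)
    refine z0 G x g (x⁻¹ * (g * x * g⁻¹)) ?_ ?_ (by group)
    · rw [← QuotientGroup.ker_mk' (center G), MonoidHom.mem_ker]
      have := mem_center_iff.1 hc (QuotientGroup.mk' (center G) g)
      rw [map_mul, map_mul, map_mul, map_inv, map_inv, this]; group
    · intro h
      apply hg
      have h2 : g * x * g⁻¹ = x := (inv_mul_eq_one.1 h).symm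
      calc g * x = g * x * g⁻¹ * g := by group
        _ = x * g := by rw [h2]
  · have hlt : Nat.card (G ⧸ center G) < n := by
      rw [← hn, Subgroup.card_eq_card_quotient_mul_card_subgroup (center G)]
      exact lt_mul_of_one_lt_right Nat.card_pos Finite.one_lt_card
    exact H22.VanP.Van.comp _ (QuotientGroup.mk'_surjective _)
      (ih _ hlt (G ⧸ center G) rfl (hG.to_quotient _) _ hc)

end Cfsg.Agent.H75.VpDTZ
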