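import Mathlib
import Cfsg.Agent.H75.SumIrr
import Cfsg.Agent.H27.SympBasic

/-!
# The Weil representation of the symplectic group in odd characteristic
-/

namespace Cfsg.Agent.H75

open Module Matrix

section Linearise

variable {K : Type*} [Field K] {W : Type*} [AddCommGroup W] [Module K W]

theorem exists_smul_one_of_comm (T : End K W) (h : ∀ X, X * T = T * X) : ∃ c : K, T = c • 1 := by
  have : T ∈ Subalgebra.center K (End K W) := Subalgebra.mem_center_iff.mpr h
  rw [Algebra.IsCentral.center_eq_bot, Algebra.mem_bot] at this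
  obtain ⟨c, hc⟩ := this
  exact ⟨c, by rw [← hc, Algebra.algebraMap_eq_smul_one]⟩

open scoped Classical in
/-- The determinant of the restriction to an invariant subspace. -/
noncomputable def resDet (p : Submodule K W) (U : End K W) : K :=
  if h : ∀ x ∈ p, U x ∈ p then LinearMap.det (U.restrict h) else 0

theorem resDet_mul {p : Submodule K W} {U V : End K W} (hU : ∀ x ∈ p, U x ∈ p)
    (hV : ∀ x ∈ p, V x ∈ p) : resDet p (U * V) = resDet p U * resDet p V := by
  have hUV : ∀ x ∈ p, (U * V) x ∈ p := fun x hx => hU _ (hV x hx)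
  rw [resDet, resDet, resDet, dif_pos hU, dif_pos hV, dif_pos hUV, ← map_mul]
  rfl

theorem resDet_one (p : Submodule K W) : resDet p 1 = 1 := by
  have h : ∀ x ∈ p, (1 : End K W) x ∈ p := fun x hx => hx
  rw [resDet, dif_pos h]
  exact LinearMap.det_id

theorem resDet_smul {p : Submodule K W} [FiniteDimensional K p] {U : End K W}
    (hU : ∀ x ∈ p, U x ∈ p) (c : K) : resDet p (c • U) = c ^ finrank K p * resDet p U := by
  have hcU : ∀ x ∈ p, (c • U) x ∈ p := fun x hx => p.smul_mem c (hU x hx)
  rw [resDet, resDet, dif_pos hU, dif_pos hcU, ← LinearMap.det_smul]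
  rfl

theorem exists_rep_of_algAut [FiniteDimensional K W] {G : Type*} [Group G]
    (α : G →* (End K W ≃ₐ[K] End K W)) (σ : End K W) (hσ : ∀ g, α g σ = σ)
    (hd : finrank K (σ.eigenspace 1) = finrank K (σ.eigenspace (-1)) + 1) :
    ∃ ρ : Representation K G W, ∀ g X, ρ g * X = α g X * ρ g := by
  choose U hU using fun g => (α g).eq_linearEquivConjAlgEquiv
  have hU' : ∀ g X, (U g : End K W) * X = α g X * U g := by
    intro g X
    ext v
    simp [hU, LinearEquiv.conjAlgEquiv_apply]
  let P : End K W → Prop := fun T => ∀ c : K, ∀ x ∈ σ.eigenspace c, T x ∈ σ.eigenspace c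
  have hP : ∀ T : End K W, T * σ = σ * T → P T := by
    intro T hT c x hx
    rw [End.mem_eigenspace_iff] at hx ⊢
    rw [← End.mul_apply, ← hT, End.mul_apply, hx, map_smul]
  have hPU : ∀ g, P (U g) := fun g => hP _ (by rw [hU', hσ])
  have hPU' : ∀ g, P (U g).symm := fun g => hP _ (by
    ext v
    apply (U g).injective
    have := LinearMap.congr_fun (hU' g σ) ((U g).symm v)
    simpa [hσ] using this.symm)
  have hne : ∀ g c, resDet (σ.eigenspace c) (U g) ≠ 0 := by
    intro g c
    have := resDet_mul (hPU g c) (hPU' g c)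
    rw [show (U g : End K W) * (U g).symm = 1 by ext; simp, resDet_one] at this
    exact left_ne_zero_of_mul_eq_one this.symm
  let lam : End K W → K := fun T => resDet (σ.eigenspace (-1)) T / resDet (σ.eigenspace 1) T
  have hlam : ∀ (T : End K W) (c : K), c ≠ 0 → P T → lam (c • T) • (c • T) = lam T • T := by
    intro T c hc hT
    simp only [lam]
    rw [resDet_smul (hT _), resDet_smul (hT _), hd, smul_smul]
    congr 1
    field_simp
    ring
  have key : ∀ (g : G) (T : End K W), IsUnit T → P T → (∀ X, T * X = α g X * T) →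
      lam (U g) • (U g : End K W) = lam T • T := by
    intro g T hT hPT h
    obtain ⟨T, rfl⟩ := hT
    obtain ⟨c, hc⟩ := exists_smul_one_of_comm (((T⁻¹ : (End K W)ˣ) : End K W) *
      (U g : End K W)) (fun X => by
      rw [mul_assoc, hU', ← mul_assoc, ← mul_assoc]
      congr 1
      rw [Units.mul_inv_eq_iff_eq_mul, mul_assoc, ← h, Units.inv_mul_cancel_left])
    have h1 : (U g : End K W) = c • (T : End K W) := by
      rw [Units.inv_mul_eq_iff_eq_mul] at hc
      rw [hc, mul_smul_comm, mul_one]
    have hc0 : c ≠ 0 := by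
      rintro rfl
      have := hne g 1
      rw [h1, resDet_smul (hPT _), hd] at this
      simp at this
    rw [h1, hlam _ c hc0 hPT]
  have hunit : ∀ g, IsUnit (U g : End K W) := fun g => (End.isUnit_iff _).mpr (U g).bijective
  refine ⟨⟨⟨fun g => lam (U g) • (U g : End K W), ?_⟩, fun g h => ?_⟩, fun g X => ?_⟩
  · rw [key 1 1 isUnit_one (fun c x hx => hx) (fun X => by simp)]
    simp [lam, resDet_one]
  · show lam (U (g * h)) • (U (g * h) : End K W) =
      (lam (U g) • (U g : End K W)) * (lam (U h) • (U h : End K W))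
    rw [key (g * h) (U g * U h) ((hunit g).mul (hunit h)) (fun c x hx => hPU g c _ (hPU h c x hx))
      (fun X => by rw [mul_assoc, hU' h, ← mul_assoc, hU' g, map_mul α, mul_assoc]; rfl)]
    simp only [lam]
    rw [resDet_mul (hPU g _) (hPU h _), resDet_mul (hPU g _) (hPU h _), smul_mul_smul_comm,
      mul_div_mul_comm]
  · show lam (U g) • (U g : End K W) * X = α g X * (lam (U g) • (U g : End K W))
    rw [smul_mul_assoc, mul_smul_comm, hU']

theorem finrank_eigenspace_of_invol [FiniteDimensional K W] [CharZero K] (σ : End K W)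
    (hσ : σ * σ = 1) (ε : K) (hε : ε * ε = 1) :
    2 * (finrank K (σ.eigenspace ε) : K) = finrank K W + ε * LinearMap.trace K W σ := by
  have h : LinearMap.IsProj (σ.eigenspace ε) ((2 : K)⁻¹ • (1 + ε • σ)) := by
    constructor
    · intro x
      rw [End.mem_eigenspace_iff]
      have : σ (σ x) = x := LinearMap.congr_fun hσ x
      simp only [LinearMap.smul_apply, LinearMap.add_apply, End.one_apply, map_smul, map_add, this,
        smul_add, smul_smul]
      rw [add_comm]
      congr 2
      · ring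
      · linear_combination -(2 : K)⁻¹ * hε
    · intro x hx
      rw [End.mem_eigenspace_iff] at hx
      simp only [LinearMap.smul_apply, LinearMap.add_apply, End.one_apply, hx, smul_smul, hε,
        one_smul]
      rw [← two_smul K x, smul_smul, inv_mul_cancel₀ two_ne_zero, one_smul]
  rw [← h.trace, map_smul, map_add, map_smul, LinearMap.trace_one, smul_eq_mul, smul_eq_mul,
    mul_inv_cancel_left₀ two_ne_zero]

theorem isCompl_eigenspace_of_invol [CharZero K] (σ : End K W) (hσ : σ * σ = 1) :
    IsCompl (σ.eigenspace 1) (σ.eigenspace (-1)) := by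
  constructor
  · exact σ.eigenspaces_iSupIndep.pairwiseDisjoint (by norm_num : (1 : K) ≠ -1)
  · rw [codisjoint_iff, eq_top_iff]
    rintro x -
    have h : σ (σ x) = x := LinearMap.congr_fun hσ x
    have : x = (2 : K)⁻¹ • (x + σ x) + (2 : K)⁻¹ • (x - σ x) := by
      rw [← smul_add, add_add_sub_cancel, ← two_smul K x, smul_smul, inv_mul_cancel₀ two_ne_zero,
        one_smul]
    rw [this]
    refine Submodule.add_mem_sup (Submodule.smul_mem _ _ ?_) (Submodule.smul_mem _ _ ?_)
    · rw [End.mem_eigenspace_iff, map_add, h, one_smul, add_comm]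
    · rw [End.mem_eigenspace_iff, map_sub, h, neg_one_smul, neg_sub]

end Linearise

variable {l : Type*} [Fintype l] [DecidableEq l] {F : Type*} [Field F] (ψ : AddChar F ℂ)

/-- The Heisenberg operators. -/
def heis (v : l ⊕ l → F) : End ℂ ((l → F) → ℂ) where
  toFun f x := ψ ((v ∘ Sum.inr) ⬝ᵥ x + 2⁻¹ * ((v ∘ Sum.inl) ⬝ᵥ (v ∘ Sum.inr))) * f (x + v ∘ Sum.inl)
  map_add' f g := by ext x; simp [mul_add]
  map_smul' c f := by ext x; simp [mul_left_comm]

omit [DecidableEq l] in
theorem heis_apply (v : l ⊕ l → F) (f : (l → F) → ℂ) (x : l → F) :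
    heis ψ v f x = ψ ((v ∘ Sum.inr) ⬝ᵥ x + 2⁻¹ * ((v ∘ Sum.inl) ⬝ᵥ (v ∘ Sum.inr))) *
      f (x + v ∘ Sum.inl) := rfl

theorem jBilin_eq_dot (u v : l ⊕ l → F) : H27.jBilin l F u v =
    (u ∘ Sum.inr) ⬝ᵥ (v ∘ Sum.inl) - (u ∘ Sum.inl) ⬝ᵥ (v ∘ Sum.inr) := by
  rw [H27.jBilin_apply_sum, Finset.sum_sub_distrib]; rfl

theorem heis_mul (h2 : (2 : F) ≠ 0) (u v : l ⊕ l → F) :
    heis ψ u * heis ψ v = ψ (-(2⁻¹ * H27.jBilin l F u v)) • heis ψ (u + v) := by
  refine LinearMap.ext fun f => funext fun x => ?_
  rw [End.mul_apply, heis_apply, heis_apply, LinearMap.smul_apply, Pi.smul_apply, heis_apply,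
    smul_eq_mul, ← mul_assoc, ← mul_assoc, ← AddChar.map_add_eq_mul, ← AddChar.map_add_eq_mul,
    jBilin_eq_dot]
  have e1 : (u + v) ∘ Sum.inl = u ∘ Sum.inl + v ∘ Sum.inl := rfl
  have e2 : (u + v) ∘ Sum.inr = u ∘ Sum.inr + v ∘ Sum.inr := rfl
  rw [e1, e2, add_assoc x]
  congr 2
  simp only [dotProduct_add, add_dotProduct, dotProduct_comm (v ∘ Sum.inr) (u ∘ Sum.inl),
    dotProduct_comm (v ∘ Sum.inl) (u ∘ Sum.inr)]
  field_simp
  ring

omit [DecidableEq l] in
theorem heis_zero : heis ψ (0 : l ⊕ l → F) = 1 := by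
  refine LinearMap.ext fun f => funext fun x => ?_
  rw [heis_apply]
  simp

theorem heis_mul_neg (h2 : (2 : F) ≠ 0) (v : l ⊕ l → F) : heis ψ v * heis ψ (-v) = 1 := by
  rw [heis_mul ψ h2, add_neg_cancel, heis_zero, LinearMap.map_neg, H27.jBilin_isAlt.self_eq_zero]
  simp

theorem heis_conj (h2 : (2 : F) ≠ 0) (t s : l ⊕ l → F) :
    heis ψ t * heis ψ s * heis ψ (-t) = ψ (H27.jBilin l F s t) • heis ψ s := by
  rw [heis_mul ψ h2, smul_mul_assoc, heis_mul ψ h2, smul_smul, ← AddChar.map_add_eq_mul,
    add_neg_cancel_comm, LinearMap.map_neg, LinearMap.map_add, LinearMap.add_apply, H27.jBilin_isAlt.self_eq_zero,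
    ← H27.jBilin_isAlt.neg_eq s t]
  congr 2
  field_simp
  ring

variable {ψ}

theorem linearIndependent_heis [Finite F] (h2 : (2 : F) ≠ 0) (hψ : ψ ≠ 1) :
    LinearIndependent ℂ (heis ψ : (l ⊕ l → F) → _) := by
  refine linearIndependent_of_eigen
    (fun t => LinearMap.mulLeftRight ℂ (heis ψ t, heis ψ (-t)))
    (fun s t => ψ (H27.jBilin l F s t)) ?_ _ (fun s h => ?_) (fun s t => heis_conj ψ h2 t s)
  · intro s s' h
    by_contra hne
    obtain ⟨r, hr⟩ := AddChar.ne_one_iff.mp hψ
    obtain ⟨t, ht⟩ : ∃ t, H27.jBilin l F (s - s') t ≠ 0 := by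
      by_contra hc
      push Not at hc
      exact hne (sub_eq_zero.mp (H27.jBilin_nondegenerate.1 _ hc))
    have h1 := congrFun h ((r / H27.jBilin l F (s - s') t) • t)
    simp only at h1
    have h3 : H27.jBilin l F s ((r / H27.jBilin l F (s - s') t) • t) =
        r + H27.jBilin l F s' ((r / H27.jBilin l F (s - s') t) • t) := by
      rw [← sub_eq_iff_eq_add, ← LinearMap.sub_apply, ← map_sub, map_smul, smul_eq_mul,
        div_mul_cancel₀ _ ht]
    rw [h3, AddChar.map_add_eq_mul] at h1
    exact hr (mul_right_cancel₀ (ψ.val_isUnit _).ne_zero (h1.trans (one_mul _).symm))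
  · have := heis_mul_neg ψ h2 s
    rw [h, zero_mul] at this
    exact zero_ne_one this

variable (l) in
/-- The Heisenberg operators form a basis of the endomorphism algebra. -/
noncomputable def heisBasis [Fintype F] (h2 : (2 : F) ≠ 0) (hψ : ψ ≠ 1) :
    Basis (l ⊕ l → F) ℂ (End ℂ ((l → F) → ℂ)) :=
  basisOfLinearIndependentOfCardEqFinrank (linearIndependent_heis h2 hψ) (by
    rw [Module.finrank_linearMap, Module.finrank_fintype_fun_eq_card, Fintype.card_fun,
      Fintype.card_fun, Fintype.card_sum, pow_add])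

theorem heisBasis_apply [Fintype F] (h2 : (2 : F) ≠ 0) (hψ : ψ ≠ 1) (v : l ⊕ l → F) :
    heisBasis l h2 hψ v = heis ψ v := by
  rw [heisBasis, coe_basisOfLinearIndependentOfCardEqFinrank]

/-- The automorphism of the endomorphism algebra induced by a symplectic matrix. -/
noncomputable def heisAut [Fintype F] (h2 : (2 : F) ≠ 0) (hψ : ψ ≠ 1) (g : symplecticGroup l F) :
    End ℂ ((l → F) → ℂ) ≃ₐ[ℂ] End ℂ ((l → F) → ℂ) :=
  AlgEquiv.ofLinearEquiv ((heisBasis l h2 hψ).equiv (heisBasis l h2 hψ) (MulAction.toPerm g))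
    (by
      rw [← heis_zero ψ, ← heisBasis_apply h2 hψ, Basis.equiv_apply, MulAction.toPerm_apply,
        smul_zero])
    (fun X Y => by
      have key := (LinearMap.map_mul_iff (((heisBasis l h2 hψ).equiv (heisBasis l h2 hψ)
        (MulAction.toPerm g)).toLinearMap)).mpr (by
          refine (heisBasis l h2 hψ).ext fun u => (heisBasis l h2 hψ).ext fun v => ?_
          simp only [LinearMap.compr₂_apply, LinearMap.mul_apply', LinearEquiv.coe_coe,
            LinearMap.compl₁₂_apply, LinearMap.comp_apply, LinearMap.compl₂_apply,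
            Basis.equiv_apply, MulAction.toPerm_apply]
          rw [heisBasis_apply, heisBasis_apply, heisBasis_apply, heisBasis_apply, heis_mul ψ h2,
            heis_mul ψ h2, map_smul, ← heisBasis_apply h2 hψ, Basis.equiv_apply, heisBasis_apply,
            MulAction.toPerm_apply, smul_add, H27.sp_smul_def, H27.sp_smul_def, H27.jBilin_sp])
      exact key X Y)

theorem heisAut_heis [Fintype F] (h2 : (2 : F) ≠ 0) (hψ : ψ ≠ 1) (g : symplecticGroup l F)
    (v : l ⊕ l → F) : heisAut h2 hψ g (heis ψ v) = heis ψ (g • v) := by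
  rw [← heisBasis_apply h2 hψ, ← heisBasis_apply h2 hψ]
  exact Basis.equiv_apply _ _ _ _

variable (l) in
/-- The action of the symplectic group on the endomorphism algebra. -/
noncomputable def heisAutHom [Fintype F] (h2 : (2 : F) ≠ 0) (hψ : ψ ≠ 1) :
    symplecticGroup l F →* (End ℂ ((l → F) → ℂ) ≃ₐ[ℂ] End ℂ ((l → F) → ℂ)) :=
  MonoidHom.mk' (heisAut h2 hψ) fun g h => by
    apply AlgEquiv.toLinearMap_injective
    refine (heisBasis l h2 hψ).ext fun v => ?_
    rw [heisBasis_apply, AlgEquiv.toLinearMap_apply, AlgEquiv.toLinearMap_apply,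
      AlgEquiv.mul_apply, heisAut_heis, heisAut_heis, heisAut_heis, mul_smul]

variable (l F) in
/-- The parity operator. -/
noncomputable def parity : End ℂ ((l → F) → ℂ) := H11.permRep ℤˣ (l → F) (-1)

omit [Fintype l] [DecidableEq l] in
theorem parity_apply (f : (l → F) → ℂ) (x : l → F) : parity l F f x = f (-x) := by
  rw [parity, H11.permRep_apply]; simp

omit [Fintype l] [DecidableEq l] in
theorem parity_mul_self : parity l F * parity l F = 1 := by
  refine LinearMap.ext fun f => funext fun x => ?_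
  rw [End.mul_apply, parity_apply, parity_apply, neg_neg, End.one_apply]

omit [DecidableEq l] in
theorem parity_mul_heis (v : l ⊕ l → F) : parity l F * heis ψ v = heis ψ (-v) * parity l F := by
  refine LinearMap.ext fun f => funext fun x => ?_
  rw [End.mul_apply, End.mul_apply, parity_apply, heis_apply, heis_apply, parity_apply]
  have e1 : (-v) ∘ Sum.inl = -(v ∘ Sum.inl) := rfl
  have e2 : (-v) ∘ Sum.inr = -(v ∘ Sum.inr) := rfl
  rw [e1, e2]
  simp [add_comm]

omit [DecidableEq l] in
theorem trace_parity [Finite F] (h2 : (2 : F) ≠ 0) : LinearMap.trace ℂ _ (parity l F) = 1 := by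
  have := H11.permRep_character (G := ℤˣ) (l → F) (-1)
  rw [parity]
  refine this.trans ?_
  rw [Nat.cast_eq_one, Nat.card_eq_one_iff_unique]
  refine ⟨⟨fun x y => Subtype.ext ?_⟩, ⟨⟨0, by simp⟩⟩⟩
  have key : ∀ x : MulAction.fixedBy (l → F) (-1 : ℤˣ), x.1 = 0 := by
    intro x
    have hx : -x.1 = x.1 := by
      have : (-1 : ℤˣ) • x.1 = x.1 := x.2
      simpa using this
    have : (2 : F) • x.1 = 0 := by rw [two_smul]; exact neg_eq_iff_add_eq_zero.mp hx
    exact (smul_eq_zero.mp this).resolve_left h2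
  rw [key, key]

theorem heisAut_parity [Fintype F] (h2 : (2 : F) ≠ 0) (hψ : ψ ≠ 1) (g : symplecticGroup l F) :
    heisAut h2 hψ g (parity l F) = parity l F := by
  have h1 : ∀ v, heisAut h2 hψ g (parity l F) * heis ψ v =
      heis ψ (-v) * heisAut h2 hψ g (parity l F) := by
    intro v
    have := congrArg (heisAut h2 hψ g) (parity_mul_heis (ψ := ψ) (g⁻¹ • v))
    rwa [map_mul, map_mul, heisAut_heis, heisAut_heis, smul_neg, smul_inv_smul] at this
  obtain ⟨c, hc⟩ := exists_smul_one_of_comm (parity l F * heisAut h2 hψ g (parity l F)) (by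
    intro X
    have : LinearMap.mulRight ℂ (parity l F * heisAut h2 hψ g (parity l F)) =
        LinearMap.mulLeft ℂ (parity l F * heisAut h2 hψ g (parity l F)) := by
      refine (heisBasis l h2 hψ).ext fun v => ?_
      rw [heisBasis_apply, LinearMap.mulRight_apply, LinearMap.mulLeft_apply, mul_assoc, h1,
        ← mul_assoc, ← mul_assoc, parity_mul_heis, neg_neg]
    exact LinearMap.congr_fun this X)
  have h3 : heisAut h2 hψ g (parity l F) = c • parity l F := by
    have : parity l F * _ = parity l F * _ := congrArg (parity l F * ·) hc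
    rwa [← mul_assoc, parity_mul_self, one_mul, mul_smul_comm, mul_one] at this
  have h4 := LinearMap.trace_map (heisAut h2 hψ g) (parity l F)
  rw [h3, map_smul, trace_parity h2, smul_eq_mul, mul_one] at h4
  rw [h3, h4, one_smul]

theorem two_mul_finrank_parity [Fintype F] (h2 : (2 : F) ≠ 0) :
    2 * finrank ℂ ((parity l F).eigenspace 1) = Fintype.card F ^ Fintype.card l + 1 ∧
    2 * finrank ℂ ((parity l F).eigenspace (-1)) + 1 = Fintype.card F ^ Fintype.card l := by
  have h1 := finrank_eigenspace_of_invol (parity l F) parity_mul_self 1 (by simp)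
  have h3 := finrank_eigenspace_of_invol (parity l F) parity_mul_self (-1) (by simp)
  rw [trace_parity h2, Module.finrank_fintype_fun_eq_card, Fintype.card_fun, mul_one] at h1 h3
  rw [← sub_eq_add_neg, eq_sub_iff_add_eq] at h3
  exact ⟨by exact_mod_cast h1, by exact_mod_cast h3⟩

theorem exists_weilSp [Fintype F] (h2 : (2 : F) ≠ 0) (hψ : ψ ≠ 1) :
    ∃ ρ : Representation ℂ (symplecticGroup l F) ((l → F) → ℂ),
      (∀ g v, ρ g * heis ψ v = heis ψ (g • v) * ρ g) ∧ ∀ g, ρ g * parity l F = parity l F * ρ g := by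
  obtain ⟨ρ, hρ⟩ := exists_rep_of_algAut (heisAutHom l h2 hψ) (parity l F) (heisAut_parity h2 hψ)
    (by have := two_mul_finrank_parity (l := l) h2; omega)
  refine ⟨ρ, fun g v => ?_, fun g => ?_⟩
  · rw [hρ, ← heisAut_heis h2 hψ]; rfl
  · rw [hρ]
    congr 1
    exact heisAut_parity h2 hψ g

theorem weilSp_char_mul [Fintype F] (h2 : (2 : F) ≠ 0) (hψ : ψ ≠ 1)
    (ρ : Representation ℂ (symplecticGroup l F) ((l → F) → ℂ))
    (hρ : ∀ g v, ρ g * heis ψ v = heis ψ (g • v) * ρ g) (g : symplecticGroup l F) :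
    ρ.character g⁻¹ * ρ.character g = H11.permChar _ (l ⊕ l → F) g := by
  classical
  rw [← Representation.char_linHom, H11.permChar_apply, ← H11.permRep_character,
    Representation.character, Representation.character,
    ← LinearMap.trace_conj' (H11.permRep _ _ g) (heisBasis l h2 hψ).equivFun.symm]
  congr 1
  refine (heisBasis l h2 hψ).ext fun v => ?_
  rw [LinearEquiv.conj_apply_apply, LinearEquiv.symm_symm, Representation.linHom_apply,
    LinearEquiv.eq_symm_apply]
  have : ρ g ∘ₗ heisBasis l h2 hψ v ∘ₗ ρ g⁻¹ = heisBasis l h2 hψ (g • v) := by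
    rw [heisBasis_apply, heisBasis_apply, ← End.mul_eq_comp, ← End.mul_eq_comp, ← mul_assoc, hρ,
      mul_assoc, ← map_mul, mul_inv_cancel, map_one, mul_one]
  rw [this]
  ext w
  rw [H11.permRep_apply, Basis.equivFun_self, Basis.equivFun_self]
  simp only [eq_inv_smul_iff]

theorem card_orbits_sp_le [Finite F] :
    Nat.card (MulAction.orbitRel.Quotient (symplecticGroup l F) (l ⊕ l → F)) ≤ 2 := by
  classical
  by_cases h : ∃ v : l ⊕ l → F, v ≠ 0
  · obtain ⟨v, hv⟩ := h
    have := Nat.card_le_card_of_surjective (fun b : Bool => (Quotient.mk _ (if b then 0 else v) :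
        MulAction.orbitRel.Quotient (symplecticGroup l F) (l ⊕ l → F))) (by
      intro x
      obtain ⟨w, rfl⟩ := Quotient.exists_rep x
      by_cases hw : w = 0
      · exact ⟨true, by simp [hw]⟩
      · obtain ⟨g, -, hg⟩ := H27.sp_exists_mulVec_eq ⊤ (fun _ _ => trivial) hw hv
        exact ⟨false, Quotient.sound ⟨g, hg⟩⟩)
    simpa using this
  · push Not at h
    have : Subsingleton (l ⊕ l → F) := ⟨fun a b => by rw [h a, h b]⟩
    exact (Finite.card_le_one_iff_subsingleton.mpr inferInstance).trans one_le_two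

/-- The two constituents of the Weil representation are irreducible. -/
theorem weilSp_irr [Fintype F] [Nonempty l] (h2 : (2 : F) ≠ 0) (hψ : ψ ≠ 1)
    (ρ : Representation ℂ (symplecticGroup l F) ((l → F) → ℂ))
    (hρ : ∀ g v, ρ g * heis ψ v = heis ψ (g • v) * ρ g)
    (hp : ∀ (c : ℂ) g, (parity l F).eigenspace c ≤ ((parity l F).eigenspace c).comap (ρ g)) :
    (ρ.subrepresentation _ (hp 1)).IsIrreducible ∧ (ρ.subrepresentation _ (hp (-1))).IsIrreducible ∧
      ρ.character = (ρ.subrepresentation _ (hp 1)).character +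
        (ρ.subrepresentation _ (hp (-1))).character := by
  classical
  have hG : Fintype (symplecticGroup l F) := Fintype.ofFinite _
  have hsum : ρ.character = (ρ.subrepresentation _ (hp 1)).character +
      (ρ.subrepresentation _ (hp (-1))).character :=
    H11.character_eq_add_of_isCompl ρ ⟨_, fun g _ hv => hp 1 g hv⟩ ⟨_, fun g _ hv => hp (-1) g hv⟩
      (isCompl_eigenspace_of_invol _ parity_mul_self)
  obtain ⟨h3, h4⟩ := two_mul_finrank_parity (l := l) h2
  have h5 : 1 < Fintype.card F ^ Fintype.card l :=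
    Nat.one_lt_pow Fintype.card_ne_zero Fintype.one_lt_card
  have h := irr_of_sum_of_classInner_le ![(ρ.subrepresentation _ (hp 1)).character,
      (ρ.subrepresentation _ (hp (-1))).character]
    (fun i => by fin_cases i <;> exact H11.isCharacter_character _)
    (fun i h => by
      have := congrFun h 1
      fin_cases i <;> simp at this <;> rw [← Submodule.finrank_eq_zero] at this <;> omega)
    (n := Nat.card (MulAction.orbitRel.Quotient (symplecticGroup l F) (l ⊕ l → F))) (by
      rw [Fin.sum_univ_two]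
      simp only [Matrix.cons_val_zero, Matrix.cons_val_one]
      rw [← hsum, H11.classInner_eq_sum_inv (H11.isCharacter_character ρ),
        ← H11.classInner_permChar_one, H11.classInner_one_right]
      congr 1
      exact Finset.sum_congr rfl fun g _ => by rw [mul_comm, weilSp_char_mul h2 hψ ρ hρ])
    (by rw [Fintype.card_fin]; exact card_orbits_sp_le)
  exact ⟨(H11.isIrreducible_iff_isIrrCharacter _).mpr (h.1 0),
    (H11.isIrreducible_iff_isIrrCharacter _).mpr (h.1 1), hsum⟩

omit [Fintype l] [DecidableEq l] in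
theorem eigenspace_parity_invariant {G : Type*} [Group G]
    (ρ : Representation ℂ G ((l → F) → ℂ)) (h : ∀ g, ρ g * parity l F = parity l F * ρ g)
    (c : ℂ) (g : G) : (parity l F).eigenspace c ≤ ((parity l F).eigenspace c).comap (ρ g) := by
  intro x hx
  rw [Submodule.mem_comap, End.mem_eigenspace_iff]
  rw [End.mem_eigenspace_iff] at hx
  rw [← End.mul_apply, ← h, End.mul_apply, hx, map_smul]

end Cfsg.Agent.H75
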